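/-
Gram matrices of polar forms of quadratic maps: nondegeneracy, change of variables, square classes.
-/
import Mathlib

set_option autoImplicit false

namespace Cfsg.Agent.QForm

open scoped Matrix

variable {F V : Type*} [Field F] [AddCommGroup V] [Module F V] {ι : Type*} [Fintype ι] [DecidableEq ι]

/-- The Gram matrix of the polar form of `Q` on the family `b`. -/
def gram (Q : V → F) (b : ι → V) : Matrix ι ι F :=
  Matrix.of fun i j => QuadraticMap.polar Q (b i) (b j)

theorem gram_eq_toMatrix (Q : QuadraticForm F V) (b : Module.Basis ι F V) :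
    gram ⇑Q ⇑b = LinearMap.BilinForm.toMatrix b (QuadraticMap.polarBilin Q) := by
  ext i j
  simp [gram, LinearMap.BilinForm.toMatrix_apply]

theorem det_gram_ne_zero {Q : QuadraticForm F V} (hQ : (QuadraticMap.polarBilin Q).Nondegenerate)
    (b : Module.Basis ι F V) : (gram ⇑Q ⇑b).det ≠ 0 := by
  rw [gram_eq_toMatrix]
  exact (LinearMap.BilinForm.nondegenerate_iff_det_ne_zero b).1 hQ

/-- Change of basis multiplies the determinant of the Gram matrix by a nonzero square. -/
theorem det_gram_change {κ : Type*} [Fintype κ] [DecidableEq κ] (Q : QuadraticForm F V)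
    (b : Module.Basis ι F V) (c : Module.Basis κ F V) :
    ∃ u : F, u ≠ 0 ∧ (gram ⇑Q ⇑c).det = u ^ 2 * (gram ⇑Q ⇑b).det := by
  obtain e : ι ≃ κ := b.indexEquiv c
  have h1 : (gram ⇑Q ⇑c).det = (gram ⇑Q ⇑(c.reindex e.symm)).det := by
    rw [← Matrix.det_submatrix_equiv_self e (gram ⇑Q ⇑c)]
    congr 1
    ext i j
    simp [gram]
  refine ⟨(b.toMatrix (c.reindex e.symm)).det, ?_, ?_⟩
  · have := b.invertibleToMatrix (c.reindex e.symm)
    exact (Matrix.isUnit_det_of_invertible _).ne_zero
  · rw [h1, gram_eq_toMatrix, gram_eq_toMatrix,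
      ← LinearMap.BilinForm.toMatrix_mul_basis_toMatrix (b := b) (c.reindex e.symm),
      Matrix.det_mul, Matrix.det_mul, Matrix.det_transpose]
    ring

theorem isSquare_gram_change {κ : Type*} [Fintype κ] [DecidableEq κ] (Q : QuadraticForm F V)
    (b : Module.Basis ι F V) (c : Module.Basis κ F V) :
    IsSquare (gram ⇑Q ⇑c).det ↔ IsSquare (gram ⇑Q ⇑b).det := by
  obtain ⟨u, hu, h⟩ := det_gram_change Q b c
  rw [h]
  constructor
  · rintro ⟨r, hr⟩
    exact ⟨r / u, by field_simp; linear_combination hr⟩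
  · rintro ⟨r, hr⟩
    exact ⟨u * r, by rw [hr]; ring⟩

/-- A similarity of multiplier `c` relates the determinants of the Gram matrices. -/
theorem det_gram_similarity {W : Type*} [AddCommGroup W] [Module F W] (Q : QuadraticForm F V)
    (Q' : QuadraticForm F W) (g : W ≃ₗ[F] V) (c : F) (hg : ∀ w, Q (g w) = c * Q' w)
    (b : Module.Basis ι F W) :
    (gram ⇑Q ⇑(b.map g)).det = c ^ Fintype.card ι * (gram ⇑Q' ⇑b).det := by
  rw [← Matrix.det_smul]
  congr 1
  ext i j
  simp only [gram, Module.Basis.map_apply, Matrix.of_apply, Matrix.smul_apply, smul_eq_mul,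
    QuadraticMap.polar, ← map_add, hg]
  ring

end Cfsg.Agent.QForm
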