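/-
The hyperbolic and elliptic forms of `Def_Classical` as quadratic forms, their polar forms and discriminants.
-/
import Mathlib
import Cfsg.Prelude.Def_Classical
import Cfsg.Agent.Lib.QForm.Gram

set_option autoImplicit false

namespace Cfsg.Agent.QForm

open scoped Matrix

variable (F : Type*) [Field F]

/-- `quadFormPlus` as a quadratic form. -/
def plusForm (m : ℕ) : QuadraticForm F (Fin m ⊕ Fin m → F) :=
  ∑ i : Fin m, QuadraticMap.proj (Sum.inl i) (Sum.inr i)

theorem plusForm_apply (m : ℕ) (v : Fin m ⊕ Fin m → F) : plusForm F m v = quadFormPlus m F v := by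
  simp [plusForm, quadFormPlus, QuadraticMap.proj_apply]

theorem coe_plusForm (m : ℕ) : ⇑(plusForm F m) = quadFormPlus m F := funext (plusForm_apply F m)

/-- `quadFormMinus` as a quadratic form. -/
def minusForm (m : ℕ) (a b : F) : QuadraticForm F ((Fin m ⊕ Fin m) ⊕ Fin 2 → F) :=
  (∑ i : Fin m, QuadraticMap.proj (Sum.inl (Sum.inl i)) (Sum.inl (Sum.inr i))) +
    (QuadraticMap.proj (Sum.inr 0) (Sum.inr 0) + a • QuadraticMap.proj (Sum.inr 0) (Sum.inr 1) +
      b • QuadraticMap.proj (Sum.inr 1) (Sum.inr 1))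

theorem minusForm_apply (m : ℕ) (a b : F) (v : (Fin m ⊕ Fin m) ⊕ Fin 2 → F) :
    minusForm F m a b v = quadFormMinus m F a b v := by
  simp [minusForm, quadFormMinus, QuadraticMap.proj_apply]
  ring

theorem coe_minusForm (m : ℕ) (a b : F) : ⇑(minusForm F m a b) = quadFormMinus m F a b :=
  funext (minusForm_apply F m a b)

theorem polar_plus (m : ℕ) (u v : Fin m ⊕ Fin m → F) :
    QuadraticMap.polar (quadFormPlus m F) u v =
      ∑ i, (u (.inl i) * v (.inr i) + u (.inr i) * v (.inl i)) := by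
  simp only [QuadraticMap.polar, quadFormPlus, Pi.add_apply, ← Finset.sum_sub_distrib]
  exact Finset.sum_congr rfl fun i _ => by ring

theorem polar_minus (m : ℕ) (a b : F) (u v : (Fin m ⊕ Fin m) ⊕ Fin 2 → F) :
    QuadraticMap.polar (quadFormMinus m F a b) u v =
      (∑ i, (u (.inl (.inl i)) * v (.inl (.inr i)) + u (.inl (.inr i)) * v (.inl (.inl i)))) +
        (2 * u (.inr 0) * v (.inr 0) + a * (u (.inr 0) * v (.inr 1) + u (.inr 1) * v (.inr 0)) +
          2 * b * u (.inr 1) * v (.inr 1)) := by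
  have h : ∀ i : Fin m,
      (u (.inl (.inl i)) + v (.inl (.inl i))) * (u (.inl (.inr i)) + v (.inl (.inr i))) =
      u (.inl (.inl i)) * u (.inl (.inr i)) + v (.inl (.inl i)) * v (.inl (.inr i)) +
        (u (.inl (.inl i)) * v (.inl (.inr i)) + u (.inl (.inr i)) * v (.inl (.inl i))) :=
    fun i => by ring
  simp only [QuadraticMap.polar, quadFormMinus, Pi.add_apply]
  rw [Finset.sum_congr rfl (fun i _ => h i), Finset.sum_add_distrib, Finset.sum_add_distrib]
  ring

theorem polar_odd (m : ℕ) (u v : Unit ⊕ (Fin m ⊕ Fin m) → F) :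
    QuadraticMap.polar (quadFormOdd m F) u v = 2 * u (.inl ()) * v (.inl ()) +
      ∑ i, (u (.inr (.inl i)) * v (.inr (.inr i)) + u (.inr (.inr i)) * v (.inr (.inl i))) := by
  have h : ∀ i : Fin m,
      (u (.inr (.inl i)) + v (.inr (.inl i))) * (u (.inr (.inr i)) + v (.inr (.inr i))) =
      u (.inr (.inl i)) * u (.inr (.inr i)) + v (.inr (.inl i)) * v (.inr (.inr i)) +
        (u (.inr (.inl i)) * v (.inr (.inr i)) + u (.inr (.inr i)) * v (.inr (.inl i))) :=
    fun i => by ring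
  simp only [QuadraticMap.polar, quadFormOdd, Pi.add_apply]
  rw [Finset.sum_congr rfl (fun i _ => h i), Finset.sum_add_distrib, Finset.sum_add_distrib]
  ring

theorem det_hyperbolic (m : ℕ) :
    (Matrix.fromBlocks 0 1 1 0 : Matrix (Fin m ⊕ Fin m) (Fin m ⊕ Fin m) F).det = (-1) ^ m := by
  have h : (Matrix.fromBlocks 0 1 1 0 : Matrix (Fin m ⊕ Fin m) (Fin m ⊕ Fin m) F) *
      Matrix.fromBlocks 1 0 1 1 = Matrix.fromBlocks 1 1 1 0 := by
    simp [Matrix.fromBlocks_multiply]
  have h' := congrArg Matrix.det h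
  rw [Matrix.det_mul, Matrix.det_fromBlocks_zero₁₂, Matrix.det_fromBlocks_one₁₁] at h'
  simpa [Matrix.det_neg] using h'

theorem det_gram_plus (m : ℕ) :
    (gram ⇑(plusForm F m) ⇑(Pi.basisFun F (Fin m ⊕ Fin m))).det = (-1) ^ m := by
  rw [← det_hyperbolic F m]
  congr 1
  ext i j
  rw [gram, Matrix.of_apply, coe_plusForm, polar_plus]
  rcases i with i | i <;> rcases j with j | j <;>
    simp [Pi.single_apply, Matrix.one_apply, eq_comm]

theorem det_gram_minus (m : ℕ) (a b : F) :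
    (gram ⇑(minusForm F m a b) ⇑(Pi.basisFun F ((Fin m ⊕ Fin m) ⊕ Fin 2))).det =
      (-1) ^ (m + 1) * (a ^ 2 - 4 * b) := by
  have hM : gram ⇑(minusForm F m a b) ⇑(Pi.basisFun F ((Fin m ⊕ Fin m) ⊕ Fin 2)) =
      Matrix.fromBlocks (Matrix.fromBlocks 0 1 1 0) 0 0 !![2, a; a, 2 * b] := by
    ext i j
    rw [gram, Matrix.of_apply, coe_minusForm, polar_minus]
    rcases i with (i | i) | i <;> rcases j with (j | j) | j
    · simp [Pi.single_apply]
    · simp [Pi.single_apply, Matrix.one_apply, eq_comm]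
    · simp [Pi.single_apply]
    · simp [Pi.single_apply, Matrix.one_apply, eq_comm]
    · simp [Pi.single_apply]
    · simp [Pi.single_apply]
    · simp [Pi.single_apply]
    · simp [Pi.single_apply]
    · fin_cases i <;> fin_cases j <;> simp [Pi.single_apply]
  rw [hM, Matrix.det_fromBlocks_zero₁₂, det_hyperbolic, Matrix.det_fin_two_of]
  ring

variable {F}

theorem not_isSquare_disc {a b : F} (h2 : (2 : F) ≠ 0)
    (h : ∀ z₁ z₂ : F, z₁ ^ 2 + a * z₁ * z₂ + b * z₂ ^ 2 = 0 → z₁ = 0 ∧ z₂ = 0) :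
    ¬IsSquare (a ^ 2 - 4 * b) := by
  rintro ⟨r, hr⟩
  refine one_ne_zero (h ((-a + r) / 2) 1 ?_).2
  field_simp
  linear_combination -hr

section Finite

variable [Fintype F] {q : ℕ}

theorem two_ne_zero_of_odd (hF : Fintype.card F = q) (hq : Odd q) : (2 : F) ≠ 0 :=
  Ring.two_ne_zero fun h => by
    have := FiniteField.even_card_of_char_two h
    obtain ⟨k, rfl⟩ := hq
    omega

theorem isSquare_neg_one_pow_iff (hF : Fintype.card F = q) (hq : Odd q) (m : ℕ) :
    IsSquare ((-1 : F) ^ m) ↔ Even (m * (q - 1) / 2) := by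
  have h1 : IsSquare (-1 : F) ↔ q % 4 ≠ 3 := by
    rw [FiniteField.isSquare_neg_one_iff, hF]
  obtain ⟨k, rfl⟩ := hq
  have h2 : m * (2 * k + 1 - 1) / 2 = m * k := by
    rw [Nat.add_sub_cancel, mul_comm m, mul_assoc, Nat.mul_div_cancel_left _ (by norm_num), mul_comm]
  rw [h2, Nat.even_mul]
  rcases Nat.even_or_odd m with hm | hm
  · rw [hm.neg_one_pow]
    exact iff_of_true IsSquare.one (Or.inl hm)
  · rw [hm.neg_one_pow, h1, or_iff_right (Nat.not_even_iff_odd.2 hm), Nat.even_iff]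
    omega

theorem isSquare_mul_nonsquare_iff {x d : F} (hx : x ≠ 0) (hd : ¬IsSquare d) :
    IsSquare (x * d) ↔ ¬IsSquare x := by
  have hd0 : d ≠ 0 := fun h => hd (h ▸ IsSquare.zero)
  classical
  rw [← quadraticChar_one_iff_isSquare (mul_ne_zero hx hd0), ← quadraticChar_one_iff_isSquare hx,
    map_mul, (quadraticChar_neg_one_iff_not_isSquare).2 hd]
  rcases quadraticChar_dichotomy hx with h | h <;> rw [h] <;> norm_num

end Finite

end Cfsg.Agent.QForm
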