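/-
Maximal totally singular subspaces of a quadratic form with non-degenerate polar form in dimension `2m`:
adjacency and the two families.  Any field, any characteristic.
-/
import Mathlib
import Cfsg.Prelude.Def_Classical
import Cfsg.Agent.Lib.QForm.Std

set_option autoImplicit false

namespace Cfsg.Agent.QForm

open LinearMap (BilinForm)
open Module (finrank)

variable {F V : Type*} [Field F] [AddCommGroup V] [Module F V] (Q : QuadraticForm F V)

/-- `Q` vanishes on `W`. -/
def TotallySingular (W : Submodule F V) : Prop := ∀ w ∈ W, Q w = 0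

theorem polarBilin_isRefl : BilinForm.IsRefl (QuadraticMap.polarBilin Q) := fun x y h => by
  show QuadraticMap.polar Q y x = 0
  rw [QuadraticMap.polar_comm]; exact h

variable {Q}

theorem apply_add' (x y : V) : Q (x + y) = Q x + Q y + QuadraticMap.polarBilin Q x y := by
  show _ = _ + _ + QuadraticMap.polar Q x y
  rw [QuadraticMap.polar]; ring

theorem TotallySingular.le_orthogonal {W : Submodule F V} (hW : TotallySingular Q W) :
    W ≤ BilinForm.orthogonal (QuadraticMap.polarBilin Q) W := by
  intro w hw n hn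
  have := apply_add' (Q := Q) n w
  rw [hW _ (add_mem hn hw), hW n hn, hW w hw] at this
  simpa using this.symm

theorem TotallySingular.mono {W W' : Submodule F V} (hW : TotallySingular Q W) (h : W' ≤ W) :
    TotallySingular Q W' := fun w hw => hW w (h hw)

theorem TotallySingular.sup {H K : Submodule F V} (hH : TotallySingular Q H)
    (hK : TotallySingular Q K) (hKH : K ≤ BilinForm.orthogonal (QuadraticMap.polarBilin Q) H) :
    TotallySingular Q (H ⊔ K) := by
  intro w hw
  obtain ⟨a, ha, b, hb, rfl⟩ := Submodule.mem_sup.1 hw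
  rw [apply_add', hH a ha, hK b hb, hKH hb a ha]
  simp

theorem orthogonal_sup (B : BilinForm F V) (W X : Submodule F V) :
    B.orthogonal (W ⊔ X) = B.orthogonal W ⊓ B.orthogonal X := by
  refine le_antisymm (le_inf (BilinForm.orthogonal_le le_sup_left)
    (BilinForm.orthogonal_le le_sup_right)) ?_
  rintro v ⟨hW, hX⟩ n hn
  obtain ⟨a, ha, b, hb, rfl⟩ := Submodule.mem_sup.1 hn
  have h1 : B a v = 0 := hW a ha
  have h2 : B b v = 0 := hX b hb
  show B (a + b) v = 0
  rw [LinearMap.map_add₂, h1, h2, add_zero]

variable [FiniteDimensional F V] (hQ : (QuadraticMap.polarBilin Q).Nondegenerate) {m : ℕ}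
  (hV : finrank F V = 2 * m)

include hQ hV in
theorem TotallySingular.orthogonal_eq {W : Submodule F V} (hW : TotallySingular Q W)
    (hWm : finrank F W = m) : BilinForm.orthogonal (QuadraticMap.polarBilin Q) W = W :=
  (Submodule.eq_of_le_of_finrank_eq hW.le_orthogonal
    (by rw [BilinForm.finrank_orthogonal hQ, hV, hWm]; omega)).symm

include hQ hV in
/-- The submaximal `H` extended by `X` meets `X` in `dim (X ∩ H) + 1`. -/
theorem finrank_inf_orthogonal {U H : Submodule F V} (hU : TotallySingular Q U)
    (hUm : finrank F U = m) (hHm : finrank F H + 1 = m) :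
    finrank F ↥(U ⊓ BilinForm.orthogonal (QuadraticMap.polarBilin Q) H) =
      finrank F ↥(U ⊓ H) + 1 := by
  have h : U ⊓ BilinForm.orthogonal (QuadraticMap.polarBilin Q) H =
      BilinForm.orthogonal (QuadraticMap.polarBilin Q) (U ⊔ H) := by
    rw [orthogonal_sup, hU.orthogonal_eq hQ hV hUm]
  have h1 := Submodule.finrank_sup_add_finrank_inf_eq U H
  have h2 : finrank F ↥(U ⊔ H) ≤ finrank F V := Submodule.finrank_le _
  have h3 : finrank F ↥(U ⊓ H) ≤ finrank F H := Submodule.finrank_mono inf_le_right
  rw [h, BilinForm.finrank_orthogonal hQ, hV]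
  omega

include hQ hV in
theorem exists_extension {H X : Submodule F V} (hH : TotallySingular Q H)
    (hHm : finrank F H + 1 = m) (hX : TotallySingular Q X) (hXm : finrank F X = m) :
    ∃ W, TotallySingular Q W ∧ finrank F W = m ∧ H ≤ W ∧
      finrank F ↥(X ⊓ H) + 1 ≤ finrank F ↥(W ⊓ X) := by
  set K := X ⊓ BilinForm.orthogonal (QuadraticMap.polarBilin Q) H
  have hK : finrank F K = finrank F ↥(X ⊓ H) + 1 := finrank_inf_orthogonal hQ hV hX hXm hHm
  refine ⟨H ⊔ K, hH.sup (hX.mono inf_le_left) inf_le_right, ?_, le_sup_left, ?_⟩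
  · have h1 := Submodule.finrank_sup_add_finrank_inf_eq H K
    have h2 : H ⊓ K = X ⊓ H := le_antisymm
      (le_inf (inf_le_right.trans inf_le_left) inf_le_left)
      (le_inf inf_le_right (le_inf inf_le_left (inf_le_right.trans hH.le_orthogonal)))
    rw [h2] at h1
    omega
  · rw [← hK]
    exact Submodule.finrank_mono (le_inf le_sup_right inf_le_left)

include hQ hV in
/-- A maximal `W` above the submaximal `H` has a second neighbour. -/
theorem exists_other {H W : Submodule F V} (hW : TotallySingular Q W) (hWm : finrank F W = m)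
    (hHW : H ≤ W) (hHm : finrank F H + 1 = m) :
    ∃ W', TotallySingular Q W' ∧ finrank F W' = m ∧ H ≤ W' ∧ W' ≠ W := by
  obtain ⟨a, haW, haH⟩ : ∃ a ∈ W, a ∉ H := SetLike.not_le_iff_exists.1 fun h => by
    have := Submodule.finrank_mono h
    omega
  obtain ⟨b, hbH, hab⟩ : ∃ b ∈ BilinForm.orthogonal (QuadraticMap.polarBilin Q) H,
      QuadraticMap.polarBilin Q a b ≠ 0 := by
    by_contra hne
    push Not at hne
    refine haH ?_
    rw [← BilinForm.orthogonal_orthogonal hQ (polarBilin_isRefl Q) H]
    exact fun n hn => polarBilin_isRefl Q a n (hne n hn)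
  set b' : V := b - (Q b / QuadraticMap.polarBilin Q a b) • a with hb'
  have hb'H : b' ∈ BilinForm.orthogonal (QuadraticMap.polarBilin Q) H :=
    Submodule.sub_mem _ hbH
      (Submodule.smul_mem _ _ (BilinForm.orthogonal_le hHW (hW.le_orthogonal haW)))
  have haa : QuadraticMap.polarBilin Q a a = 0 := hW.le_orthogonal haW a haW
  have hQb : Q b' = 0 := by
    rw [hb', sub_eq_add_neg, ← neg_smul, apply_add', QuadraticMap.map_smul, hW a haW]
    have : QuadraticMap.polarBilin Q b a = QuadraticMap.polarBilin Q a b :=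
      QuadraticMap.polar_comm Q b a
    have e : QuadraticMap.polar (⇑Q) b a = QuadraticMap.polar (⇑Q) a b := QuadraticMap.polar_comm Q b a
    have hab0 : QuadraticMap.polar (⇑Q) a b ≠ 0 := hab
    simp [e, hab0]
  have hab' : QuadraticMap.polarBilin Q a b' ≠ 0 := by
    rw [hb', map_sub, map_smul, haa]; simpa using hab
  have hb'W : b' ∉ W := fun h => hab' (hW.le_orthogonal h a haW)
  refine ⟨H ⊔ F ∙ b', ?_, ?_, le_sup_left, ?_⟩
  · refine (hW.mono hHW).sup (fun w hw => ?_) ((Submodule.span_singleton_le_iff_mem _ _).2 hb'H)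
    obtain ⟨t, rfl⟩ := Submodule.mem_span_singleton.1 hw
    rw [QuadraticMap.map_smul, hQb, smul_zero]
  · rw [Submodule.finrank_sup_span_singleton fun h => hb'W (hHW h)]
    exact hHm
  · intro h
    exact hb'W (h ▸ Submodule.mem_sup_right (Submodule.mem_span_singleton_self b'))

include hQ hV in
/-- Singular vectors orthogonal to the submaximal `H` lie in the two maximal subspaces above it. -/
theorem mem_or_mem_of_singular {H W W' : Submodule F V} (hW : TotallySingular Q W)
    (hWm : finrank F W = m) (hW' : TotallySingular Q W') (hW'm : finrank F W' = m)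
    (hHW : H ≤ W) (hHW' : H ≤ W') (hHm : finrank F H + 1 = m) (hne : W' ≠ W)
    {x : V} (hx : x ∈ BilinForm.orthogonal (QuadraticMap.polarBilin Q) H) (hQx : Q x = 0) :
    x ∈ W ∨ x ∈ W' := by
  have hle : W ⊔ W' ≤ BilinForm.orthogonal (QuadraticMap.polarBilin Q) H :=
    sup_le (hW.le_orthogonal.trans (BilinForm.orthogonal_le hHW))
      (hW'.le_orthogonal.trans (BilinForm.orthogonal_le hHW'))
  have hlt : W < W ⊔ W' := lt_of_le_of_ne le_sup_left fun h =>
    hne (Submodule.eq_of_le_of_finrank_eq (h ▸ le_sup_right) (hW'm.trans hWm.symm))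
  have hrank : finrank F (BilinForm.orthogonal (QuadraticMap.polarBilin Q) H) = m + 1 := by
    rw [BilinForm.finrank_orthogonal hQ, hV]; omega
  have hlt' := Submodule.finrank_lt_finrank_of_lt hlt
  have heq : W ⊔ W' = BilinForm.orthogonal (QuadraticMap.polarBilin Q) H :=
    Submodule.eq_of_le_of_finrank_le hle (by omega)
  rw [← heq] at hx
  obtain ⟨a, ha, b, hb, rfl⟩ := Submodule.mem_sup.1 hx
  rw [apply_add', hW a ha, hW' b hb, zero_add, zero_add] at hQx
  by_contra hnot
  push Not at hnot
  have haW' : a ∉ W' := fun h => hnot.2 (add_mem h hb)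
  -- everything in `W` is `H + F a`, so `b` is orthogonal to all of `W`
  have hHa : H ⊔ F ∙ a = W := Submodule.eq_of_le_of_finrank_eq
    (sup_le hHW ((Submodule.span_singleton_le_iff_mem _ _).2 ha))
    (by rw [Submodule.finrank_sup_span_singleton fun h => haW' (hHW' h), hWm]; omega)
  have hbW : b ∈ BilinForm.orthogonal (QuadraticMap.polarBilin Q) W := by
    rw [← hHa, orthogonal_sup]
    refine ⟨(hW'.le_orthogonal.trans (BilinForm.orthogonal_le hHW')) hb, fun n hn => ?_⟩
    obtain ⟨t, rfl⟩ := Submodule.mem_span_singleton.1 hn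
    show QuadraticMap.polarBilin Q (t • a) b = 0
    simp [hQx]
  rw [hW.orthogonal_eq hQ hV hWm] at hbW
  exact hnot.1 (add_mem ha hbW)

include hQ hV in
theorem eq_or_eq_of_submaximal {H W W' X : Submodule F V} (hW : TotallySingular Q W)
    (hWm : finrank F W = m) (hW' : TotallySingular Q W') (hW'm : finrank F W' = m)
    (hX : TotallySingular Q X) (hXm : finrank F X = m)
    (hHW : H ≤ W) (hHW' : H ≤ W') (hHX : H ≤ X) (hHm : finrank F H + 1 = m) (hne : W' ≠ W) :
    X = W ∨ X = W' := by
  have key : (X : Set V) ⊆ (W : Set V) ∪ (W' : Set V) := fun x hx =>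
    mem_or_mem_of_singular hQ hV hW hWm hW' hW'm hHW hHW' hHm hne
      ((hX.le_orthogonal.trans (BilinForm.orthogonal_le hHX)) hx) (hX x hx)
  rcases AddSubgroupClass.subset_union.1 key with h | h
  · exact Or.inl (Submodule.eq_of_le_of_finrank_eq h (hXm.trans hWm.symm))
  · exact Or.inr (Submodule.eq_of_le_of_finrank_eq h (hXm.trans hW'm.symm))

include hQ hV in
/-- The intersection with `U` changes by exactly one between adjacent maximal subspaces. -/
theorem finrank_inf_adjacent {H W W' U : Submodule F V} (hW : TotallySingular Q W)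
    (hWm : finrank F W = m) (hW' : TotallySingular Q W') (hW'm : finrank F W' = m)
    (hU : TotallySingular Q U) (hUm : finrank F U = m)
    (hHW : H ≤ W) (hHW' : H ≤ W') (hHm : finrank F H + 1 = m) (hne : W' ≠ W) :
    (finrank F ↥(U ⊓ W) + 1 = finrank F ↥(U ⊓ W') ∨ finrank F ↥(U ⊓ W') + 1 = finrank F ↥(U ⊓ W)) := by
  set P := BilinForm.orthogonal (QuadraticMap.polarBilin Q) H with hP
  have hWP : W ≤ P := hW.le_orthogonal.trans (BilinForm.orthogonal_le hHW)
  have hW'P : W' ≤ P := hW'.le_orthogonal.trans (BilinForm.orthogonal_le hHW')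
  have hWW' : W ⊓ W' = H := by
    refine (Submodule.eq_of_le_of_finrank_le (le_inf hHW hHW') ?_).symm
    have := Submodule.finrank_lt_finrank_of_lt (lt_of_le_of_ne (inf_le_left : W ⊓ W' ≤ W)
      fun h => hne (Submodule.eq_of_le_of_finrank_eq (inf_eq_left.1 h) (hWm.trans hW'm.symm)).symm)
    omega
  have key : ((U ⊓ P : Submodule F V) : Set V) ⊆ (W : Set V) ∪ (W' : Set V) := fun x hx =>
    mem_or_mem_of_singular hQ hV hW hWm hW' hW'm hHW hHW' hHm hne hx.2 (hU x hx.1)
  have hK := finrank_inf_orthogonal hQ hV hU hUm hHm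
  rw [← hP] at hK
  rcases AddSubgroupClass.subset_union.1 key with h | h
  · right
    have h1 : U ⊓ W = U ⊓ P := le_antisymm (inf_le_inf_left U hWP) (le_inf inf_le_left h)
    have h2 : U ⊓ W' = U ⊓ H := le_antisymm
      (le_inf inf_le_left (hWW' ▸ le_inf ((inf_le_inf_left U hW'P).trans h) inf_le_right))
      (inf_le_inf_left U hHW')
    rw [h1, h2, hK]
  · left
    have h1 : U ⊓ W' = U ⊓ P := le_antisymm (inf_le_inf_left U hW'P) (le_inf inf_le_left h)
    have h2 : U ⊓ W = U ⊓ H := le_antisymm
      (le_inf inf_le_left (hWW' ▸ le_inf inf_le_right ((inf_le_inf_left U hWP).trans h)))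
      (inf_le_inf_left U hHW)
    rw [h1, h2, hK]

include hQ hV in
/-- The two families: the three intersection dimensions sum to `m` modulo `2`. -/
theorem finrank_inf_parity {U W X : Submodule F V} (hU : TotallySingular Q U)
    (hUm : finrank F U = m) (hW : TotallySingular Q W) (hWm : finrank F W = m)
    (hX : TotallySingular Q X) (hXm : finrank F X = m) :
    (finrank F ↥(U ⊓ W) + finrank F ↥(W ⊓ X) + finrank F ↥(U ⊓ X)) % 2 = m % 2 := by
  have hle : finrank F ↥(W ⊓ X) ≤ m := (Submodule.finrank_mono inf_le_left).trans_eq hWm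
  induction hk : m - finrank F ↥(W ⊓ X) using Nat.strong_induction_on generalizing W with
  | _ k ih =>
    rcases Nat.eq_or_lt_of_le hle with he | hlt
    · have h1 : W ⊓ X = W := Submodule.eq_of_le_of_finrank_eq inf_le_left (he.trans hWm.symm)
      have h2 : W = X := Submodule.eq_of_le_of_finrank_eq (inf_eq_left.1 h1) (hWm.trans hXm.symm)
      subst h2
      omega
    · -- a hyperplane `H` of `W` above `W ⊓ X`
      obtain ⟨H, hWXH, hHW, hHm⟩ : ∃ H, W ⊓ X ≤ H ∧ H ≤ W ∧ finrank F H + 1 = m := by
        obtain ⟨a, haW, ha⟩ : ∃ a ∈ W, a ∉ W ⊓ X := SetLike.not_le_iff_exists.1 fun h => by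
          have := Submodule.finrank_mono h
          omega
        obtain ⟨f, hfa, hf⟩ := Submodule.exists_dual_map_eq_bot_of_notMem ha inferInstance
        refine ⟨W ⊓ LinearMap.ker f, le_inf inf_le_left (fun x hx => ?_), inf_le_left, ?_⟩
        · have : f x ∈ (W ⊓ X).map f := Submodule.mem_map_of_mem hx
          rwa [hf, Submodule.mem_bot] at this
        · have h1 := Submodule.finrank_sup_add_finrank_inf_eq W (LinearMap.ker f)
          have h2 := LinearMap.finrank_range_add_finrank_ker f
          have h3 : LinearMap.range f = ⊤ :=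
            LinearMap.range_eq_top.2 (LinearMap.surjective fun h => hfa (by simp [h]))
          rw [h3, finrank_top, Module.finrank_self, hV] at h2
          have h4 : LinearMap.ker f < W ⊔ LinearMap.ker f :=
            lt_of_le_of_ne le_sup_right fun h => hfa
              (h.symm ▸ Submodule.mem_sup_left haW : a ∈ LinearMap.ker f)
          have h5 := Submodule.finrank_lt_finrank_of_lt h4
          have h6 : finrank F ↥(W ⊔ LinearMap.ker f) ≤ finrank F V := Submodule.finrank_le _
          omega
      obtain ⟨W', hW', hW'm, hHW', hge⟩ := exists_extension hQ hV (hW.mono hHW) hHm hX hXm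
      have hXH : X ⊓ H = W ⊓ X := le_antisymm
        (le_inf (inf_le_right.trans hHW) inf_le_left) (le_inf inf_le_right hWXH)
      rw [hXH] at hge
      have hne : W' ≠ W := fun h => by rw [h] at hge; omega
      have hle' : finrank F ↥(W' ⊓ X) ≤ m := (Submodule.finrank_mono inf_le_left).trans_eq hW'm
      have hX' := finrank_inf_adjacent hQ hV hW hWm hW' hW'm hX hXm hHW hHW' hHm hne
      rw [inf_comm X W, inf_comm X W'] at hX'
      have hU' := finrank_inf_adjacent hQ hV hW hWm hW' hW'm hU hUm hHW hHW' hHm hne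
      have := ih (m - finrank F ↥(W' ⊓ X)) (by omega) hW' hW'm hle' rfl
      omega

/-! ### `quadFormPlus` -/

variable (F)

theorem plusForm_nondegenerate (m : ℕ) : (QuadraticMap.polarBilin (plusForm F m)).Nondegenerate := by
  have hsep : ∀ u : Fin m ⊕ Fin m → F,
      (∀ v, QuadraticMap.polar (plusForm F m) u v = 0) → u = 0 := by
    intro u h
    funext j
    rcases j with i | i
    · have := h (Pi.single (Sum.inr i) 1)
      rw [coe_plusForm, polar_plus] at this
      simpa [Pi.single_apply] using this
    · have := h (Pi.single (Sum.inl i) 1)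
      rw [coe_plusForm, polar_plus] at this
      simpa [Pi.single_apply] using this
  exact ⟨hsep, fun v h => hsep v fun u => (QuadraticMap.polar_comm _ v u).trans (h u)⟩

theorem finrank_plus (m : ℕ) : finrank F (Fin m ⊕ Fin m → F) = 2 * m := by
  simp [two_mul]

/-- The standard maximal totally singular subspace `y = 0`. -/
theorem exists_plus_maximal (m : ℕ) :
    ∃ L, TotallySingular (plusForm F m) L ∧ finrank F L = m := by
  let g : (Fin m → F) →ₗ[F] (Fin m ⊕ Fin m → F) :=
    { toFun := fun x => Sum.elim x 0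
      map_add' := fun x y => by funext j; rcases j with i | i <;> simp
      map_smul' := fun c x => by funext j; rcases j with i | i <;> simp }
  refine ⟨LinearMap.range g, ?_, ?_⟩
  · rintro _ ⟨x, rfl⟩
    rw [plusForm_apply]
    simp [quadFormPlus, g]
  · rw [LinearMap.finrank_range_of_inj (f := g) fun x y h => funext fun i => congrFun h (Sum.inl i)]
    simp

end Cfsg.Agent.QForm
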