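/-
Quadratic forms over finite fields of odd order: diagonal normal form and classification by the discriminant.
-/
import Mathlib
import Cfsg.Agent.Lib.QForm.Gram

set_option autoImplicit false

namespace Cfsg.Agent.QForm

variable {F : Type*} [Field F]

/-- The diagonal form `Σ w_i v_i²` as a plain function. -/
def diagFn {ι : Type*} [Fintype ι] (w : ι → F) (v : ι → F) : F := ∑ i, w i * (v i * v i)

theorem exists_two_squares_eq_one [Finite F] (h2 : (2 : F) ≠ 0) {a b : F} (ha : a ≠ 0) (hb : b ≠ 0) :
    ∃ s t : F, a * (s * s) + b * (t * t) = 1 := by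
  classical
  have : Fintype F := Fintype.ofFinite F
  open Polynomial in
  obtain ⟨s, t, h⟩ := FiniteField.exists_root_sum_quadratic (f := C a * X ^ 2) (g := C b * X ^ 2 - C 1)
    (degree_C_mul_X_pow 2 ha) (by
      rw [degree_sub_eq_left_of_degree_lt]
      · exact degree_C_mul_X_pow 2 hb
      · rw [degree_C_mul_X_pow 2 hb]; exact (degree_C_le).trans_lt (by norm_num))
    (FiniteField.odd_card_of_char_ne_two fun h => h2 (by
      have : CharP F 2 := ringChar.of_eq h
      exact CharTwo.two_eq_zero))
  refine ⟨s, t, ?_⟩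
  simp only [Polynomial.eval_mul, Polynomial.eval_sub, Polynomial.eval_C, Polynomial.eval_pow,
    Polynomial.eval_X] at h
  linear_combination h

section Fin

variable {n : ℕ}

/-- Every diagonal form is isometric to `⟨∏ w_i, 1, …, 1⟩`. -/
theorem exists_diag_normal [Finite F] (h2 : (2 : F) ≠ 0) (w : Fin (n + 1) → F) (hw : ∀ i, w i ≠ 0) :
    ∃ g : (Fin (n + 1) → F) ≃ₗ[F] (Fin (n + 1) → F),
      ∀ v, diagFn w (g v) = diagFn (Function.update (fun _ => 1) 0 (∏ i, w i)) v := by
  classical
  induction hk : (Finset.univ.filter fun i : Fin (n + 1) => i ≠ 0 ∧ w i ≠ 1).card using Nat.strong_induction_on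
    generalizing w with
  | _ k ih =>
    by_cases hex : ∃ i : Fin (n + 1), i ≠ 0 ∧ w i ≠ 1
    · obtain ⟨i, hi0, hi1⟩ := hex
      obtain ⟨s, t, hst⟩ := exists_two_squares_eq_one h2 (hw 0) (hw i)
      set w' : Fin (n + 1) → F := Function.update (Function.update w 0 1) i (w 0 * w i) with hw'
      set w'' : Fin (n + 1) → F := Function.update (Function.update w 0 (w 0 * w i)) i 1 with hw''
      let T : (Fin (n + 1) → F) →ₗ[F] (Fin (n + 1) → F) :=
        { toFun := fun v j => if j = 0 then s * v i - w i * t * v 0
            else if j = i then t * v i + w 0 * s * v 0 else v j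
          map_add' := fun u v => funext fun j => by
            simp only [Pi.add_apply]; split_ifs <;> ring
          map_smul' := fun c v => funext fun j => by
            simp only [Pi.smul_apply, smul_eq_mul, RingHom.id_apply]; split_ifs <;> ring }
      have hT : Function.Injective T := by
        rw [injective_iff_map_eq_zero]
        intro v hv
        have e0 : s * v i - w i * t * v 0 = 0 := by simpa [T] using congrFun hv 0
        have ei : t * v i + w 0 * s * v 0 = 0 := by simpa [T, hi0] using congrFun hv i
        funext j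
        by_cases hj0 : j = 0
        · subst hj0; show v 0 = 0; linear_combination s * ei - t * e0 - v 0 * hst
        by_cases hji : j = i
        · subst hji; show v j = 0; linear_combination (w j * t) * ei + (w 0 * s) * e0 - v j * hst
        simpa [T, hj0, hji] using congrFun hv j
      have key : ∀ v, diagFn w (LinearEquiv.ofInjectiveEndo T hT v) = diagFn w'' v := by
        intro v
        rw [LinearEquiv.coe_ofInjectiveEndo]
        have hsplit : ∀ f : Fin (n + 1) → F, ∑ j, f j = f 0 + f i + ∑ j ∈ (Finset.univ.erase 0).erase i, f j := by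
          intro f
          rw [add_assoc, Finset.add_sum_erase _ f (by simp [hi0]), Finset.add_sum_erase _ f (Finset.mem_univ 0)]
        rw [diagFn, diagFn, hsplit, hsplit]
        congr 1
        · simp only [T, LinearMap.coe_mk, AddHom.coe_mk, hw'', Function.update_self,
            Function.update_of_ne hi0.symm, if_neg hi0]
          simp only [if_true]
          linear_combination (v i * v i + w 0 * w i * (v 0 * v 0)) * hst
        · refine Finset.sum_congr rfl fun j hj => ?_
          obtain ⟨hji, hj0, -⟩ : j ≠ i ∧ j ≠ 0 ∧ True := by simpa using hj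
          simp [T, hw'', hj0, hji]
      have hw''0 : ∀ j, w'' j ≠ 0 := by
        intro j
        by_cases hji : j = i
        · simp [hw'', hji]
        by_cases hj0 : j = 0
        · subst hj0; simp [hw'', hji, hw 0, hw i]
        simp [hw'', hji, hj0, hw j]
      have hprod : ∏ j, w'' j = ∏ j, w j := by
        rw [← Finset.mul_prod_erase _ w'' (Finset.mem_univ 0), ← Finset.mul_prod_erase _ w (Finset.mem_univ 0),
          ← Finset.mul_prod_erase _ w'' (show i ∈ Finset.univ.erase 0 by simp [hi0]),
          ← Finset.mul_prod_erase _ w (show i ∈ Finset.univ.erase 0 by simp [hi0]),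
          Finset.prod_congr rfl (fun j hj => by
            obtain ⟨hji, hj0, -⟩ : j ≠ i ∧ j ≠ 0 ∧ True := by simpa using hj
            simp [hw'', hj0, hji] : ∀ j ∈ (Finset.univ.erase 0).erase i, w'' j = w j)]
        simp only [hw'', Function.update_self, Function.update_of_ne hi0.symm]
        ring
      obtain ⟨g, hg⟩ := ih _ (by
        rw [← hk]
        refine Finset.card_lt_card ((Finset.ssubset_iff_of_subset ?_).2 ⟨i, by simp [hi0, hi1], by simp [hw'']⟩)
        intro j
        by_cases hji : j = i
        · simp [hw'', hji]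
        by_cases hj0 : j = 0
        · simp [hj0]
        simp [hw'', hji, hj0]) w'' hw''0 rfl
      exact ⟨g.trans (LinearEquiv.ofInjectiveEndo T hT), fun v => by
        rw [LinearEquiv.trans_apply, key, hg, hprod]⟩
    · push Not at hex
      refine ⟨LinearEquiv.refl F _, fun v => ?_⟩
      congr 1
      funext j
      by_cases hj : j = 0
      · subst hj
        rw [Function.update_self, Fin.prod_univ_succ, Finset.prod_eq_one fun k _ => hex _ k.succ_ne_zero, mul_one]
      · rw [Function.update_of_ne hj]; exact hex j hj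

/-- Diagonal forms whose products of coefficients are in one square class are isometric. -/
theorem exists_diag_equiv [Finite F] (h2 : (2 : F) ≠ 0) {w w' : Fin n → F} (hw : ∀ i, w i ≠ 0)
    (hw' : ∀ i, w' i ≠ 0) {r : F} (h : ∏ i, w' i = r ^ 2 * ∏ i, w i) :
    ∃ g : (Fin n → F) ≃ₗ[F] (Fin n → F), ∀ v, diagFn w' (g v) = diagFn w v := by
  classical
  cases n with
  | zero => exact ⟨LinearEquiv.refl F _, fun v => by simp [diagFn]⟩
  | succ n =>
    obtain ⟨g, hg⟩ := exists_diag_normal h2 w hw
    obtain ⟨g', hg'⟩ := exists_diag_normal h2 w' hw'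
    have hr : r ≠ 0 := fun h0 => by
      rw [h0, zero_pow two_ne_zero, zero_mul] at h
      exact Finset.prod_ne_zero_iff.2 (fun i _ => hw' i) h
    let u : Fin (n + 1) → Fˣ := Function.update (fun _ => 1) 0 (Units.mk0 r hr)
    let S : (Fin (n + 1) → F) ≃ₗ[F] (Fin (n + 1) → F) :=
      LinearEquiv.piCongrRight fun i => LinearEquiv.smulOfUnit (u i)⁻¹
    refine ⟨g.symm.trans (S.trans g'), fun v => ?_⟩
    rw [LinearEquiv.trans_apply, LinearEquiv.trans_apply, hg']
    conv_rhs => rw [← g.apply_symm_apply v, hg]
    have su : ∀ (x : Fˣ) (y : F), LinearEquiv.smulOfUnit x y = (x : F) * y := fun x y => rfl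
    refine Finset.sum_congr rfl fun i _ => ?_
    by_cases hi : i = 0
    · subst hi
      simp only [Function.update_self, S, u, LinearEquiv.piCongrRight_apply, su,
        Units.val_inv_eq_inv_val, Units.val_mk0, h]
      field_simp
    · simp [S, u, su, Function.update_of_ne hi]

end Fin

variable {V : Type*} [AddCommGroup V] [Module F V] [FiniteDimensional F V]

theorem exists_diagonalise (h2 : (2 : F) ≠ 0) {Q : QuadraticForm F V}
    (hQ : (QuadraticMap.polarBilin Q).Nondegenerate) :
    ∃ (w : Fin (Module.finrank F V) → F) (e : V ≃ₗ[F] (Fin (Module.finrank F V) → F)),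
      (∀ i, w i ≠ 0) ∧ ∀ v, diagFn w (e v) = Q v := by
  have : Invertible (2 : F) := invertibleOfNonzero h2
  have hsep : (QuadraticMap.associated (R := F) Q).SeparatingLeft := by
    intro x hx
    refine hQ.1 x fun y => ?_
    have hxy := hx y
    rw [QuadraticMap.associated_apply] at hxy
    rw [QuadraticMap.polarBilin_apply_apply, QuadraticMap.polar]
    exact (by simpa using hxy : (2 : F) = 0 ∨ Q (x + y) - Q x - Q y = 0).resolve_left h2
  obtain ⟨w, ⟨e⟩⟩ := QuadraticForm.equivalent_weightedSumSquares_units_of_nondegenerate' Q hsep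
  refine ⟨fun i => (w i : F), e.toLinearEquiv, fun i => (w i).ne_zero, fun v => ?_⟩
  rw [← e.map_app v, QuadraticMap.weightedSumSquares_apply]
  rfl

theorem det_gram_diag {ι : Type*} [Fintype ι] [DecidableEq ι] (w : ι → F) :
    (gram ⇑(QuadraticMap.weightedSumSquares F w) ⇑(Pi.basisFun F ι)).det = 2 ^ Fintype.card ι * ∏ i, w i := by
  have hM : gram ⇑(QuadraticMap.weightedSumSquares F w) ⇑(Pi.basisFun F ι) = Matrix.diagonal fun i => 2 * w i := by
    ext i j
    simp only [gram, Matrix.of_apply, QuadraticMap.polar, QuadraticMap.weightedSumSquares_apply, smul_eq_mul,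
      Pi.basisFun_apply, Pi.add_apply, ← Finset.sum_sub_distrib]
    have : ∀ a b c : F, c * ((a + b) * (a + b)) - c * (a * a) - c * (b * b) = a * (2 * c * b) :=
      fun a b c => by ring
    simp only [this, Pi.single_apply]
    by_cases hij : i = j <;> simp [hij, Ne.symm]
  rw [hM, Matrix.det_diagonal, Finset.prod_mul_distrib, Finset.prod_const, Finset.card_univ]

theorem det_gram_of_diag {ι : Type*} [Fintype ι] [DecidableEq ι] {m : ℕ} (R : QuadraticForm F V)
    (x : Fin m → F) (f : V ≃ₗ[F] (Fin m → F)) (b : Module.Basis ι F V) (hf : ∀ v, diagFn x (f v) = R v) :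
    ∃ u : F, u ≠ 0 ∧ (gram ⇑R ⇑b).det = u ^ 2 * (2 ^ m * ∏ i, x i) := by
  obtain ⟨u, hu0, hu⟩ := det_gram_change R ((Pi.basisFun F _).map f.symm) b
  refine ⟨u, hu0, ?_⟩
  rw [hu, det_gram_similarity R (QuadraticMap.weightedSumSquares F x) f.symm 1 (fun v => by
    rw [← hf, f.apply_symm_apply, one_mul, QuadraticMap.weightedSumSquares_apply]; rfl) _,
    det_gram_diag, one_pow, one_mul, Fintype.card_fin]

/-- Two nondegenerate forms over a finite field of odd order are isometric iff their discriminants are in the
same square class. -/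
theorem isometric_iff [Finite F] (h2 : (2 : F) ≠ 0) {W : Type*} [AddCommGroup W] [Module F W]
    [FiniteDimensional F W] {ι : Type*} [Fintype ι] [DecidableEq ι]
    (Q : QuadraticForm F V) (Q' : QuadraticForm F W) (hQ : (QuadraticMap.polarBilin Q).Nondegenerate)
    (hQ' : (QuadraticMap.polarBilin Q').Nondegenerate) (b : Module.Basis ι F V) (b' : Module.Basis ι F W) :
    (∃ g : V ≃ₗ[F] W, ∀ v, Q' (g v) = Q v) ↔ IsSquare ((gram ⇑Q ⇑b).det * (gram ⇑Q' ⇑b').det) := by
  classical
  constructor
  · rintro ⟨g, hg⟩
    obtain ⟨u, -, hu⟩ := det_gram_change Q' (b.map g) b'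
    rw [det_gram_similarity Q' Q g 1 (fun v => by rw [hg, one_mul]) b, one_pow, one_mul] at hu
    exact ⟨u * (gram ⇑Q ⇑b).det, by rw [hu]; ring⟩
  · intro hsq
    have hn : Module.finrank F W = Module.finrank F V := by
      rw [Module.finrank_eq_card_basis b', Module.finrank_eq_card_basis b]
    obtain ⟨w, e, hw, he⟩ := exists_diagonalise h2 hQ
    obtain ⟨w', e', hw', he'⟩ := exists_diagonalise h2 hQ'
    let c : (Fin (Module.finrank F W) → F) ≃ₗ[F] (Fin (Module.finrank F V) → F) :=
      LinearEquiv.funCongrLeft F F (finCongr hn.symm)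
    let w₁ : Fin (Module.finrank F V) → F := w' ∘ finCongr hn.symm
    have he₁ : ∀ v, diagFn w₁ (c (e' v)) = Q' v := fun v => by
      rw [← he' v]
      exact Equiv.sum_comp (finCongr hn.symm) fun i => w' i * (e' v i * e' v i)
    obtain ⟨u, hu0, hu⟩ := det_gram_of_diag Q w e b he
    obtain ⟨u', hu'0, hu'⟩ := det_gram_of_diag Q' w₁ (e'.trans c) b' (fun v => he₁ v)
    obtain ⟨r, hr⟩ := hsq
    rw [hu, hu'] at hr
    have hP : (∏ i, w i) ≠ 0 := Finset.prod_ne_zero_iff.2 fun i _ => hw i
    obtain ⟨g, hg⟩ := exists_diag_equiv h2 hw (w' := w₁) (fun i => hw' _)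
      (r := r / (u * u' * 2 ^ Module.finrank F V * ∏ i, w i)) (by
        field_simp
        linear_combination hr)
    exact ⟨e.trans (g.trans (e'.trans c).symm), fun v => by
      rw [← he₁]
      show diagFn w₁ ((e'.trans c) ((e'.trans c).symm (g (e v)))) = Q v
      rw [LinearEquiv.apply_symm_apply, hg, he]⟩

end Cfsg.Agent.QForm
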