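/-
Witt decomposition over a finite field: orthogonal hyperbolic pairs and their orthogonal complement.
-/
import Mathlib
import Cfsg.Agent.Lib.Forms.Witt
import Cfsg.Agent.Lib.QForm.Diag

set_option autoImplicit false

namespace Cfsg.Agent.QForm

variable {F V : Type*} [Field F] [AddCommGroup V] [Module F V]

/-- Pairwise orthogonal hyperbolic pairs. -/
structure IsPairs (Q : QuadraticForm F V) {k : ℕ} (e f : Fin k → V) : Prop where
  he : ∀ i, Q (e i) = 0
  hf : ∀ i, Q (f i) = 0
  hef : ∀ i j, QuadraticMap.polar ⇑Q (e i) (f j) = if i = j then 1 else 0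
  hee : ∀ i j, QuadraticMap.polar ⇑Q (e i) (e j) = 0
  hff : ∀ i j, QuadraticMap.polar ⇑Q (f i) (f j) = 0

variable {Q : QuadraticForm F V} {k : ℕ} {e f : Fin k → V}

/-- Pairing with the pairs. -/
noncomputable def pairing (Q : QuadraticForm F V) (e f : Fin k → V) : V →ₗ[F] (Fin k → F) × (Fin k → F) :=
  (LinearMap.pi fun i => QuadraticMap.polarBilin Q (f i)).prod (LinearMap.pi fun i => QuadraticMap.polarBilin Q (e i))

/-- The orthogonal complement of the pairs. -/
noncomputable def perp (Q : QuadraticForm F V) (e f : Fin k → V) : Submodule F V := (pairing Q e f).ker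

theorem mem_perp {x : V} : x ∈ perp Q e f ↔
    (∀ i, QuadraticMap.polar ⇑Q (f i) x = 0) ∧ ∀ i, QuadraticMap.polar ⇑Q (e i) x = 0 := by
  simp [perp, pairing, Prod.ext_iff, funext_iff]

/-- The projection of a vector to the span of the pairs. -/
noncomputable def proj (Q : QuadraticForm F V) (e f : Fin k → V) (x : V) : V :=
  ∑ i, (QuadraticMap.polar ⇑Q (f i) x • e i + QuadraticMap.polar ⇑Q (e i) x • f i)

theorem IsPairs.polar_f_sum (h : IsPairs Q e f) (a b : Fin k → F) (j : Fin k) :
    QuadraticMap.polar ⇑Q (f j) (∑ i, (a i • e i + b i • f i)) = a j := by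
  rw [← QuadraticMap.polarBilin_apply_apply, map_sum]
  simp [h.hff, QuadraticMap.polar_comm ⇑Q (f j) (e _), h.hef]

theorem IsPairs.polar_e_sum (h : IsPairs Q e f) (a b : Fin k → F) (j : Fin k) :
    QuadraticMap.polar ⇑Q (e j) (∑ i, (a i • e i + b i • f i)) = b j := by
  rw [← QuadraticMap.polarBilin_apply_apply, map_sum]
  simp [h.hee, h.hef]

theorem IsPairs.sub_proj_mem (h : IsPairs Q e f) (x : V) : x - proj Q e f x ∈ perp Q e f := by
  rw [mem_perp]
  constructor <;> intro j <;> rw [QuadraticMap.polar_sub_right, proj]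
  · rw [h.polar_f_sum, sub_self]
  · rw [h.polar_e_sum, sub_self]

theorem IsPairs.finrank_perp [FiniteDimensional F V] (h : IsPairs Q e f) :
    Module.finrank F (perp Q e f) + 2 * k = Module.finrank F V := by
  have hsurj : Function.Surjective (pairing Q e f) := by
    rintro ⟨a, b⟩
    refine ⟨∑ i, (a i • e i + b i • f i), Prod.ext (funext fun j => ?_) (funext fun j => ?_)⟩
    · exact h.polar_f_sum a b j
    · exact h.polar_e_sum a b j
  have h1 := LinearMap.finrank_range_add_finrank_ker (pairing Q e f)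
  rw [LinearMap.range_eq_top.2 hsurj, finrank_top, Module.finrank_prod, Module.finrank_fin_fun] at h1
  rw [perp]
  omega

theorem IsPairs.polar_proj_perp {x y : V} (hy : y ∈ perp Q e f) :
    QuadraticMap.polar ⇑Q (proj Q e f x) y = 0 := by
  obtain ⟨h1, h2⟩ := mem_perp.1 hy
  rw [← QuadraticMap.polarBilin_apply_apply, proj, map_sum, LinearMap.sum_apply]
  simp [h1, h2]

theorem IsPairs.perp_nondegenerate (h : IsPairs Q e f) (hQ : (QuadraticMap.polarBilin Q).Nondegenerate) :
    (QuadraticMap.polarBilin (Q.comp (perp Q e f).subtype)).Nondegenerate := by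
  have hl : ∀ x : perp Q e f, (∀ y : perp Q e f, QuadraticMap.polar ⇑Q (x : V) y = 0) → x = 0 := by
    intro x hx
    refine Subtype.ext (hQ.1 (x : V) fun z => ?_)
    show QuadraticMap.polar ⇑Q (x : V) z = 0
    have : QuadraticMap.polar ⇑Q (x : V) z =
        QuadraticMap.polar ⇑Q (x : V) (proj Q e f z) + QuadraticMap.polar ⇑Q (x : V) (z - proj Q e f z) := by
      rw [← QuadraticMap.polar_add_right, add_sub_cancel]
    rw [this, QuadraticMap.polar_comm, IsPairs.polar_proj_perp x.2, hx ⟨_, h.sub_proj_mem z⟩, add_zero]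
  exact ⟨fun x hx => hl x hx, fun y hy => hl y fun x => by rw [QuadraticMap.polar_comm]; exact hy x⟩

/-- Over a finite field a nondegenerate space of dimension at least three has a singular vector. -/
theorem exists_singular [Finite F] [FiniteDimensional F V] (hQ : (QuadraticMap.polarBilin Q).Nondegenerate)
    (hn : 3 ≤ Module.finrank F V) : ∃ x : V, x ≠ 0 ∧ Q x = 0 := by
  classical
  have : Fintype F := Fintype.ofFinite F
  by_cases h2 : (2 : F) = 0
  · have : CharP F 2 := CharTwo.of_one_ne_zero_of_two_eq_zero one_ne_zero h2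
    by_contra! hno
    have : Nontrivial V := Module.nontrivial_of_finrank_pos (by omega : 0 < Module.finrank F V)
    obtain ⟨a, ha⟩ := exists_ne (0 : V)
    have ha' : Q a ≠ 0 := hno a ha
    obtain ⟨b, hb, hba⟩ : ∃ b, QuadraticMap.polarBilin Q a b = 0 ∧ b ∉ F ∙ a := by
      by_contra! hcon
      have hle : LinearMap.ker (QuadraticMap.polarBilin Q a) ≤ F ∙ a := fun b hb => hcon b hb
      have h1 := Submodule.finrank_mono hle
      rw [finrank_span_singleton ha] at h1
      have h3 := LinearMap.finrank_range_add_finrank_ker (QuadraticMap.polarBilin Q a)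
      have h4 := Submodule.finrank_le (LinearMap.range (QuadraticMap.polarBilin Q a))
      rw [Module.finrank_self] at h4
      omega
    obtain ⟨s, hs⟩ := FiniteField.isSquare_of_char_two (CharP.eq F (ringChar.charP F) inferInstance) (Q b / Q a)
    have hb0 : b + s • a ≠ 0 := fun h0 => hba (by
      rw [eq_neg_of_add_eq_zero_left h0]
      exact Submodule.neg_mem _ (Submodule.smul_mem _ s (Submodule.mem_span_singleton_self a)))
    refine hno _ hb0 ?_
    rw [Forms.quadratic_map_add, QuadraticMap.map_smul, map_smul, Forms.polarBilin_swap, hb, smul_zero, add_zero,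
      smul_eq_mul, ← hs, div_mul_cancel₀ _ ha', CharTwo.add_self_eq_zero]
  · obtain ⟨w, g, hw, hg⟩ := exists_diagonalise h2 hQ
    let i₀ : Fin (Module.finrank F V) := ⟨0, by omega⟩
    let i₁ : Fin (Module.finrank F V) := ⟨1, by omega⟩
    let i₂ : Fin (Module.finrank F V) := ⟨2, by omega⟩
    obtain ⟨s, t, hst⟩ := exists_two_squares_eq_one h2 (neg_ne_zero.2 (div_ne_zero (hw i₀) (hw i₂)))
      (neg_ne_zero.2 (div_ne_zero (hw i₁) (hw i₂)))
    refine ⟨g.symm (Pi.single i₀ s + Pi.single i₁ t + Pi.single i₂ 1), ?_, ?_⟩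
    · intro h0
      have := congrFun (g.symm.map_eq_zero_iff.1 h0) i₂
      simp [i₀, i₁, i₂] at this
    · rw [← hg, LinearEquiv.apply_symm_apply, diagFn,
        ← Finset.sum_subset (Finset.subset_univ ({i₀, i₁, i₂} : Finset (Fin (Module.finrank F V))))
          (fun j _ hj => by simp only [Finset.mem_insert, Finset.mem_singleton, not_or] at hj; simp [hj.1, hj.2.1, hj.2.2])]
      rw [Finset.sum_insert (by simp [i₀, i₁, i₂]), Finset.sum_insert (by simp [i₁, i₂]), Finset.sum_singleton]
      simp [i₀, i₁, i₂]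
      field_simp at hst
      rw [div_eq_one_iff_eq (hw i₂)] at hst
      linear_combination (-1 : F) * hst

/-- A nonzero singular vector lies in a hyperbolic pair. -/
theorem exists_partner [FiniteDimensional F V] (hQ : (QuadraticMap.polarBilin Q).Nondegenerate) {x : V}
    (hx : x ≠ 0) (hQx : Q x = 0) : ∃ y, Q y = 0 ∧ QuadraticMap.polar ⇑Q x y = 1 := by
  obtain ⟨u, -, hu⟩ := Forms.quadratic_exists_perp hQ (S := (⊥ : Submodule F V)) (v := x) (by simpa using hx)
  have hu' : QuadraticMap.polar ⇑Q x u = 1 := by rw [QuadraticMap.polar_comm]; exact hu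
  refine ⟨u - Q u • x, ?_, ?_⟩
  · rw [sub_eq_add_neg, ← neg_smul, Forms.quadratic_map_add, QuadraticMap.map_smul, map_smul, hQx, hu]
    simp
  · rw [QuadraticMap.polar_sub_right, QuadraticMap.polar_smul_right, QuadraticMap.polar_self, hQx, hu']
    simp

/-- A pair in the orthogonal complement extends a family of pairs. -/
theorem IsPairs.cons (h : IsPairs Q e f) {x y : V} (hx : x ∈ perp Q e f) (hy : y ∈ perp Q e f)
    (hQx : Q x = 0) (hQy : Q y = 0) (hxy : QuadraticMap.polar ⇑Q x y = 1) :
    IsPairs Q (Fin.cons x e : Fin (k + 1) → V) (Fin.cons y f) := by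
  obtain ⟨hx1, hx2⟩ := mem_perp.1 hx
  obtain ⟨hy1, hy2⟩ := mem_perp.1 hy
  constructor
  · intro i; refine Fin.cases ?_ ?_ i <;> simp [hQx, h.he]
  · intro i; refine Fin.cases ?_ ?_ i <;> simp [hQy, h.hf]
  · intro i j
    refine Fin.cases ?_ ?_ i <;> refine Fin.cases ?_ ?_ j <;>
      simp [hxy, h.hef, hy2, QuadraticMap.polar_comm ⇑Q x (f _), hx1, (Fin.succ_ne_zero _).symm]
  · intro i j
    refine Fin.cases ?_ ?_ i <;> refine Fin.cases ?_ ?_ j <;>
      simp [h.hee, hQx, QuadraticMap.polar_self, QuadraticMap.polar_comm ⇑Q x (e _), hx2]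
  · intro i j
    refine Fin.cases ?_ ?_ i <;> refine Fin.cases ?_ ?_ j <;>
      simp [h.hff, hQy, QuadraticMap.polar_self, QuadraticMap.polar_comm ⇑Q y (f _), hy1]

/-- A space of dimension at least `2k + 1` contains `k` orthogonal hyperbolic pairs. -/
theorem exists_pairs [Finite F] [FiniteDimensional F V] (hQ : (QuadraticMap.polarBilin Q).Nondegenerate)
    (k : ℕ) (hk : k = 0 ∨ 2 * k + 1 ≤ Module.finrank F V) : ∃ e f : Fin k → V, IsPairs Q e f := by
  induction k with
  | zero => exact ⟨finZeroElim, finZeroElim, ⟨by simp, by simp, by simp, by simp, by simp⟩⟩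
  | succ k ih =>
    obtain ⟨e, f, h⟩ := ih (Or.inr (by omega))
    have hfr := h.finrank_perp
    have hN := h.perp_nondegenerate hQ
    obtain ⟨⟨x, hx⟩, hx0, hQx⟩ := exists_singular hN (by omega)
    obtain ⟨⟨y, hy⟩, hQy, hxy⟩ := exists_partner hN hx0 hQx
    exact ⟨_, _, h.cons hx hy hQx hQy hxy⟩

/-- The pairs and a spanning set of their complement span everything. -/
theorem IsPairs.top_le_span (h : IsPairs Q e f) (S : Set V) (hS : perp Q e f ≤ Submodule.span F S) :
    ⊤ ≤ Submodule.span F (Set.range e ∪ Set.range f ∪ S) := by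
  intro x _
  rw [← add_sub_cancel (proj Q e f x) x]
  refine Submodule.add_mem _ ?_ (Submodule.span_mono Set.subset_union_right (hS (h.sub_proj_mem x)))
  exact Submodule.sum_mem _ fun i _ => Submodule.add_mem _
    (Submodule.smul_mem _ _ (Submodule.subset_span (Or.inl (Or.inl ⟨i, rfl⟩))))
    (Submodule.smul_mem _ _ (Submodule.subset_span (Or.inl (Or.inr ⟨i, rfl⟩))))

end Cfsg.Agent.QForm
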