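/-
A field with `q²` elements over one with `q`: coordinates, and restriction of scalars of `GU` into `Sp`.
-/
import Mathlib
import Cfsg.Prelude.Def_LieClassical

set_option autoImplicit false

namespace Cfsg.Agent.QForm

open scoped Matrix

/-- `K` as a two-dimensional space over the image of `F`, with basis `1, θ`. -/
structure QuadExt (K F : Type*) [Field K] [Field F] (q : ℕ) where
  ι : F →+* K
  θ : K
  fixed : ∀ a, ι a ^ q = ι a
  θ_ne : θ ^ q ≠ θ
  coord : K ≃ F × F
  coord_spec : ∀ x, ι (coord x).1 + ι (coord x).2 * θ = x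
  frob_add : ∀ x y : K, (x + y) ^ q = x ^ q + y ^ q
  frob_frob : ∀ x : K, (x ^ q) ^ q = x

theorem finrank_zmod {L : Type*} [Field L] [Fintype L] {p : ℕ} [Fact p.Prime] [Algebra (ZMod p) L] {k : ℕ}
    (hk : Fintype.card L = p ^ k) : Module.finrank (ZMod p) L = k := by
  rw [Module.card_eq_pow_finrank (K := ZMod p), ZMod.card] at hk
  exact Nat.pow_right_injective (Fact.out : p.Prime).two_le hk

theorem nonempty_quadExt {K F : Type*} [Field K] [Fintype K] [Field F] [Fintype F] {q : ℕ}
    (hK : Fintype.card K = q ^ 2) (hF : Fintype.card F = q) : Nonempty (QuadExt K F q) := by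
  classical
  obtain ⟨p, hpF⟩ := CharP.exists F
  obtain ⟨f, hp, hf⟩ := FiniteField.card F p
  have : Fact p.Prime := ⟨hp⟩
  have hqp : q = p ^ (f : ℕ) := hF.symm.trans hf
  obtain ⟨p', hpK'⟩ := CharP.exists K
  obtain ⟨f', hp', hf'⟩ := FiniteField.card K p'
  have hpp : p' = p := by
    have h : p' ∣ p ^ (f : ℕ) := by
      refine hp'.dvd_of_dvd_pow (n := 2) ?_
      rw [← hqp, ← hK, hf']
      exact dvd_pow_self p' f'.ne_zero
    exact (Nat.prime_dvd_prime_iff_eq hp' hp).1 (hp'.dvd_of_dvd_pow h)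
  subst hpp
  let _ : Algebra (ZMod p') F := ZMod.algebra F p'
  let _ : Algebra (ZMod p') K := ZMod.algebra K p'
  obtain ⟨ι'⟩ := FiniteField.nonempty_algHom_of_finrank_dvd (F := ZMod p') (K := F) (L := K) (by
    rw [finrank_zmod (L := F) (hF.trans hqp), finrank_zmod (L := K) (k := f * 2) (by rw [hK, hqp, ← pow_mul])]
    exact dvd_mul_right _ _)
  let ι : F →+* K := ι'.toRingHom
  have hfix : ∀ a, ι a ^ q = ι a := fun a => by rw [← map_pow, ← hF, FiniteField.pow_card]
  have hq1 : 1 < q := hF ▸ Fintype.one_lt_card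
  obtain ⟨θ, hθ⟩ : ∃ θ : K, θ ^ q ≠ θ := by
    by_contra! h
    have hle : (Finset.univ : Finset K).card ≤ (Polynomial.X ^ q - Polynomial.X : Polynomial K).natDegree := by
      refine Polynomial.card_le_degree_of_subset_roots ?_
      intro x _
      rw [Polynomial.mem_roots (FiniteField.X_pow_card_sub_X_ne_zero K hq1)]
      simp [h x]
    rw [FiniteField.X_pow_card_sub_X_natDegree_eq K hq1, Finset.card_univ, hK, pow_two] at hle
    nlinarith
  have hinj : Function.Injective fun ab : F × F => ι ab.1 + ι ab.2 * θ := by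
    rintro ⟨a, b⟩ ⟨c, d⟩ h
    simp only at h
    have hbd : b = d := by
      by_contra hne
      apply hθ
      have hd : ι (b - d) ≠ 0 := by simpa [sub_eq_zero, ι.injective.eq_iff] using hne
      have : θ = ι ((c - a) / (b - d)) := by
        rw [map_div₀, eq_div_iff hd, map_sub, map_sub]
        linear_combination h
      rw [this, hfix]
    subst hbd
    simpa [ι.injective.eq_iff] using h
  have hbij : Function.Bijective fun ab : F × F => ι ab.1 + ι ab.2 * θ :=
    (Fintype.bijective_iff_injective_and_card _).2 ⟨hinj, by rw [Fintype.card_prod, hF, hK]; ring⟩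
  refine ⟨⟨ι, θ, hfix, hθ, (Equiv.ofBijective _ hbij).symm,
    fun x => (Equiv.ofBijective _ hbij).apply_symm_apply x, fun x y => ?_, fun x => ?_⟩⟩
  · rw [hqp]; exact add_pow_char_pow x y p' f
  · rw [← pow_mul, ← pow_two, ← hK, FiniteField.pow_card]

namespace QuadExt

variable {K F : Type*} [Field K] [Field F] {q : ℕ} (E : QuadExt K F q)

theorem coord_unique {x : K} {a b : F} (h : E.ι a + E.ι b * E.θ = x) : E.coord x = (a, b) := by
  have h' := (E.coord_spec x).trans h.symm
  have hb : (E.coord x).2 = b := by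
    by_contra hne
    apply E.θ_ne
    have hd : E.ι ((E.coord x).2 - b) ≠ 0 := by simpa [sub_eq_zero, E.ι.injective.eq_iff] using hne
    have : E.θ = E.ι ((a - (E.coord x).1) / ((E.coord x).2 - b)) := by
      rw [map_div₀, eq_div_iff hd, map_sub, map_sub]
      linear_combination h'
    rw [this, E.fixed]
  rw [hb] at h'
  exact Prod.ext (E.ι.injective (add_right_cancel h')) hb

/-- Restriction of scalars on column vectors. -/
def vec (m : ℕ) : (Fin m ⊕ Fin m → F) ≃ (Fin m → K) where
  toFun v i := E.ι (v (.inl i)) + E.ι (v (.inr i)) * E.θ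
  invFun w := Sum.elim (fun i => (E.coord (w i)).1) fun i => (E.coord (w i)).2
  left_inv v := by
    funext k
    rcases k with i | i <;> simp only [Sum.elim_inl, Sum.elim_inr] <;> rw [E.coord_unique rfl]
  right_inv w := funext fun i => E.coord_spec (w i)

theorem vec_add {m : ℕ} (v w : Fin m ⊕ Fin m → F) : E.vec m (v + w) = E.vec m v + E.vec m w := by
  funext i
  simp [vec]
  ring

theorem vec_smul {m : ℕ} (c : F) (v : Fin m ⊕ Fin m → F) : E.vec m (c • v) = E.ι c • E.vec m v := by
  funext i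
  simp [vec]
  ring

theorem herm_antisymm {m : ℕ} (u v : Fin m ⊕ Fin m → F) :
    hermForm m K q (E.vec m u) (E.vec m v) - hermForm m K q (E.vec m v) (E.vec m u) =
      (E.θ - E.θ ^ q) * E.ι (u ⬝ᵥ (Matrix.J (Fin m) F *ᵥ v)) := by
  have hJ : u ⬝ᵥ (Matrix.J (Fin m) F *ᵥ v) =
      ∑ i, (u (.inr i) * v (.inl i) - u (.inl i) * v (.inr i)) := by
    rw [Matrix.J, Matrix.fromBlocks_mulVec, dotProduct, Fintype.sum_sum_type]
    simp only [Sum.elim_inl, Sum.elim_inr, Matrix.zero_mulVec, zero_add, add_zero,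
      Matrix.neg_mulVec, Matrix.one_mulVec, Pi.neg_apply, Function.comp_apply,
      ← Finset.sum_add_distrib]
    exact Finset.sum_congr rfl fun i _ => by ring
  rw [hJ, map_sum, Finset.mul_sum, hermForm, hermForm, ← Finset.sum_sub_distrib]
  refine Finset.sum_congr rfl fun i _ => ?_
  simp only [vec, Equiv.coe_fn_mk, E.frob_add, mul_pow, E.fixed, map_sub, map_mul]
  ring

/-- Restriction of scalars of a matrix. -/
noncomputable def res (m : ℕ) (g : Matrix (Fin m) (Fin m) K) : Matrix (Fin m ⊕ Fin m) (Fin m ⊕ Fin m) F :=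
  LinearMap.toMatrix'
    { toFun := fun v => (E.vec m).symm (g *ᵥ E.vec m v)
      map_add' := fun v w => by
        apply (E.vec m).injective
        simp only [E.vec_add, Equiv.apply_symm_apply, Matrix.mulVec_add]
      map_smul' := fun c v => by
        apply (E.vec m).injective
        simp only [E.vec_smul, Equiv.apply_symm_apply, Matrix.mulVec_smul, RingHom.id_apply] }

theorem res_mulVec (m : ℕ) (g : Matrix (Fin m) (Fin m) K) (v : Fin m ⊕ Fin m → F) :
    E.vec m (E.res m g *ᵥ v) = g *ᵥ E.vec m v := by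
  rw [res, LinearMap.toMatrix'_mulVec, LinearMap.coe_mk, AddHom.coe_mk, Equiv.apply_symm_apply]

include E in
theorem exists_gu_embedding (m : ℕ) :
    ∃ φ : ↥(Cfsg.GU m K q) →* ↥(Matrix.symplecticGroup (Fin m) F), Function.Injective φ := by
  have hmem : ∀ g : ↥(Cfsg.GU m K q),
      E.res m ((g : GL (Fin m) K) : Matrix (Fin m) (Fin m) K) ∈ Matrix.symplecticGroup (Fin m) F := by
    intro g
    rw [SymplecticGroup.mem_iff']
    refine Matrix.toBilin'.injective ?_
    refine LinearMap.ext fun u => LinearMap.ext fun v => ?_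
    rw [Matrix.toBilin'_apply', Matrix.toBilin'_apply', ← Matrix.mulVec_mulVec,
      ← Matrix.mulVec_mulVec, Matrix.dotProduct_mulVec, Matrix.vecMul_transpose]
    refine E.ι.injective (mul_left_cancel₀ (sub_ne_zero.2 E.θ_ne.symm) ?_)
    rw [← herm_antisymm, ← herm_antisymm, res_mulVec, res_mulVec]
    exact congrArg₂ (· - ·) (g.2 _ _) (g.2 _ _)
  refine ⟨⟨⟨fun g => ⟨_, hmem g⟩, ?_⟩, ?_⟩, ?_⟩
  · refine Subtype.ext (Matrix.ext_iff_mulVec.2 fun v => (E.vec m).injective ?_)
    simp [res_mulVec]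
  · intro g h
    refine Subtype.ext (Matrix.ext_iff_mulVec.2 fun v => (E.vec m).injective ?_)
    simp only [Submonoid.coe_mul, Subgroup.coe_mul, Units.val_mul, ← Matrix.mulVec_mulVec, res_mulVec]
  · intro g h hgh
    refine Subtype.ext (Units.ext (Matrix.ext_iff_mulVec.2 fun w => ?_))
    obtain ⟨v, rfl⟩ := (E.vec m).surjective w
    rw [← res_mulVec, ← res_mulVec]
    exact congrArg (fun A => E.vec m (A *ᵥ v)) (Subtype.ext_iff.1 hgh)

end QuadExt

end Cfsg.Agent.QForm
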