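/-
The quadratic form `Σ N(w_i)` on `K^m` over `F` (`|K| = q²`, `|F| = q`): it has plus type for even `m` and minus
type for odd `m`; hence the embeddings of `GU_m(q)` in orthogonal groups.
-/
import Mathlib
import Cfsg.Agent.Lib.QForm.QuadExt
import Cfsg.Agent.Lib.QForm.Basis
import Cfsg.Agent.Lib.Forms.Quad
import Cfsg.Agent.Lib.Forms.Herm
import Cfsg.Agent.Lib.Field.QuadraticExt

set_option autoImplicit false

namespace Cfsg.Agent.QForm

open scoped Matrix

section Pairs

variable {F V : Type*} [Field F] [AddCommGroup V] [Module F V] {Q : QuadraticForm F V} {k : ℕ} {e f : Fin k → V}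

/-- A totally singular independent family extends to a family of pairs. -/
theorem exists_pairs_of_singular [FiniteDimensional F V] (hQ : (QuadraticMap.polarBilin Q).Nondegenerate)
    (e : Fin k → V) (hli : LinearIndependent F e) (he : ∀ i, Q (e i) = 0)
    (hee : ∀ i j, QuadraticMap.polar ⇑Q (e i) (e j) = 0) : ∃ f : Fin k → V, IsPairs Q e f := by
  classical
  have hex : ∀ i, ∃ u, ∀ j, QuadraticMap.polar ⇑Q u (e j) = if i = j then 1 else 0 := by
    intro i
    obtain ⟨u, hu, hu1⟩ := Forms.quadratic_exists_perp hQ (S := Submodule.span F (e '' {j | j ≠ i})) (v := e i)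
      (hli.notMem_span_image (by simp))
    refine ⟨u, fun j => ?_⟩
    by_cases h : i = j
    · subst h; simpa using hu1
    · rw [if_neg h]
      exact hu _ (Submodule.subset_span ⟨j, Ne.symm h, rfl⟩)
  choose u hu using hex
  let c : Fin k → Fin k → F := fun i j =>
    if i < j then QuadraticMap.polar ⇑Q (u i) (u j) else if i = j then Q (u i) else 0
  let S : Fin k → V := fun i => ∑ j, c i j • e j
  have hue : ∀ i j, QuadraticMap.polar ⇑Q (u i) (S j) = c j i := fun i j => by
    rw [← QuadraticMap.polarBilin_apply_apply, map_sum]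
    simp [hu]
  have hSe : ∀ i j, QuadraticMap.polar ⇑Q (S i) (e j) = 0 := fun i j => by
    rw [← QuadraticMap.polarBilin_apply_apply, map_sum, LinearMap.sum_apply]
    simp [hee]
  have hSS : ∀ i j, QuadraticMap.polar ⇑Q (S i) (S j) = 0 := fun i j => by
    show QuadraticMap.polarBilin Q (S i) (∑ l, c j l • e l) = 0
    rw [map_sum]
    simp [hSe]
  have hQsum : ∀ (s : Finset (Fin k)) (g : Fin k → F), Q (∑ j ∈ s, g j • e j) = 0 := by
    intro s g
    induction s using Finset.induction_on with
    | empty => simp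
    | insert j s hj ih =>
      rw [Finset.sum_insert hj, Forms.quadratic_map_add, ih, QuadraticMap.map_smul, he, map_sum]
      simp [hee]
  have hQS : ∀ i, Q (S i) = 0 := fun i => hQsum _ _
  refine ⟨fun i => u i - S i, he, fun i => ?_, fun i j => ?_, hee, fun i j => ?_⟩
  · rw [sub_eq_add_neg, Forms.quadratic_map_add, QuadraticMap.map_neg, hQS, map_neg,
      QuadraticMap.polarBilin_apply_apply, hue]
    simp [c]
  · rw [QuadraticMap.polar_sub_right, QuadraticMap.polar_comm, hu, QuadraticMap.polar_comm ⇑Q (e i), hSe, sub_zero]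
    exact if_congr eq_comm rfl rfl
  · rw [QuadraticMap.polar_sub_left, QuadraticMap.polar_sub_right, QuadraticMap.polar_sub_right, hue, hSS,
      QuadraticMap.polar_comm ⇑Q (S i), hue, sub_zero]
    rcases lt_trichotomy i j with h | h | h
    · simp [c, h, h.not_gt, h.ne']
    · subst h
      simp [c, QuadraticMap.polar_self, two_smul]
    · simp [c, h, h.not_gt, h.ne', QuadraticMap.polar_comm ⇑Q (u i)]

/-- Norm of a combination of pairs and a vector orthogonal to them. -/
theorem IsPairs.apply_combination (h : IsPairs Q e f) (a b : Fin k → F) {c : V} (hc : c ∈ perp Q e f) :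
    Q ((∑ i, (a i • e i + b i • f i)) + c) = (∑ i, a i * b i) + Q c := by
  classical
  have hone : ∀ i, Q (a i • e i + b i • f i) = a i * b i := fun i => by
    rw [Forms.quadratic_map_add, QuadraticMap.map_smul, QuadraticMap.map_smul, h.he, h.hf, map_smul, map_smul,
      LinearMap.smul_apply, QuadraticMap.polarBilin_apply_apply, h.hef, if_pos rfl]
    simp [mul_comm]
  have hs : ∀ s : Finset (Fin k), Q (∑ i ∈ s, (a i • e i + b i • f i)) = ∑ i ∈ s, a i * b i := by
    intro s
    induction s using Finset.induction_on with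
    | empty => simp
    | insert j s hj ih =>
      rw [Finset.sum_insert hj, Finset.sum_insert hj, Forms.quadratic_map_add, ih, hone, map_sum,
        Finset.sum_eq_zero (s := s) (f := fun i => (QuadraticMap.polarBilin Q) (a j • e j + b j • f j) (a i • e i + b i • f i)) ?_,
        add_zero]
      intro i hi
      have hne : i ≠ j := fun h0 => hj (h0 ▸ hi)
      simp [h.hee, h.hff, h.hef, hne.symm, QuadraticMap.polar_comm ⇑Q (f _) (e _), hne]
  rw [Forms.quadratic_map_add, hs, map_sum, LinearMap.sum_apply]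
  obtain ⟨h1, h2⟩ := mem_perp.1 hc
  simp [h1, h2]

end Pairs

namespace QuadExt

variable {K F : Type*} [Field K] [Field F] {q : ℕ} (E : QuadExt K F q)

/-- `Σ N(w_i)` in coordinates. -/
noncomputable def normForm (_E : QuadExt K F q) (t n : F) (m : ℕ) : QuadraticForm F (Fin m ⊕ Fin m → F) :=
  ∑ i : Fin m, (QuadraticMap.proj (Sum.inl i) (Sum.inl i) + t • QuadraticMap.proj (Sum.inl i) (Sum.inr i) +
    n • QuadraticMap.proj (Sum.inr i) (Sum.inr i))

theorem normForm_spec {t n : F} (ht : E.ι t = E.θ + E.θ ^ q) (hn : E.ι n = E.θ * E.θ ^ q) {m : ℕ}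
    (v : Fin m ⊕ Fin m → F) : E.ι (E.normForm t n m v) = hermForm m K q (E.vec m v) (E.vec m v) := by
  simp only [normForm, hermForm, sum_apply, QuadraticMap.add_apply, QuadraticMap.smul_apply,
    QuadraticMap.proj_apply, smul_eq_mul, map_sum, map_add, map_mul, ht, hn]
  refine Finset.sum_congr rfl fun i _ => ?_
  simp only [vec, Equiv.coe_fn_mk, E.frob_add, mul_pow, E.fixed]
  ring

include E in
theorem exists_trace_norm : ∃ t n : F, E.ι t = E.θ + E.θ ^ q ∧ E.ι n = E.θ * E.θ ^ q := by
  have hdown : ∀ x : K, x ^ q = x → ∃ a, E.ι a = x := by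
    intro x hx
    refine ⟨(E.coord x).1, ?_⟩
    have h := E.coord_spec x
    have hb : (E.coord x).2 = 0 := by
      by_contra hb
      apply E.θ_ne
      have h1 : E.ι (E.coord x).2 * E.θ ^ q = E.ι (E.coord x).2 * E.θ := by
        have h2 := congrArg (· ^ q) h
        simp only [E.frob_add, mul_pow, E.fixed, hx] at h2
        linear_combination h2 - h
      exact mul_left_cancel₀ (by simpa using hb) h1
    rwa [hb, map_zero, zero_mul, add_zero] at h
  obtain ⟨t, ht⟩ := hdown (E.θ + E.θ ^ q) (by rw [E.frob_add, E.frob_frob, add_comm])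
  obtain ⟨n, hn⟩ := hdown (E.θ * E.θ ^ q) (by rw [mul_pow, E.frob_frob, mul_comm])
  exact ⟨t, n, ht, hn⟩

theorem normForm_nondegenerate [Finite F] {t n : F} (ht : E.ι t = E.θ + E.θ ^ q) (hn : E.ι n = E.θ * E.θ ^ q)
    (m : ℕ) : (QuadraticMap.polarBilin (E.normForm t n m)).Nondegenerate := by
  have hdet : t ^ 2 - 4 * n ≠ 0 := by
    intro h0
    apply E.θ_ne
    have h1 : E.ι (t ^ 2 - 4 * n) = 0 := by rw [h0, map_zero]
    rw [map_sub, map_pow, map_mul, map_ofNat, ht, hn] at h1
    have h2 : (E.θ ^ q - E.θ) ^ 2 = 0 := by linear_combination h1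
    exact sub_eq_zero.1 (pow_eq_zero_iff two_ne_zero |>.1 h2)
  have hl : ∀ x, (∀ y, QuadraticMap.polar ⇑(E.normForm t n m) x y = 0) → x = 0 := by
    intro x hx
    have key : ∀ i, 2 * x (.inl i) + t * x (.inr i) = 0 ∧ t * x (.inl i) + 2 * n * x (.inr i) = 0 := by
      intro i
      have h : ∀ y, QuadraticMap.polar ⇑(E.normForm t n m) x y = ∑ j,
          (2 * x (.inl j) * y (.inl j) + t * (x (.inl j) * y (.inr j) + x (.inr j) * y (.inl j)) +
            2 * n * x (.inr j) * y (.inr j)) := by
        intro y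
        simp only [QuadraticMap.polar, normForm, sum_apply, QuadraticMap.add_apply, QuadraticMap.smul_apply,
          QuadraticMap.proj_apply, smul_eq_mul, Pi.add_apply, ← Finset.sum_sub_distrib]
        exact Finset.sum_congr rfl fun j _ => by ring
      have h1 := (h (Pi.single (.inl i) 1)).symm.trans (hx _)
      have h2 := (h (Pi.single (.inr i) 1)).symm.trans (hx _)
      simp [Pi.single_apply, Finset.sum_add_distrib] at h1 h2
      exact ⟨by linear_combination h1, by linear_combination h2⟩
    funext j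
    rcases j with i | i <;> obtain ⟨k1, k2⟩ := key i
    · exact (mul_eq_zero.1 (show (t ^ 2 - 4 * n) * x (.inl i) = 0 by
        linear_combination t * k2 - 2 * n * k1)).resolve_left hdet
    · exact (mul_eq_zero.1 (show (t ^ 2 - 4 * n) * x (.inr i) = 0 by
        linear_combination t * k1 - 2 * k2)).resolve_left hdet
  exact ⟨hl, fun y hy => hl y fun x => by rw [QuadraticMap.polar_comm]; exact hy x⟩

/-- Transfer of `GU_m` into the isometry group of any form isometric to the norm form. -/
theorem exists_embedding {t n : F} (ht : E.ι t = E.θ + E.θ ^ q) (hn : E.ι n = E.θ * E.θ ^ q) {m : ℕ}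
    {κ : Type} [Fintype κ] [DecidableEq κ] {f : (κ → F) → F} (e : (κ → F) ≃ₗ[F] (Fin m ⊕ Fin m → F))
    (he : ∀ v, E.normForm t n m (e v) = f v) :
    ∃ φ : ↥(Cfsg.GU m K q) →* ↥(Cfsg.isometryGroup F f), Function.Injective φ := by
  have hinv : ∀ g h : Matrix (Fin m) (Fin m) K, E.res m (g * h) = E.res m g * E.res m h := fun g h =>
    Matrix.ext_iff_mulVec.2 fun v => (E.vec m).injective (by
      simp only [← Matrix.mulVec_mulVec, res_mulVec])
  have hone : E.res m 1 = 1 := Matrix.ext_iff_mulVec.2 fun v => (E.vec m).injective (by simp [res_mulVec])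
  let ρ : Matrix (Fin m) (Fin m) K →* Matrix (Fin m ⊕ Fin m) (Fin m ⊕ Fin m) F :=
    ⟨⟨E.res m, hone⟩, hinv⟩
  let ψ : ↥(Cfsg.GU m K q) →* ↥(Cfsg.isometryGroup F ⇑(E.normForm t n m)) :=
    ((Units.map ρ).comp (Cfsg.GU m K q).subtype).codRestrict _ fun g v _ => E.ι.injective (by
      show E.ι (E.normForm t n m (E.res m _ *ᵥ v)) = E.ι (E.normForm t n m v)
      rw [E.normForm_spec ht hn, E.normForm_spec ht hn, res_mulVec]
      exact g.2 _ _)
  let c : ↥(Cfsg.isometryGroup F ⇑(E.normForm t n m)) ≃* ↥(Cfsg.isometryGroup F f) :=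
    ((Forms.isometryGroupEquiv _).trans (Forms.isomCongr e.symm fun u _ => by
      rw [← he, e.apply_symm_apply])).trans (Forms.isometryGroupEquiv f).symm
  refine ⟨c.toMonoidHom.comp ψ, c.injective.comp fun g h hgh => ?_⟩
  refine Subtype.ext (Units.ext (Matrix.ext_iff_mulVec.2 fun w => ?_))
  obtain ⟨v, rfl⟩ := (E.vec m).surjective w
  rw [← res_mulVec, ← res_mulVec]
  exact congrArg (fun A => E.vec m (A *ᵥ v)) (congrArg Units.val (congrArg Subtype.val hgh))

/-- The totally singular family for `2 * l ≤ m`. -/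
theorem exists_norm_pairs [Fintype K] [Fintype F] (hK : Fintype.card K = q ^ 2) {t n : F}
    (ht : E.ι t = E.θ + E.θ ^ q) (hn : E.ι n = E.θ * E.θ ^ q) {m l : ℕ} (hl : 2 * l ≤ m) :
    ∃ e f : Fin (l + l) → (Fin m ⊕ Fin m → F), IsPairs (E.normForm t n m) e f ∧
      ∀ i (j : Fin m), 2 * l ≤ (j : ℕ) → e i (.inl j) = 0 ∧ e i (.inr j) = 0 := by
  classical
  obtain ⟨μ, hμ0, hμ⟩ := Forms.exists_norm_eq hK (c := (-1 : K)) (neg_ne_zero.2 one_ne_zero) (by
    have h := E.fixed (-1)
    simp only [map_neg, map_one] at h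
    exact h)
  have hμ' : μ * μ ^ q = -1 := by rw [← pow_succ']; exact hμ
  have hq : q ≠ 0 := fun h0 => E.θ_ne (by
    have := E.fixed 0
    rw [map_zero, show (0 : K) ^ q = 1 by rw [h0]; simp] at this
    exact absurd this one_ne_zero)
  let c : Fin l ⊕ Fin l → K := Sum.elim (fun _ => 1) fun _ => E.θ
  let b : Fin l ⊕ Fin l → ℕ := Sum.elim (fun j => (j : ℕ)) fun j => (j : ℕ)
  have hb : ∀ s, b s < l := by rintro (j | j) <;> exact j.2
  let u : Fin l ⊕ Fin l → (Fin m → K) := fun s i =>
    if (i : ℕ) = 2 * b s then c s else if (i : ℕ) = 2 * b s + 1 then μ * c s else 0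
  have hherm : ∀ s s', hermForm m K q (u s) (u s') = 0 := by
    intro s s'
    by_cases hbb : b s = b s'
    · let i₀ : Fin m := ⟨2 * b s, by have := hb s; omega⟩
      let i₁ : Fin m := ⟨2 * b s + 1, by have := hb s; omega⟩
      rw [hermForm, Fintype.sum_eq_add i₀ i₁ (fun h => by have := congrArg Fin.val h; simp [i₀, i₁] at this)
        (fun j hj => by
          have h0 : (j : ℕ) ≠ 2 * b s := fun h => hj.1 (Fin.ext h)
          have h1 : (j : ℕ) ≠ 2 * b s + 1 := fun h => hj.2 (Fin.ext h)
          simp [u, h0, h1])]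
      simp only [u, i₀, i₁, ← hbb, if_true, if_neg (show 2 * b s + 1 ≠ 2 * b s by omega), mul_pow]
      linear_combination (c s * c s' ^ q) * hμ'
    · refine Finset.sum_eq_zero fun i _ => ?_
      by_cases h1 : (i : ℕ) = 2 * b s ∨ (i : ℕ) = 2 * b s + 1
      · have h2 : (i : ℕ) ≠ 2 * b s' ∧ (i : ℕ) ≠ 2 * b s' + 1 := by omega
        simp [u, h2.1, h2.2, zero_pow hq]
      · simp only [not_or] at h1
        simp [u, h1.1, h1.2]
  let v : Fin (l + l) → (Fin m ⊕ Fin m → F) := fun i => (E.vec m).symm (u (finSumFinEquiv.symm i))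
  have hvec : ∀ i, E.vec m (v i) = u (finSumFinEquiv.symm i) := fun i => Equiv.apply_symm_apply _ _
  have hQv : ∀ i, E.normForm t n m (v i) = 0 := fun i => E.ι.injective (by
    rw [E.normForm_spec ht hn, hvec, hherm, map_zero])
  have hpol : ∀ i j, QuadraticMap.polar ⇑(E.normForm t n m) (v i) (v j) = 0 := fun i j => E.ι.injective (by
    rw [QuadraticMap.polar, map_sub, map_sub, E.normForm_spec ht hn, E.normForm_spec ht hn,
      E.normForm_spec ht hn, E.vec_add, hvec, hvec, map_zero]
    have hadd : ∀ x y : Fin m → K, hermForm m K q (x + y) (x + y) =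
        hermForm m K q x x + hermForm m K q y y + (hermForm m K q x y + hermForm m K q y x) := by
      intro x y
      simp only [hermForm, ← Finset.sum_add_distrib, Pi.add_apply, E.frob_add]
      exact Finset.sum_congr rfl fun i _ => by ring
    rw [hadd, hherm, hherm, hherm, hherm]
    ring)
  have hli : LinearIndependent F v := by
    rw [Fintype.linearIndependent_iff]
    intro g hg
    have hpair : ∀ j : Fin l, g (finSumFinEquiv (.inl j)) = 0 ∧ g (finSumFinEquiv (.inr j)) = 0 := by
      intro j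
      let i₀ : Fin m := ⟨2 * (j : ℕ), by omega⟩
      let evalK : (Fin m ⊕ Fin m → F) →+ K :=
        { toFun := fun x => E.vec m x i₀
          map_zero' := by simp [vec]
          map_add' := fun x y => by rw [E.vec_add]; rfl }
      have h0 := congrArg evalK hg
      rw [map_sum, map_zero] at h0
      have h1 : ∀ i, evalK (g i • v i) = E.ι (g i) * u (finSumFinEquiv.symm i) i₀ := fun i => by
        show E.vec m (g i • v i) i₀ = _
        rw [E.vec_smul, hvec]; rfl
      simp only [h1] at h0
      rw [← finSumFinEquiv.sum_comp] at h0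
      simp only [Equiv.symm_apply_apply] at h0
      rw [Fintype.sum_sum_type, Finset.sum_eq_single j (fun j' _ hj' => by
          have : (j : ℕ) ≠ j' := fun h => hj' (Fin.ext h.symm)
          simp [u, b, i₀, show 2 * (j : ℕ) ≠ 2 * (j' : ℕ) by omega, show 2 * (j : ℕ) ≠ 2 * (j' : ℕ) + 1 by omega])
          (by simp), Finset.sum_eq_single j (fun j' _ hj' => by
          have : (j : ℕ) ≠ j' := fun h => hj' (Fin.ext h.symm)
          simp [u, b, i₀, show 2 * (j : ℕ) ≠ 2 * (j' : ℕ) by omega, show 2 * (j : ℕ) ≠ 2 * (j' : ℕ) + 1 by omega])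
          (by simp)] at h0
      simp [u, b, c, i₀] at h0
      have h2 := E.coord_unique h0
      have h3 := E.coord_unique (x := (0 : K)) (a := 0) (b := 0) (by simp)
      rw [h3] at h2
      simp only [Prod.mk.injEq] at h2
      exact ⟨by simpa using h2.1.symm, by simpa using h2.2.symm⟩
    intro i
    obtain ⟨s, rfl⟩ := finSumFinEquiv.surjective i
    rcases s with j | j
    · exact (hpair j).1
    · exact (hpair j).2
  obtain ⟨f, hf⟩ := exists_pairs_of_singular (E.normForm_nondegenerate ht hn m) v hli hQv hpol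
  refine ⟨v, f, hf, fun i j hj => ?_⟩
  have h0 : u (finSumFinEquiv.symm i) j = 0 := by
    have := hb (finSumFinEquiv.symm i)
    simp [u, show (j : ℕ) ≠ 2 * b (finSumFinEquiv.symm i) by omega,
      show (j : ℕ) ≠ 2 * b (finSumFinEquiv.symm i) + 1 by omega]
  have hx : (0 : K) = E.vec m (v i) j := by rw [hvec, h0]
  have := E.coord_unique (x := (0 : K)) (a := v i (.inl j)) (b := v i (.inr j)) hx.symm
  rw [E.coord_unique (x := (0 : K)) (a := 0) (b := 0) (by simp)] at this
  exact ⟨(congrArg Prod.fst this).symm, (congrArg Prod.snd this).symm⟩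

/-- Plus type for even `m`. -/
theorem exists_isometry_plus [Fintype K] [Fintype F] (hK : Fintype.card K = q ^ 2) {t n : F}
    (ht : E.ι t = E.θ + E.θ ^ q) (hn : E.ι n = E.θ * E.θ ^ q) {m : ℕ} (hm : Even m) :
    ∃ e : (Fin m ⊕ Fin m → F) ≃ₗ[F] (Fin m ⊕ Fin m → F), ∀ v, E.normForm t n m (e v) = quadFormPlus m F v := by
  obtain ⟨l, rfl⟩ := hm
  obtain ⟨e, f, h, -⟩ := E.exists_norm_pairs hK ht hn (m := l + l) (l := l) (by omega)
  let T : (Fin (l + l) ⊕ Fin (l + l) → F) →ₗ[F] (Fin (l + l) ⊕ Fin (l + l) → F) :=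
    { toFun := fun v => ∑ i, (v (.inl i) • e i + v (.inr i) • f i)
      map_add' := fun a b => by
        rw [← Finset.sum_add_distrib]
        exact Finset.sum_congr rfl fun i _ => by simp only [Pi.add_apply]; module
      map_smul' := fun c a => by
        rw [Finset.smul_sum]
        exact Finset.sum_congr rfl fun i _ => by simp only [Pi.smul_apply, RingHom.id_apply, smul_eq_mul]; module }
  have hT : Function.Injective T := by
    rw [injective_iff_map_eq_zero]
    intro v hv
    have hv' : ∑ i, (v (.inl i) • e i + v (.inr i) • f i) = 0 := hv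
    funext k
    rcases k with i | i
    · have := h.polar_f_sum (fun i => v (.inl i)) (fun i => v (.inr i)) i
      rw [hv', QuadraticMap.polar_zero_right] at this
      exact this.symm
    · have := h.polar_e_sum (fun i => v (.inl i)) (fun i => v (.inr i)) i
      rw [hv', QuadraticMap.polar_zero_right] at this
      exact this.symm
  refine ⟨LinearEquiv.ofInjectiveEndo T hT, fun v => ?_⟩
  have := h.apply_combination (fun i => v (.inl i)) (fun i => v (.inr i)) (Submodule.zero_mem (perp _ e f))
  rw [add_zero, QuadraticMap.map_zero, add_zero] at this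
  rw [LinearEquiv.coe_ofInjectiveEndo]
  exact this

/-- Minus type for odd `m`, for any anisotropic binary part. -/
theorem exists_isometry_minus [Fintype K] [Fintype F] (hK : Fintype.card K = q ^ 2) (hF : Fintype.card F = q)
    {t n : F} (ht : E.ι t = E.θ + E.θ ^ q) (hn : E.ι n = E.θ * E.θ ^ q) {m : ℕ} (hm : Odd m) (a b : F)
    (hab : ∀ z₁ z₂ : F, z₁ ^ 2 + a * z₁ * z₂ + b * z₂ ^ 2 = 0 → z₁ = 0 ∧ z₂ = 0) :
    ∃ e : ((Fin (m - 1) ⊕ Fin (m - 1)) ⊕ Fin 2 → F) ≃ₗ[F] (Fin m ⊕ Fin m → F),
      ∀ v, E.normForm t n m (e v) = quadFormMinus (m - 1) F a b v := by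
  classical
  obtain ⟨l, rfl⟩ := hm
  obtain ⟨e, f, h, hsupp⟩ := E.exists_norm_pairs hK ht hn (m := 2 * l + 1) (l := l) (by omega)
  -- a root of the binary form
  let _ : Algebra F K := E.ι.toAlgebra
  obtain ⟨ω, hω⟩ := FieldExt.exists_root (FieldExt.finrank_eq_two (F := F) (K := K) (by rw [hK, hF])) a b
  have hω' : ω ^ 2 + E.ι a * ω + E.ι b = 0 := hω
  have hωne : ω ^ q ≠ ω := by
    intro hfix
    have hc := E.coord_spec ω
    have hb0 : (E.coord ω).2 = 0 := by
      by_contra hb0
      apply E.θ_ne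
      have h2 := congrArg (· ^ q) hc
      simp only [E.frob_add, mul_pow, E.fixed, hfix] at h2
      exact mul_left_cancel₀ (show E.ι (E.coord ω).2 ≠ 0 by simpa using hb0)
        (show E.ι (E.coord ω).2 * E.θ ^ q = E.ι (E.coord ω).2 * E.θ by linear_combination h2 - hc)
    rw [hb0, map_zero, zero_mul, add_zero] at hc
    have h0 : (E.coord ω).1 ^ 2 + a * (E.coord ω).1 + b = 0 := E.ι.injective (by
      rw [map_add, map_add, map_mul, map_pow, map_zero, hc, hω'])
    exact one_ne_zero (hab (E.coord ω).1 1 (by linear_combination h0)).2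
  have hωq : (ω ^ q) ^ 2 + E.ι a * ω ^ q + E.ι b = 0 := by
    have h1 := congrArg (· ^ q) hω'
    have hq : q ≠ 0 := by rw [← hF]; exact Fintype.card_ne_zero
    simp only [zero_pow hq, E.frob_add, mul_pow, E.fixed] at h1
    rw [← pow_mul, mul_comm 2 q, pow_mul] at h1
    exact h1
  have hsum : ω + ω ^ q = -E.ι a := by
    have : (ω ^ q - ω) * (ω + ω ^ q + E.ι a) = 0 := by linear_combination hωq - hω'
    exact eq_neg_of_add_eq_zero_left ((mul_eq_zero.1 this).resolve_left (sub_ne_zero.2 hωne))
  have hprod : ω * ω ^ q = E.ι b := by linear_combination ω * hsum - hω'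
  let last : Fin (2 * l + 1) := ⟨2 * l, by omega⟩
  let w : (Fin 2 → F) → (Fin (2 * l + 1) ⊕ Fin (2 * l + 1) → F) := fun z =>
    Pi.single (.inl last) (E.coord (E.ι (z 0) - E.ι (z 1) * ω)).1 +
      Pi.single (.inr last) (E.coord (E.ι (z 0) - E.ι (z 1) * ω)).2
  have hvw : ∀ z, E.vec _ (w z) = Pi.single last (E.ι (z 0) - E.ι (z 1) * ω) := by
    intro z
    funext i
    by_cases hi : i = last
    · subst hi
      rw [Pi.single_eq_same]
      simp only [vec, Equiv.coe_fn_mk, w, Pi.add_apply, Pi.single_eq_same,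
        Pi.single_eq_of_ne Sum.inl_ne_inr, Pi.single_eq_of_ne Sum.inr_ne_inl, add_zero, zero_add]
      exact E.coord_spec _
    · rw [Pi.single_eq_of_ne hi]
      simp [vec, w, hi]
  have hQw : ∀ z, E.normForm t n _ (w z) = z 0 ^ 2 + a * z 0 * z 1 + b * z 1 ^ 2 := by
    intro z
    refine E.ι.injective ?_
    rw [E.normForm_spec ht hn, hvw, hermForm, Finset.sum_eq_single last (fun j _ hj => by simp [hj]) (by simp),
      Pi.single_eq_same, sub_eq_add_neg, E.frob_add, neg_eq_neg_one_mul (E.ι (z 1) * ω), mul_pow, mul_pow, E.fixed,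
      E.fixed, ← map_one E.ι, ← map_neg E.ι, E.fixed, map_neg, map_one, map_add, map_add, map_mul, map_mul,
      map_mul, map_pow, map_pow]
    linear_combination (-(E.ι (z 0) * E.ι (z 1))) * hsum + (E.ι (z 1) ^ 2) * hprod
  have hwlin : IsLinearMap F w := by
    constructor
    · intro x y
      apply (E.vec _).injective
      rw [hvw (x + y), E.vec_add, hvw x, hvw y, ← Pi.single_add]
      simp only [Pi.add_apply, map_add]
      congr 1
      ring
    · intro c x
      apply (E.vec _).injective
      rw [E.vec_smul, hvw, hvw, ← Pi.single_smul]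
      simp only [Pi.smul_apply, smul_eq_mul, map_mul]
      congr 1
      ring
  have hperp_e : ∀ z i, QuadraticMap.polar ⇑(E.normForm t n (2 * l + 1)) (e i) (w z) = 0 := by
    intro z i
    refine E.ι.injective ?_
    rw [QuadraticMap.polar, map_sub, map_sub, E.normForm_spec ht hn, E.normForm_spec ht hn, E.normForm_spec ht hn,
      E.vec_add, hvw, map_zero]
    have he0 : E.vec _ (e i) last = 0 := by
      obtain ⟨h1, h2⟩ := hsupp i last le_rfl
      simp [vec, h1, h2]
    simp only [hermForm, ← Finset.sum_sub_distrib, Pi.add_apply, E.frob_add]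
    refine Finset.sum_eq_zero fun j _ => ?_
    have hq : q ≠ 0 := by rw [← hF]; exact Fintype.card_ne_zero
    by_cases hj : j = last
    · subst hj; rw [he0, Pi.single_eq_same, zero_pow hq]; ring
    · rw [Pi.single_eq_of_ne hj, zero_pow hq]; ring
  let Q := E.normForm t n (2 * l + 1)
  let T : ((Fin (l + l) ⊕ Fin (l + l)) ⊕ Fin 2 → F) →ₗ[F] (Fin (2 * l + 1) ⊕ Fin (2 * l + 1) → F) :=
    { toFun := fun v => (∑ i, (v (.inl (.inl i)) • e i + v (.inl (.inr i)) • f i)) +
        (w (v ∘ Sum.inr) - proj Q e f (w (v ∘ Sum.inr)))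
      map_add' := fun x y => by
        rw [show (x + y) ∘ Sum.inr = x ∘ Sum.inr + y ∘ Sum.inr from rfl, hwlin.map_add]
        simp only [proj, QuadraticMap.polar_add_right, Pi.add_apply, add_smul, Finset.sum_add_distrib]
        abel
      map_smul' := fun c x => by
        rw [show (c • x) ∘ Sum.inr = c • (x ∘ Sum.inr) from rfl, hwlin.map_smul]
        simp only [proj, QuadraticMap.polar_smul_right, Pi.smul_apply, smul_eq_mul, mul_smul,
          Finset.smul_sum, smul_add, smul_sub, RingHom.id_apply] }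
  have hQT : ∀ v, Q (T v) = quadFormMinus (l + l) F a b v := by
    intro v
    show Q (_ + (w (v ∘ Sum.inr) - proj Q e f (w (v ∘ Sum.inr)))) = _
    rw [h.apply_combination _ _ (h.sub_proj_mem _)]
    have hpr : proj Q e f (w (v ∘ Sum.inr)) =
        ∑ i, (QuadraticMap.polar ⇑Q (f i) (w (v ∘ Sum.inr)) • e i + (0 : F) • f i) := by
      refine Finset.sum_congr rfl fun i _ => ?_
      rw [hperp_e]
    have hQ0 : Q (proj Q e f (w (v ∘ Sum.inr))) = 0 := by
      have := h.apply_combination (fun i => QuadraticMap.polar ⇑Q (f i) (w (v ∘ Sum.inr))) (fun _ => (0 : F))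
        (Submodule.zero_mem (perp Q e f))
      rw [add_zero, QuadraticMap.map_zero, add_zero, ← hpr] at this
      rw [this]; simp
    have hcross : QuadraticMap.polar ⇑Q (w (v ∘ Sum.inr)) (proj Q e f (w (v ∘ Sum.inr))) = 0 := by
      rw [hpr, ← QuadraticMap.polarBilin_apply_apply, map_sum]
      simp [QuadraticMap.polar_comm ⇑Q (w _) (e _), Q, hperp_e]
    rw [sub_eq_add_neg, Forms.quadratic_map_add, QuadraticMap.map_neg, hQ0, map_neg,
      QuadraticMap.polarBilin_apply_apply, hcross, hQw, quadFormMinus]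
    simp
  have hT : Function.Injective T := by
    rw [injective_iff_map_eq_zero]
    intro v hv
    have hv' : (∑ i, (v (.inl (.inl i)) • e i + v (.inl (.inr i)) • f i)) +
        (w (v ∘ Sum.inr) - proj Q e f (w (v ∘ Sum.inr))) = 0 := hv
    obtain ⟨p1, p2⟩ := mem_perp.1 (h.sub_proj_mem (w (v ∘ Sum.inr)))
    have ha : ∀ i, v (.inl (.inl i)) = 0 := fun i => by
      have h1 := congrArg (QuadraticMap.polarBilin Q (f i)) hv'
      rw [map_add, map_zero, QuadraticMap.polarBilin_apply_apply, QuadraticMap.polarBilin_apply_apply, p1,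
        add_zero, h.polar_f_sum] at h1
      exact h1
    have hb : ∀ i, v (.inl (.inr i)) = 0 := fun i => by
      have h1 := congrArg (QuadraticMap.polarBilin Q (e i)) hv'
      rw [map_add, map_zero, QuadraticMap.polarBilin_apply_apply, QuadraticMap.polarBilin_apply_apply, p2,
        add_zero, h.polar_e_sum] at h1
      exact h1
    have h2 : Q (T v) = 0 := by rw [hv, QuadraticMap.map_zero]
    rw [hQT, quadFormMinus] at h2
    simp only [ha, zero_mul, Finset.sum_const_zero, zero_add] at h2
    obtain ⟨z0, z1⟩ := hab _ _ h2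
    funext k
    rcases k with (i | i) | i
    · exact ha i
    · exact hb i
    · fin_cases i
      · exact z0
      · exact z1
  have hll : 2 * l + 1 - 1 = l + l := by omega
  rw [hll]
  refine ⟨LinearEquiv.ofBijective T ⟨hT, ?_⟩, hQT⟩
  exact (LinearMap.injective_iff_surjective_of_finrank_eq_finrank (by simp; omega)).1 hT

end QuadExt

end Cfsg.Agent.QForm
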