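/-
Reflections of a quadratic form on `ι → F` as elements of `isometryGroup`, and the spinor norm over finite fields
of odd order (sign of the permutation action on the sphere `Q = 1`, corrected by the determinant): an isometry
written as a product of reflections lies in `Omega` iff their number is even and the product of norms is a square.
-/
import Mathlib
import Cfsg.Prelude.Def_ClassicalGeometry
import Cfsg.Agent.Lib.Forms.Witt

set_option autoImplicit false

namespace Cfsg.Agent.QForm

open scoped Matrix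

variable {F : Type*} [Field F] {ι : Type} [Fintype ι] [DecidableEq ι] (Q : QuadraticForm F (ι → F))

theorem polarVec_dotProduct (v x : ι → F) : polarVec ⇑Q v ⬝ᵥ x = QuadraticMap.polar ⇑Q v x := by
  conv_rhs => rw [← QuadraticMap.polarBilin_apply_apply, pi_eq_sum_univ' x, map_sum]
  simp only [dotProduct, map_smul, QuadraticMap.polarBilin_apply_apply, smul_eq_mul]
  exact Finset.sum_congr rfl fun i _ => by
    rw [polarVec]
    ring

theorem reflectionMatrix_mulVec (v x : ι → F) :
    reflectionMatrix ⇑Q v *ᵥ x = x - ((Q v)⁻¹ * QuadraticMap.polar ⇑Q v x) • v := by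
  rw [reflectionMatrix, Matrix.sub_mulVec, Matrix.one_mulVec, Matrix.smul_mulVec,
    Matrix.vecMulVec_mulVec, polarVec_dotProduct, op_smul_eq_smul, smul_smul]

theorem apply_sub_smul (v x : ι → F) (c : F) :
    Q (x - c • v) = Q x + c * c * Q v - c * QuadraticMap.polar ⇑Q v x := by
  rw [sub_eq_add_neg, ← neg_smul, Forms.quadratic_map_add, QuadraticMap.map_smul, map_smul,
    QuadraticMap.polarBilin_apply_apply, QuadraticMap.polar_comm ⇑Q x v, smul_eq_mul, smul_eq_mul]
  ring

theorem polar_reflect_self {v : ι → F} (hv : Q v ≠ 0) (x : ι → F) :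
    QuadraticMap.polar ⇑Q v (reflectionMatrix ⇑Q v *ᵥ x) = -QuadraticMap.polar ⇑Q v x := by
  rw [reflectionMatrix_mulVec, ← QuadraticMap.polarBilin_apply_apply, map_sub, map_smul,
    QuadraticMap.polarBilin_apply_apply, QuadraticMap.polarBilin_apply_apply, QuadraticMap.polar_self,
    smul_eq_mul, nsmul_eq_mul]
  field_simp
  push_cast
  ring

theorem apply_reflect {v : ι → F} (hv : Q v ≠ 0) (x : ι → F) : Q (reflectionMatrix ⇑Q v *ᵥ x) = Q x := by
  rw [reflectionMatrix_mulVec, apply_sub_smul]
  field_simp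
  ring

theorem reflect_reflect {v : ι → F} (hv : Q v ≠ 0) (x : ι → F) :
    reflectionMatrix ⇑Q v *ᵥ (reflectionMatrix ⇑Q v *ᵥ x) = x := by
  rw [reflectionMatrix_mulVec Q v (reflectionMatrix ⇑Q v *ᵥ x), polar_reflect_self Q hv,
    reflectionMatrix_mulVec]
  module

theorem reflectionMatrix_mul_self {v : ι → F} (hv : Q v ≠ 0) :
    reflectionMatrix ⇑Q v * reflectionMatrix ⇑Q v = 1 :=
  Matrix.ext_iff_mulVec.2 fun x => by rw [← Matrix.mulVec_mulVec, reflect_reflect Q hv, Matrix.one_mulVec]

/-- The reflection as an element of the isometry group. -/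
def refl (v : ι → F) (hv : Q v ≠ 0) : ↥(isometryGroup F ⇑Q) :=
  ⟨⟨reflectionMatrix ⇑Q v, reflectionMatrix ⇑Q v, reflectionMatrix_mul_self Q hv,
    reflectionMatrix_mul_self Q hv⟩, fun x _ => apply_reflect Q hv x⟩

/-- The action of the isometry group on vectors. -/
abbrev act (g : ↥(isometryGroup F ⇑Q)) (x : ι → F) : ι → F :=
  ((g : Matrix.GeneralLinearGroup ι F) : Matrix ι ι F) *ᵥ x

theorem act_mul (g h : ↥(isometryGroup F ⇑Q)) (x : ι → F) : act Q (g * h) x = act Q g (act Q h x) :=
  (Matrix.mulVec_mulVec _ _ _).symm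

theorem act_one (x : ι → F) : act Q 1 x = x := Matrix.one_mulVec _

theorem act_inv_act (g : ↥(isometryGroup F ⇑Q)) (x : ι → F) : act Q g⁻¹ (act Q g x) = x := by
  rw [← act_mul, inv_mul_cancel, act_one]

theorem act_act_inv (g : ↥(isometryGroup F ⇑Q)) (x : ι → F) : act Q g (act Q g⁻¹ x) = x := by
  rw [← act_mul, mul_inv_cancel, act_one]

theorem act_map (g : ↥(isometryGroup F ⇑Q)) (x : ι → F) : Q (act Q g x) = Q x := g.2 x x

theorem act_polar (g : ↥(isometryGroup F ⇑Q)) (x y : ι → F) :
    QuadraticMap.polar ⇑Q (act Q g x) (act Q g y) = QuadraticMap.polar ⇑Q x y := by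
  simp only [QuadraticMap.polar, act, ← Matrix.mulVec_add]
  exact congrArg₂ (· - ·) (congrArg₂ (· - ·) (act_map Q g (x + y)) (act_map Q g x)) (act_map Q g y)

theorem act_refl (v : ι → F) (hv : Q v ≠ 0) (x : ι → F) :
    act Q (refl Q v hv) x = x - ((Q v)⁻¹ * QuadraticMap.polar ⇑Q v x) • v :=
  reflectionMatrix_mulVec Q v x

theorem isometry_ext {g h : ↥(isometryGroup F ⇑Q)} (H : ∀ x, act Q g x = act Q h x) : g = h :=
  Subtype.ext (Units.ext (Matrix.ext_iff_mulVec.2 H))

theorem conj_refl (g : ↥(isometryGroup F ⇑Q)) (v : ι → F) (hv : Q v ≠ 0) :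
    g * refl Q v hv * g⁻¹ = refl Q (act Q g v) (by rwa [act_map]) := by
  refine isometry_ext Q fun x => ?_
  rw [act_mul, act_mul, act_refl, act_refl, act_map]
  conv_rhs => rw [← act_act_inv Q g x, act_polar]
  show ((g : Matrix.GeneralLinearGroup ι F) : Matrix ι ι F) *ᵥ _ = _
  rw [Matrix.mulVec_sub, Matrix.mulVec_smul]

theorem refl_congr {v w : ι → F} (hv : Q v ≠ 0) (hw : Q w ≠ 0) {c : F} (h : w = c • v) :
    refl Q w hw = refl Q v hv := by
  subst h
  refine isometry_ext Q fun x => ?_
  have hc : c ≠ 0 := by rintro rfl; simp at hw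
  rw [act_refl, act_refl, QuadraticMap.map_smul, QuadraticMap.polar_smul_left, smul_smul, smul_eq_mul,
    smul_eq_mul]
  congr 2
  field_simp

theorem refl_mul_self (v : ι → F) (hv : Q v ≠ 0) : refl Q v hv * refl Q v hv = 1 :=
  Subtype.ext (Units.ext (reflectionMatrix_mul_self Q hv))

theorem det_reflectionMatrix {v : ι → F} (hv : Q v ≠ 0) : (reflectionMatrix ⇑Q v).det = -1 := by
  have h : reflectionMatrix ⇑Q v = 1 + Matrix.replicateCol Unit ((-(Q v)⁻¹) • v) *
      Matrix.replicateRow Unit (polarVec ⇑Q v) := by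
    ext i j
    simp [reflectionMatrix, Matrix.mul_apply, Matrix.vecMulVec_apply, Matrix.replicateCol, Matrix.replicateRow]
    ring
  rw [h, Matrix.det_one_add_replicateCol_mul_replicateRow, dotProduct_smul, polarVec_dotProduct,
    QuadraticMap.polar_self, smul_eq_mul, nsmul_eq_mul]
  field_simp
  push_cast
  ring

/-- Witt: two non-zero vectors of the same norm are conjugate. -/
theorem exists_act_eq {Q : QuadraticForm F (ι → F)} (hQ : (QuadraticMap.polarBilin Q).Nondegenerate)
    {x y : ι → F} (hx : x ≠ 0) (hy : y ≠ 0) (h : Q x = Q y) : ∃ g : ↥(isometryGroup F ⇑Q), act Q g x = y := by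
  obtain ⟨g, hg, hgx⟩ := Forms.witt_quadratic_tuple hQ (ι := Unit) (v := fun _ => x) (w := fun _ => y)
    (LinearIndependent.of_subsingleton () hx) (LinearIndependent.of_subsingleton () hy) (fun _ => h.symm)
    (fun _ _ => by rw [Forms.polarBilin_self, Forms.polarBilin_self, h])
  have happ : ∀ z, (((Forms.glEquiv ι F).symm g : Matrix.GeneralLinearGroup ι F) : Matrix ι ι F) *ᵥ z = g z :=
    fun z => by rw [← Forms.glEquiv_apply, MulEquiv.apply_symm_apply]
  refine ⟨⟨(Forms.glEquiv ι F).symm g, fun u _ => ?_⟩, (happ x).trans (hgx ())⟩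
  show Q ((((Forms.glEquiv ι F).symm g : Matrix.GeneralLinearGroup ι F) : Matrix ι ι F) *ᵥ u) = Q u
  rw [happ]
  exact hg u u

theorem mem_omega_iff_abelianization (g : ↥(isometryGroup F ⇑Q)) :
    g ∈ Omega F ⇑Q ↔ Abelianization.of g = 1 :=
  (QuotientGroup.eq_one_iff g).symm

/-- Reflections whose norms are in one square class agree modulo `Omega`. -/
theorem of_refl_eq {Q : QuadraticForm F (ι → F)} (hQ : (QuadraticMap.polarBilin Q).Nondegenerate)
    {u v : ι → F} (hu : Q u ≠ 0) (hv : Q v ≠ 0) (h : IsSquare (Q u * Q v)) :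
    Abelianization.of (refl Q u hu) = Abelianization.of (refl Q v hv) := by
  obtain ⟨r, hr⟩ := h
  set s := r / Q v with hs
  have hr0 : r ≠ 0 := by rintro rfl; simp [hu, hv] at hr
  have hsv : Q (s • v) = Q u := by
    rw [QuadraticMap.map_smul, smul_eq_mul, hs]
    field_simp
    linear_combination -hr
  have hu0 : u ≠ 0 := by rintro rfl; simp at hu
  have hv0 : v ≠ 0 := by rintro rfl; simp at hv
  obtain ⟨g, hg⟩ := exists_act_eq hQ hu0 (smul_ne_zero (div_ne_zero hr0 hv) hv0) hsv.symm
  rw [← refl_congr Q hv (by rwa [act_map] : Q (act Q g u) ≠ 0) hg, ← conj_refl Q g u hu, map_mul, map_mul,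
    map_inv, mul_inv_cancel_comm]

theorem omega_le_ker {A : Type*} [CommGroup A] (χ : ↥(isometryGroup F ⇑Q) →* A) {g : ↥(isometryGroup F ⇑Q)}
    (hg : g ∈ Omega F ⇑Q) : χ g = 1 :=
  Abelianization.commutator_subset_ker χ hg

/-- A product of reflections given by a list. -/
theorem exists_prod_refl (vs : List (ι → F)) (hvs : ∀ v ∈ vs, Q v ≠ 0) :
    ∃ g : ↥(isometryGroup F ⇑Q), ((g : Matrix.GeneralLinearGroup ι F) : Matrix ι ι F) =
      (vs.map fun v => reflectionMatrix ⇑Q v).prod := by
  induction vs with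
  | nil => exact ⟨1, rfl⟩
  | cons v vs ih =>
    obtain ⟨g, hg⟩ := ih fun w hw => hvs w (List.mem_cons_of_mem _ hw)
    refine ⟨refl Q v (hvs v List.mem_cons_self) * g, ?_⟩
    rw [List.map_cons, List.prod_cons, ← hg]
    rfl

section Odd

variable [Fintype F] [DecidableEq F]

/-- The action on the sphere `Q = 1`. -/
def spherePerm : ↥(isometryGroup F ⇑Q) →* Equiv.Perm {x : ι → F // Q x = 1} where
  toFun g :=
    { toFun := fun x => ⟨act Q g x, (act_map Q g x).trans x.2⟩
      invFun := fun x => ⟨act Q g⁻¹ x, (act_map Q g⁻¹ x).trans x.2⟩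
      left_inv := fun x => Subtype.ext (act_inv_act Q g x)
      right_inv := fun x => Subtype.ext (act_act_inv Q g x) }
  map_one' := Equiv.ext fun x => Subtype.ext (act_one Q x)
  map_mul' g h := Equiv.ext fun x => Subtype.ext (act_mul Q g h x)

theorem spherePerm_apply (g : ↥(isometryGroup F ⇑Q)) (x : {x : ι → F // Q x = 1}) :
    (spherePerm Q g x : ι → F) = act Q g x := rfl

/-- The sign of the action on the sphere. -/
def sphereSign : ↥(isometryGroup F ⇑Q) →* ℤˣ := Equiv.Perm.sign.comp (spherePerm Q)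

theorem sphereSign_refl (h2 : (2 : F) ≠ 0) (v : ι → F) (hv : Q v ≠ 0) :
    (sphereSign Q (refl Q v hv) : ℤ) = -quadraticChar F (Q v) := by
  classical
  set σ := spherePerm Q (refl Q v hv) with hσ
  let f : {x : ι → F // Q x = 1} → F := fun x => QuadraticMap.polar ⇑Q v x
  have hσ2 : σ ^ 2 = 1 := by rw [hσ, ← map_pow, pow_two, refl_mul_self, map_one]
  have hfσ : ∀ x, f (σ x) = -f x := fun x => polar_reflect_self Q hv x
  have hfix : ∀ x, σ x = x ↔ f x = 0 := by
    intro x
    constructor
    · intro h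
      have h' := hfσ x
      rw [h] at h'
      have : 2 * f x = 0 := by linear_combination h'
      exact (mul_eq_zero.1 this).resolve_left h2
    · intro h
      refine Subtype.ext ?_
      rw [hσ, spherePerm_apply, act_refl, show QuadraticMap.polar ⇑Q v x = 0 from h]
      simp
  have hneg : ∀ x : {x : ι → F // Q x = 1}, Q (-(x : ι → F)) = 1 := fun x => by rw [QuadraticMap.map_neg, x.2]
  let ν : {x : ι → F // Q x = 1} → {x : ι → F // Q x = 1} := fun x => ⟨-(x : ι → F), hneg x⟩
  have hfν : ∀ x, f (ν x) = -f x := fun x => QuadraticMap.polar_neg_right Q v x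
  have hνν : ∀ x, ν (ν x) = x := fun x => Subtype.ext (neg_neg _)
  have hσν : ∀ x, σ (ν x) = ν (σ x) := fun x => Subtype.ext (Matrix.mulVec_neg _ _)
  have hσσ : ∀ x, σ (σ x) = x := fun x => by
    rw [← Equiv.Perm.mul_apply, ← pow_two, hσ2]; rfl
  set M := Finset.univ.filter fun x : {x : ι → F // Q x = 1} => f x ≠ 0 with hM
  -- the axis
  set A := M.filter fun x => σ x = ν x with hA
  set B := M.filter fun x => ¬σ x = ν x with hB
  have hB4 : 4 ∣ B.card := by
    let key : F → ℕ := fun a => (Fintype.equivFin F a : ℕ)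
    have hkey : ∀ a : F, a ≠ 0 → key a ≠ key (-a) := fun a ha h => by
      have h' : a = -a := (Fintype.equivFin F).injective (Fin.ext h)
      exact ha ((mul_eq_zero.1 (show 2 * a = 0 by linear_combination h')).resolve_left h2)
    set P := B.filter fun x => key (f x) < key (-f x) with hP
    set N := B.filter fun x => ¬key (f x) < key (-f x) with hN
    have hPN : P.card = N.card := by
      refine Finset.card_bij' (fun x _ => ν x) (fun x _ => ν x) ?_ ?_ (fun x _ => hνν x) (fun x _ => hνν x)
      · intro x hx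
        simp only [hP, hN, hB, hM, Finset.mem_filter, Finset.mem_univ, true_and] at hx ⊢
        refine ⟨⟨by rw [hfν]; exact neg_ne_zero.2 hx.1.1, fun h => hx.1.2 ?_⟩, by rw [hfν, neg_neg]; omega⟩
        rw [hσν] at h
        rw [← hνν (σ x), h, hνν]
      · intro x hx
        simp only [hP, hN, hB, hM, Finset.mem_filter, Finset.mem_univ, true_and] at hx ⊢
        have := hkey _ hx.1.1
        refine ⟨⟨by rw [hfν]; exact neg_ne_zero.2 hx.1.1, fun h => hx.1.2 ?_⟩, by rw [hfν, neg_neg]; omega⟩
        rw [hσν] at h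
        rw [← hνν (σ x), h, hνν]
    have hPeven : 2 ∣ P.card := by
      rw [← ZMod.natCast_eq_zero_iff, Finset.card_eq_sum_ones, Nat.cast_sum, Nat.cast_one]
      refine Finset.sum_involution (fun x _ => ν (σ x)) (fun _ _ => by decide) ?_ ?_ ?_
      · intro x hx _ h
        simp only [hP, hB, Finset.mem_filter] at hx
        refine hx.1.2 ?_
        calc σ x = ν (ν (σ x)) := (hνν _).symm
          _ = ν x := by rw [h]
      · intro x hx
        simp only [hP, hB, hM, Finset.mem_filter, Finset.mem_univ, true_and] at hx ⊢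
        refine ⟨⟨by rw [hfν, hfσ, neg_neg]; exact hx.1.1, fun h => hx.1.2 ?_⟩, by rw [hfν, hfσ, neg_neg]; exact hx.2⟩
        rw [hσν, hσσ, hνν] at h
        exact h.symm
      · intro x _
        show ν (σ (ν (σ x))) = x
        rw [hσν, hσσ, hνν]
    have hsplit : B.card = P.card + N.card :=
      (Finset.card_filter_add_card_filter_not (s := B) _).symm
    omega
  have hline : ∀ x, σ x = ν x → ∃ t : F, (x : ι → F) = t • v := by
    intro x h
    have h' : (x : ι → F) - ((Q v)⁻¹ * f x) • v = -(x : ι → F) := (act_refl Q v hv x).symm.trans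
      (congrArg Subtype.val h)
    refine ⟨2⁻¹ * ((Q v)⁻¹ * f x), ?_⟩
    have h'' : (2 : F) • (x : ι → F) = ((Q v)⁻¹ * f x) • v := by
      rw [two_smul]; linear_combination (norm := module) h'
    rw [mul_smul, ← h'', smul_smul, inv_mul_cancel₀ h2, one_smul]
  have hcard : Fintype.card {x : ι → F // Q x = 1} - Fintype.card (Function.fixedPoints σ) = M.card := by
    rw [← Fintype.card_subtype_compl (fun x => x ∈ Function.fixedPoints σ), Fintype.card_subtype]
    congr 1
    ext x
    simp [hM, Function.IsFixedPt, hfix]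
  have hsign : sphereSign Q (refl Q v hv) = (-1 : ℤˣ) ^ (M.card / 2) := by
    rw [← hcard]
    exact Equiv.Perm.sign_of_pow_two_eq_one hσ2
  have hMAB : M.card = A.card + B.card := (Finset.card_filter_add_card_filter_not (s := M) _).symm
  by_cases hsq : IsSquare (Q v)
  · obtain ⟨r, hr⟩ := hsq
    have hr0 : r ≠ 0 := by rintro rfl; simp [hr] at hv
    have hAcard : A.card = 2 := by
      let a : {x : ι → F // Q x = 1} := ⟨r⁻¹ • v, by
        rw [QuadraticMap.map_smul, smul_eq_mul, hr]; field_simp⟩
      have hfa : f a ≠ 0 := by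
        show QuadraticMap.polar ⇑Q v (r⁻¹ • v) ≠ 0
        rw [QuadraticMap.polar_smul_right, QuadraticMap.polar_self, smul_eq_mul, nsmul_eq_mul]
        push_cast
        exact mul_ne_zero (inv_ne_zero hr0) (mul_ne_zero h2 hv)
      have hAeq : A = {a, ν a} := by
        ext x
        simp only [hA, hM, Finset.mem_filter, Finset.mem_univ, true_and, Finset.mem_insert, Finset.mem_singleton]
        constructor
        · rintro ⟨-, h⟩
          obtain ⟨t, ht⟩ := hline x h
          have hx := x.2
          rw [ht, QuadraticMap.map_smul, smul_eq_mul, hr] at hx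
          have htr : (t * r) * (t * r) = 1 := by linear_combination hx
          rcases mul_self_eq_one_iff.1 htr with h1 | h1
          · exact Or.inl (Subtype.ext (by rw [ht, eq_inv_of_mul_eq_one_left h1]))
          · refine Or.inr (Subtype.ext ?_)
            show (x : ι → F) = -(r⁻¹ • v)
            rw [ht, ← neg_smul, ← eq_inv_of_mul_eq_one_left (show -t * r = 1 by linear_combination -h1), neg_neg]
        · have hσa : σ a = ν a := Subtype.ext (by
            rw [hσ, spherePerm_apply, act_refl]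
            show r⁻¹ • v - ((Q v)⁻¹ * QuadraticMap.polar ⇑Q v (r⁻¹ • v)) • v = -(r⁻¹ • v)
            rw [QuadraticMap.polar_smul_right, QuadraticMap.polar_self, smul_eq_mul, nsmul_eq_mul]
            match_scalars
            field_simp
            push_cast
            ring)
          rintro (rfl | rfl)
          · exact ⟨hfa, hσa⟩
          · exact ⟨by rw [hfν]; exact neg_ne_zero.2 hfa, by rw [hσν, hσa]⟩
      rw [hAeq, Finset.card_pair]
      intro h
      exact hfa ((mul_eq_zero.1 (show 2 * f a = 0 by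
        have h' := hfν a
        rw [← h] at h'
        linear_combination h')).resolve_left h2)
    rw [hsign, (quadraticChar_one_iff_isSquare hv).2 ⟨r, hr⟩, hMAB, hAcard]
    obtain ⟨k, hk⟩ := hB4
    rw [hk, show (2 + 4 * k) / 2 = 2 * k + 1 by omega]
    simp [pow_succ, pow_mul]
  · have hA0 : A = ∅ := Finset.eq_empty_of_forall_notMem fun x hx => hsq (by
      simp only [hA, Finset.mem_filter] at hx
      obtain ⟨t, ht⟩ := hline x hx.2
      have hx1 := x.2
      rw [ht, QuadraticMap.map_smul, smul_eq_mul] at hx1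
      have ht0 : t ≠ 0 := by rintro rfl; simp at hx1
      exact ⟨t⁻¹, by field_simp; linear_combination hx1⟩)
    rw [hsign, quadraticChar_neg_one_iff_not_isSquare.2 hsq, hMAB, hA0]
    obtain ⟨k, hk⟩ := hB4
    rw [hk, Finset.card_empty, zero_add, show 4 * k / 2 = 2 * k by omega]
    simp [pow_mul]

/-- The spinor norm criterion. -/
theorem mem_omega_iff_of_prod {Q : QuadraticForm F (ι → F)} (hQ : (QuadraticMap.polarBilin Q).Nondegenerate)
    (h2 : (2 : F) ≠ 0) (g : ↥(isometryGroup F ⇑Q)) (vs : List (ι → F)) (hvs : ∀ v ∈ vs, Q v ≠ 0)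
    (hg : ((g : Matrix.GeneralLinearGroup ι F) : Matrix ι ι F) = (vs.map fun v => reflectionMatrix ⇑Q v).prod) :
    g ∈ Omega F ⇑Q ↔ Even vs.length ∧ IsSquare (vs.map fun v => Q v).prod := by
  classical
  have hchar : ringChar F ≠ 2 := fun h => h2 (by
    have : CharP F 2 := ringChar.of_eq h
    exact CharTwo.two_eq_zero)
  let Φ : Bool → Abelianization ↥(isometryGroup F ⇑Q) := fun b =>
    if h : ∃ v, Q v ≠ 0 ∧ decide (IsSquare (Q v)) = b then
      Abelianization.of (refl Q h.choose h.choose_spec.1) else 1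
  have hΦ : ∀ v (hv : Q v ≠ 0), Abelianization.of (refl Q v hv) = Φ (decide (IsSquare (Q v))) := by
    intro v hv
    have hex : ∃ w, Q w ≠ 0 ∧ decide (IsSquare (Q w)) = decide (IsSquare (Q v)) := ⟨v, hv, rfl⟩
    simp only [Φ, dif_pos hex]
    obtain ⟨hw, hwv⟩ := hex.choose_spec
    refine of_refl_eq hQ hv hw ?_
    have hiff : IsSquare (Q hex.choose) ↔ IsSquare (Q v) := decide_eq_decide.1 hwv
    rw [← quadraticChar_one_iff_isSquare (mul_ne_zero hv hw), map_mul]
    by_cases hs : IsSquare (Q v)
    · rw [(quadraticChar_one_iff_isSquare hv).2 hs, (quadraticChar_one_iff_isSquare hw).2 (hiff.2 hs)]; rfl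
    · rw [quadraticChar_neg_one_iff_not_isSquare.2 hs,
        quadraticChar_neg_one_iff_not_isSquare.2 (fun h => hs (hiff.1 h))]; rfl
  have hΦ2 : ∀ b, Φ b * Φ b = 1 := by
    intro b
    simp only [Φ]
    split
    · rw [← map_mul, refl_mul_self, map_one]
    · rw [one_mul]
  have key : ∀ (vs : List (ι → F)), (∀ v ∈ vs, Q v ≠ 0) → ∀ g : ↥(isometryGroup F ⇑Q),
      ((g : Matrix.GeneralLinearGroup ι F) : Matrix ι ι F) = (vs.map fun v => reflectionMatrix ⇑Q v).prod →
      ∃ a b : ℕ, vs.length = a + b ∧ quadraticChar F (vs.map fun v => Q v).prod = (-1) ^ b ∧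
        Abelianization.of g = Φ true ^ a * Φ false ^ b ∧
        ((g : Matrix.GeneralLinearGroup ι F) : Matrix ι ι F).det = (-1) ^ (a + b) ∧
        (sphereSign Q g : ℤ) = (-1) ^ a := by
    intro vs
    induction vs with
    | nil =>
      intro _ g hg
      obtain rfl : g = 1 := Subtype.ext (Units.ext hg)
      exact ⟨0, 0, rfl, by simp, by simp, by simp, by simp⟩
    | cons v vs ih =>
      intro hvs g hg
      have hv := hvs v List.mem_cons_self
      obtain ⟨g', hg'⟩ := exists_prod_refl Q vs fun w hw => hvs w (List.mem_cons_of_mem _ hw)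
      obtain rfl : g = refl Q v hv * g' := Subtype.ext (Units.ext (by
        rw [hg, List.map_cons, List.prod_cons, ← hg']; rfl))
      obtain ⟨a, b, hab, hc, hof, hdet, hs⟩ := ih (fun w hw => hvs w (List.mem_cons_of_mem _ hw)) g' hg'
      have hdet' : ((refl Q v hv * g' : ↥(isometryGroup F ⇑Q)) : Matrix.GeneralLinearGroup ι F).val.det =
          -1 * (-1) ^ (a + b) := by
        rw [Subgroup.coe_mul, Units.val_mul, Matrix.det_mul, hdet, ← det_reflectionMatrix Q hv]; rfl
      by_cases hsq : IsSquare (Q v)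
      · refine ⟨a + 1, b, by simp [hab]; omega, ?_, ?_, ?_, ?_⟩
        · rw [List.map_cons, List.prod_cons, map_mul, hc, (quadraticChar_one_iff_isSquare hv).2 hsq, one_mul]
        · rw [map_mul, hof, hΦ v hv, decide_eq_true hsq, pow_succ', mul_assoc]
        · rw [hdet']; ring
        · rw [map_mul, Units.val_mul, hs, sphereSign_refl Q h2 v hv,
            (quadraticChar_one_iff_isSquare hv).2 hsq, pow_succ']
      · refine ⟨a, b + 1, by simp [hab]; omega, ?_, ?_, ?_, ?_⟩
        · rw [List.map_cons, List.prod_cons, map_mul, hc, quadraticChar_neg_one_iff_not_isSquare.2 hsq, pow_succ']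
        · rw [map_mul, hof, hΦ v hv, decide_eq_false hsq, pow_succ', mul_left_comm]
        · rw [hdet']; ring
        · rw [map_mul, Units.val_mul, hs, sphereSign_refl Q h2 v hv,
            quadraticChar_neg_one_iff_not_isSquare.2 hsq, neg_neg, one_mul]
  obtain ⟨a, b, hab, hc, hof, hdet, hs⟩ := key vs hvs g hg
  have hP : (vs.map fun v => Q v).prod ≠ 0 := by
    refine List.prod_ne_zero fun h => ?_
    simp only [List.mem_map] at h
    obtain ⟨v, hv, h0⟩ := h
    exact hvs v hv h0
  rw [← quadraticChar_one_iff_isSquare hP, hc, hab, neg_one_pow_eq_one_iff_even (by decide)]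
  constructor
  · intro hmem
    have h1 : sphereSign Q g = 1 := omega_le_ker Q _ hmem
    rw [h1, Units.val_one] at hs
    have ha : Even a := (neg_one_pow_eq_one_iff_even (by decide)).1 hs.symm
    have h3 := omega_le_ker Q (Matrix.GeneralLinearGroup.det.comp (isometryGroup F ⇑Q).subtype) hmem
    have hd1 : ((g : Matrix.GeneralLinearGroup ι F) : Matrix ι ι F).det = 1 := congrArg Units.val h3
    rw [hd1] at hdet
    have hsum : Even (a + b) := (neg_one_pow_eq_one_iff_even (Ring.neg_one_ne_one_of_char_ne_two hchar)).1 hdet.symm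
    exact ⟨hsum, (Nat.even_add.1 hsum).1 ha⟩
  · rintro ⟨hsum, hb⟩
    have ha : Even a := (Nat.even_add.1 hsum).2 hb
    obtain ⟨a', rfl⟩ := ha
    obtain ⟨b', rfl⟩ := hb
    rw [mem_omega_iff_abelianization, hof, ← two_mul, ← two_mul, pow_mul, pow_mul, sq, sq, hΦ2, hΦ2,
      one_pow, one_pow, one_mul]

end Odd

end Cfsg.Agent.QForm
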