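/-
Characteristic two: the number of reflections in a product representing a given isometry is well defined mod 2
(the Dickson invariant), without assuming generation by reflections.
-/
import Mathlib
import Cfsg.Agent.Lib.QForm.Spinor
import Cfsg.Agent.Lib.QForm.Gram

set_option autoImplicit false

namespace Cfsg.Agent.QForm

open scoped Matrix

variable {F : Type*} [Field F] {ι : Type} [Fintype ι] [DecidableEq ι]

/-- Twisted trace of a function of two variables against `M`. -/
def tau [LinearOrder ι] (M : Matrix ι ι F) (K : (ι → F) → (ι → F) → F) : F :=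
  ∑ i, ∑ j, if i < j then M i j * K (Pi.single i 1) (Pi.single j 1) else 0

theorem tau_add [LinearOrder ι] (M : Matrix ι ι F) (K L : (ι → F) → (ι → F) → F) :
    tau M (fun x y => K x y + L x y) = tau M K + tau M L := by
  simp only [tau, ← Finset.sum_add_distrib, mul_add]
  exact Finset.sum_congr rfl fun i _ => Finset.sum_congr rfl fun j _ => by split <;> simp

theorem sum_lt_symm [LinearOrder ι] (g : ι → ι → F) :
    ∑ i, ∑ j, (if i < j then g i j + g j i else 0) = ∑ i, ∑ j, if i = j then 0 else g i j := by
  have h : ∀ i j, (if i < j then g i j + g j i else 0) =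
      (if i < j then g i j else 0) + (if i < j then g j i else 0) := fun i j => by split <;> simp
  simp only [h, Finset.sum_add_distrib]
  conv_lhs => arg 2; rw [Finset.sum_comm]
  simp only [← Finset.sum_add_distrib]
  refine Finset.sum_congr rfl fun i _ => Finset.sum_congr rfl fun j _ => ?_
  rcases lt_trichotomy i j with h | h | h
  · simp [h, h.not_gt, h.ne]
  · simp [h]
  · simp [h, h.not_gt, h.ne']

/-- The properties of the inverse Gram matrix used below. -/
theorem exists_dual [CharP F 2] {Q : QuadraticForm F (ι → F)} (hQ : (QuadraticMap.polarBilin Q).Nondegenerate) :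
    ∃ M : Matrix ι ι F, (∀ i j, M i j = M j i) ∧ (∀ i, M i i = 0) ∧
      ∀ v j, ∑ i, M i j * QuadraticMap.polar ⇑Q v (Pi.single i 1) = v j := by
  classical
  let e : ι → ι → F := fun i => Pi.single i 1
  set G := gram ⇑Q ⇑(Pi.basisFun F ι) with hG
  have hGu : IsUnit G.det := isUnit_iff_ne_zero.2 (det_gram_ne_zero hQ _)
  have hGe : ∀ i j, G i j = QuadraticMap.polar ⇑Q (e i) (e j) := fun i j => by
    rw [hG, gram, Matrix.of_apply, Pi.basisFun_apply, Pi.basisFun_apply]
  have hGmul : ∀ x i, (G *ᵥ x) i = QuadraticMap.polar ⇑Q (e i) x := by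
    intro x i
    conv_rhs => rw [← QuadraticMap.polarBilin_apply_apply, pi_eq_sum_univ' x, map_sum]
    simp only [Matrix.mulVec, dotProduct, hGe, map_smul, QuadraticMap.polarBilin_apply_apply, smul_eq_mul]
    exact Finset.sum_congr rfl fun j _ => mul_comm _ _
  have hGsymm : Gᵀ = G := by
    ext i j; rw [Matrix.transpose_apply, hGe, hGe, QuadraticMap.polar_comm]
  set M := G⁻¹ with hM
  have hMsymm : ∀ i j, M i j = M j i := fun i j => by
    rw [hM, ← Matrix.transpose_apply G⁻¹ i j |>.trans rfl]
    rw [Matrix.transpose_nonsing_inv, hGsymm]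
  have hMdiag : ∀ i, M i i = 0 := by
    intro i
    let x : ι → F := M *ᵥ e i
    have h1 : G *ᵥ x = e i := by rw [Matrix.mulVec_mulVec, hM, Matrix.mul_nonsing_inv _ hGu, Matrix.one_mulVec]
    have h2 : x ⬝ᵥ (G *ᵥ x) = 0 := by
      have : x ⬝ᵥ (G *ᵥ x) = QuadraticMap.polar ⇑Q x x := by
        conv_rhs => rw [QuadraticMap.polar_comm, ← QuadraticMap.polarBilin_apply_apply, pi_eq_sum_univ' x, map_sum]
        simp only [dotProduct, hGmul, map_smul, smul_eq_mul, QuadraticMap.polarBilin_apply_apply,
          ← pi_eq_sum_univ']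
        exact Finset.sum_congr rfl fun j _ => by rw [QuadraticMap.polar_comm]
      rw [this, QuadraticMap.polar_self, nsmul_eq_mul, Nat.cast_ofNat, CharTwo.two_eq_zero, zero_mul]
    rw [h1] at h2
    simpa [x, e] using h2
  refine ⟨M, hMsymm, hMdiag, fun v j => ?_⟩
  have h1 : M *ᵥ (G *ᵥ v) = v := by
    rw [Matrix.mulVec_mulVec, hM, Matrix.nonsing_inv_mul _ hGu, Matrix.one_mulVec]
  conv_rhs => rw [← h1]
  refine Finset.sum_congr rfl fun i _ => ?_
  rw [hMsymm, hGmul, QuadraticMap.polar_comm]

variable (Q : QuadraticForm F (ι → F)) (M : Matrix ι ι F)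

theorem tau_wedge [LinearOrder ι] (hsymm : ∀ i j, M i j = M j i) (hdiag : ∀ i, M i i = 0)
    (hdual : ∀ v j, ∑ i, M i j * QuadraticMap.polar ⇑Q v (Pi.single i 1) = v j)
    (v : ι → F) (c : F) (β : (ι → F) →ₗ[F] F) :
    tau M (fun x y => c * (QuadraticMap.polar ⇑Q v x * β y + β x * QuadraticMap.polar ⇑Q v y)) = c * β v := by
  have h := sum_lt_symm fun i j => c * (M i j * (QuadraticMap.polar ⇑Q v (Pi.single i 1) * β (Pi.single j 1)))
  have h' : tau M (fun x y => c * (QuadraticMap.polar ⇑Q v x * β y + β x * QuadraticMap.polar ⇑Q v y)) =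
      ∑ i, ∑ j, if i = j then 0 else
        c * (M i j * (QuadraticMap.polar ⇑Q v (Pi.single i 1) * β (Pi.single j 1))) := by
    rw [← h, tau]
    refine Finset.sum_congr rfl fun i _ => Finset.sum_congr rfl fun j _ => ?_
    split
    · rw [hsymm j i]; ring
    · rfl
  rw [h', Finset.sum_comm]
  have h'' : ∀ j, (∑ i, if i = j then 0 else
      c * (M i j * (QuadraticMap.polar ⇑Q v (Pi.single i 1) * β (Pi.single j 1)))) =
      c * (v j * β (Pi.single j 1)) := by
    intro j
    rw [← hdual v j, Finset.sum_mul, Finset.mul_sum]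
    refine Finset.sum_congr rfl fun i _ => ?_
    split
    · next h => subst h; rw [hdiag]; simp
    · ring
  simp only [h'']
  conv_rhs => rw [pi_eq_sum_univ' v, map_sum]
  simp only [map_smul, smul_eq_mul, Finset.mul_sum]

/-- `τ` of an alternating form is invariant under products of reflections. -/
theorem tau_comp [LinearOrder ι] [CharP F 2] (hsymm : ∀ i j, M i j = M j i) (hdiag : ∀ i, M i i = 0)
    (hdual : ∀ v j, ∑ i, M i j * QuadraticMap.polar ⇑Q v (Pi.single i 1) = v j) (l : List (ι → F))
    (K : LinearMap.BilinForm F (ι → F)) (hK : ∀ x, K x x = 0) :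
    tau M (fun x y => K ((l.map fun v => reflectionMatrix ⇑Q v).prod *ᵥ x)
      ((l.map fun v => reflectionMatrix ⇑Q v).prod *ᵥ y)) = tau M (fun x y => K x y) := by
  induction l generalizing K with
  | nil => simp
  | cons v l ih =>
    set R := Matrix.toLin' (reflectionMatrix ⇑Q v)
    have h1 : (fun x y => K (((v :: l).map fun v => reflectionMatrix ⇑Q v).prod *ᵥ x)
        (((v :: l).map fun v => reflectionMatrix ⇑Q v).prod *ᵥ y)) =
        fun x y => K.comp R R ((l.map fun v => reflectionMatrix ⇑Q v).prod *ᵥ x)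
          ((l.map fun v => reflectionMatrix ⇑Q v).prod *ᵥ y) := by
      funext x y
      simp only [R, LinearMap.BilinForm.comp_apply, Matrix.toLin'_apply, List.map_cons, List.prod_cons,
        ← Matrix.mulVec_mulVec]
    rw [h1, ih (K.comp R R) (fun x => hK _)]
    have hsk : ∀ x, K x v = K v x := fun x => by
      have h' := hK (x + v)
      simp only [map_add, LinearMap.add_apply, hK x, hK v, zero_add, add_zero] at h'
      rw [eq_neg_of_add_eq_zero_right h', CharTwo.neg_eq]
    have h2 : (fun x y => K.comp R R x y) = fun x y => K x y + (Q v)⁻¹ *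
        (QuadraticMap.polar ⇑Q v x * K v y + K v x * QuadraticMap.polar ⇑Q v y) := by
      funext x y
      simp only [R, LinearMap.BilinForm.comp_apply, Matrix.toLin'_apply, reflectionMatrix_mulVec, map_sub,
        map_smul, LinearMap.sub_apply, LinearMap.smul_apply, smul_eq_mul, hK v, hsk, mul_zero, sub_zero,
        CharTwo.sub_eq_add]
      ring
    rw [h2, tau_add, tau_wedge Q M hsymm hdiag hdual, hK v, mul_zero, add_zero]

/-- The cocycle of a product of reflections is its length. -/
theorem tau_cocycle [LinearOrder ι] [CharP F 2] (hsymm : ∀ i j, M i j = M j i) (hdiag : ∀ i, M i i = 0)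
    (hdual : ∀ v j, ∑ i, M i j * QuadraticMap.polar ⇑Q v (Pi.single i 1) = v j)
    (T : LinearMap.BilinForm F (ι → F)) (hTQ : ∀ x, T x x = Q x)
    (l : List (ι → F)) (hl : ∀ v ∈ l, Q v ≠ 0) :
    tau M (fun x y => T ((l.map fun v => reflectionMatrix ⇑Q v).prod *ᵥ x)
      ((l.map fun v => reflectionMatrix ⇑Q v).prod *ᵥ y) + T x y) = (l.length : F) := by
  have hTT : ∀ x y, T x y + T y x = QuadraticMap.polar ⇑Q x y := fun x y => by
    simp only [QuadraticMap.polar, ← hTQ, map_add, LinearMap.add_apply]
    ring
  induction l with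
  | nil => simp only [tau, List.map_nil, List.prod_nil, Matrix.one_mulVec, CharTwo.add_self_eq_zero, mul_zero,
      ite_self, Finset.sum_const_zero, List.length_nil, Nat.cast_zero]
  | cons v l ih =>
    have hv := hl v List.mem_cons_self
    set R := Matrix.toLin' (reflectionMatrix ⇑Q v)
    set S := T.comp R R + T with hS
    set P := (l.map fun v => reflectionMatrix ⇑Q v).prod with hP
    have h1 : (fun x y => T (((v :: l).map fun v => reflectionMatrix ⇑Q v).prod *ᵥ x)
        (((v :: l).map fun v => reflectionMatrix ⇑Q v).prod *ᵥ y) + T x y) =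
        fun x y => S (P *ᵥ x) (P *ᵥ y) + (T (P *ᵥ x) (P *ᵥ y) + T x y) := by
      funext x y
      simp only [hS, hP, R, LinearMap.add_apply, LinearMap.BilinForm.comp_apply, Matrix.toLin'_apply,
        List.map_cons, List.prod_cons, ← Matrix.mulVec_mulVec]
      linear_combination (-(T (P *ᵥ x) (P *ᵥ y))) * (CharTwo.two_eq_zero (R := F))
    have hSxx : ∀ x, S x x = 0 := fun x => by
      simp only [hS, R, LinearMap.add_apply, LinearMap.BilinForm.comp_apply, Matrix.toLin'_apply, hTQ,
        apply_reflect Q hv, CharTwo.add_self_eq_zero]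
    have h2 : (fun x y => S x y) = fun x y => (Q v)⁻¹ *
        (QuadraticMap.polar ⇑Q v x * T v y + T v x * QuadraticMap.polar ⇑Q v y) := by
      funext x y
      have hxv : T x v = QuadraticMap.polar ⇑Q v x + T v x := by
        rw [QuadraticMap.polar_comm, ← hTT, add_assoc, CharTwo.add_self_eq_zero, add_zero]
      simp only [hS, R, LinearMap.add_apply, LinearMap.BilinForm.comp_apply, Matrix.toLin'_apply,
        reflectionMatrix_mulVec, map_sub, map_smul, LinearMap.sub_apply, LinearMap.smul_apply, smul_eq_mul,
        hTQ v, hxv, CharTwo.sub_eq_add]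
      field_simp
      linear_combination (Q v * T x y + QuadraticMap.polar ⇑Q v x * QuadraticMap.polar ⇑Q v y) *
        (CharTwo.two_eq_zero (R := F))
    rw [h1, tau_add, tau_comp Q M hsymm hdiag hdual l S hSxx,
      ih (fun w hw => hl w (List.mem_cons_of_mem _ hw)), h2, tau_wedge Q M hsymm hdiag hdual, hTQ,
      inv_mul_cancel₀ hv, List.length_cons, Nat.cast_succ, add_comm]

variable {Q}

/-- A product of reflections equal to `1` has even length. -/
theorem even_length_of_prod_eq_one [CharP F 2] (hQ : (QuadraticMap.polarBilin Q).Nondegenerate)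
    (vs : List (ι → F)) (hvs : ∀ v ∈ vs, Q v ≠ 0)
    (h : (vs.map fun v => reflectionMatrix ⇑Q v).prod = 1) : Even vs.length := by
  classical
  let : LinearOrder ι := LinearOrder.lift' (Fintype.equivFin ι) (Fintype.equivFin ι).injective
  obtain ⟨M, h1, h2, h3⟩ := exists_dual hQ
  have hfin := tau_cocycle Q M h1 h2 h3 (Q.toBilin (Pi.basisFun F ι))
    (fun x => by rw [← LinearMap.BilinMap.toQuadraticMap_apply, QuadraticMap.toQuadraticMap_toBilin]) vs hvs
  simp only [h, Matrix.one_mulVec, CharTwo.add_self_eq_zero, tau, mul_zero, ite_self, Finset.sum_const_zero] at hfin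
  exact even_iff_two_dvd.2 ((CharP.cast_eq_zero_iff F 2 _).1 hfin.symm)

/-- Two products of reflections representing the same isometry have lengths of the same parity. -/
theorem length_parity_eq [CharP F 2] {Q : QuadraticForm F (ι → F)}
    (hQ : (QuadraticMap.polarBilin Q).Nondegenerate) {vs ws : List (ι → F)} (hvs : ∀ v ∈ vs, Q v ≠ 0)
    (hws : ∀ v ∈ ws, Q v ≠ 0)
    (h : (vs.map fun v => reflectionMatrix ⇑Q v).prod = (ws.map fun v => reflectionMatrix ⇑Q v).prod) :
    Even vs.length ↔ Even ws.length := by
  have hinv : ∀ l : List (ι → F), (∀ v ∈ l, Q v ≠ 0) →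
      (l.map fun v => reflectionMatrix ⇑Q v).prod * (l.reverse.map fun v => reflectionMatrix ⇑Q v).prod = 1 := by
    intro l
    induction l with
    | nil => simp
    | cons v l ih =>
      intro hl
      rw [List.map_cons, List.prod_cons, List.reverse_cons, List.map_append, List.prod_append, List.map_cons,
        List.map_nil, List.prod_singleton, ← mul_assoc, mul_assoc (reflectionMatrix ⇑Q v),
        ih (fun w hw => hl w (List.mem_cons_of_mem _ hw)), mul_one,
        reflectionMatrix_mul_self Q (hl v List.mem_cons_self)]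
  have := even_length_of_prod_eq_one hQ (vs ++ ws.reverse) (fun v hv => by
    rcases List.mem_append.1 hv with hv | hv
    · exact hvs v hv
    · exact hws v (List.mem_reverse.1 hv)) (by rw [List.map_append, List.prod_append, h, hinv ws hws])
  rw [List.length_append, List.length_reverse, Nat.even_add] at this
  exact this

end Cfsg.Agent.QForm
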