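/-
`Omega` inside the orthogonal group over a finite field: every isometry is a product of reflections, and membership
in `Omega` is read off such a product (length and, for odd `q`, spinor norm).
-/
import Mathlib
import Cfsg.Agent.Lib.QForm.Spinor
import Cfsg.Agent.Lib.QForm.Dickson
import Cfsg.Agent.Lib.QForm.Diag
import Cfsg.Agent.Lib.ClassicalSimple.OrthRefl

set_option autoImplicit false

namespace Cfsg.Agent.QForm

open scoped Matrix

variable {F : Type*} [Field F] [Fintype F] {ι : Type} [Fintype ι] [DecidableEq ι] {Q : QuadraticForm F (ι → F)}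

/-- Every isometry is a product of reflections. -/
theorem exists_list (hQ : (QuadraticMap.polarBilin Q).Nondegenerate)
    (h : Fintype.card F ≠ 2 ∨ Fintype.card ι ≠ 4) (g : ↥(isometryGroup F ⇑Q)) :
    ∃ vs : List (ι → F), (∀ v ∈ vs, Q v ≠ 0) ∧
      ((g : Matrix.GeneralLinearGroup ι F) : Matrix ι ι F) = (vs.map fun v => reflectionMatrix ⇑Q v).prod := by
  classical
  have h' : (∃ t : F, t ≠ 0 ∧ t ≠ 1) ∨ Fintype.card ι ≠ 4 := h.imp_left fun hF => by
    by_contra! hno
    have hle : (Finset.univ : Finset F) ⊆ {0, 1} := fun t _ => by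
      by_cases ht : t = 0
      · simp [ht]
      · simp [hno t ht]
    have h2 := Finset.card_le_card hle
    rw [Finset.card_univ, Finset.card_pair (zero_ne_one' F)] at h2
    have := Fintype.one_lt_card (α := F)
    omega
  have hmem : g ∈ Subgroup.closure (ClassicalSimple.reflectionSet Q) := by
    rw [ClassicalSimple.closure_reflectionSet_eq_top Q (ClassicalSimple.bil_nondegenerate Q hQ) h']
    exact Subgroup.mem_top g
  have hinv : ∀ x ∈ ClassicalSimple.reflectionSet Q, x⁻¹ = x := by
    rintro x ⟨v, hv, hx⟩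
    refine inv_eq_of_mul_eq_one_right (Subtype.ext (Units.ext ?_))
    show ((x : Matrix.GeneralLinearGroup ι F) : Matrix ι ι F) * _ = 1
    rw [hx, reflectionMatrix_mul_self Q hv]
  induction hmem using Subgroup.closure_induction_left with
  | one => exact ⟨[], by simp, rfl⟩
  | mul_left x hx y _ ih =>
    obtain ⟨v, hv, hxv⟩ := hx
    obtain ⟨vs, hvs, hy⟩ := ih
    exact ⟨v :: vs, List.forall_mem_cons.2 ⟨hv, hvs⟩, by
      rw [List.map_cons, List.prod_cons, ← hy, ← hxv]; rfl⟩
  | inv_mul_cancel x hx y _ ih =>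
    rw [hinv x hx]
    obtain ⟨v, hv, hxv⟩ := hx
    obtain ⟨vs, hvs, hy⟩ := ih
    exact ⟨v :: vs, List.forall_mem_cons.2 ⟨hv, hvs⟩, by
      rw [List.map_cons, List.prod_cons, ← hy, ← hxv]; rfl⟩

/-- The orthogonal group modulo `Omega` has exponent two. -/
theorem of_mul_self (hQ : (QuadraticMap.polarBilin Q).Nondegenerate)
    (h : Fintype.card F ≠ 2 ∨ Fintype.card ι ≠ 4) (g : ↥(isometryGroup F ⇑Q)) :
    Abelianization.of g * Abelianization.of g = 1 := by
  obtain ⟨vs, hvs, hg⟩ := exists_list hQ h g
  induction vs generalizing g with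
  | nil =>
    obtain rfl : g = 1 := Subtype.ext (Units.ext hg)
    rw [map_one, one_mul]
  | cons v vs ih =>
    obtain ⟨g', hg'⟩ := exists_prod_refl Q vs fun w hw => hvs w (List.mem_cons_of_mem _ hw)
    obtain rfl : g = refl Q v (hvs v List.mem_cons_self) * g' := Subtype.ext (Units.ext (by
      rw [hg, List.map_cons, List.prod_cons, ← hg']; rfl))
    rw [map_mul, mul_mul_mul_comm, ← map_mul, refl_mul_self, map_one, one_mul]
    exact ih g' (fun w hw => hvs w (List.mem_cons_of_mem _ hw)) hg'

/-- Characteristic two: an even product of reflections is in `Omega`. -/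
theorem mem_omega_of_even [CharP F 2] (hQ : (QuadraticMap.polarBilin Q).Nondegenerate)
    (g : ↥(isometryGroup F ⇑Q)) (vs : List (ι → F)) (hvs : ∀ v ∈ vs, Q v ≠ 0)
    (hg : ((g : Matrix.GeneralLinearGroup ι F) : Matrix ι ι F) = (vs.map fun v => reflectionMatrix ⇑Q v).prod)
    (he : Even vs.length) : g ∈ Omega F ⇑Q := by
  obtain ⟨k, hk⟩ := he
  induction k generalizing g vs with
  | zero =>
    obtain rfl : vs = [] := List.eq_nil_of_length_eq_zero (by simpa using hk)
    obtain rfl : g = 1 := Subtype.ext (Units.ext hg)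
    exact one_mem _
  | succ k ih =>
    match vs, hk with
    | [], hk => simp at hk
    | [v], hk => simp at hk; omega
    | u :: v :: vs, hk =>
      have hu := hvs u List.mem_cons_self
      have hv := hvs v (List.mem_cons_of_mem _ List.mem_cons_self)
      have hvs' : ∀ w ∈ vs, Q w ≠ 0 := fun w hw => hvs w (List.mem_cons_of_mem _ (List.mem_cons_of_mem _ hw))
      obtain ⟨g', hg'⟩ := exists_prod_refl Q vs hvs'
      obtain rfl : g = refl Q u hu * refl Q v hv * g' := Subtype.ext (Units.ext (by
        rw [hg, List.map_cons, List.prod_cons, List.map_cons, List.prod_cons, ← hg', ← mul_assoc]; rfl))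
      refine mul_mem ?_ (ih g' vs hvs' hg' (by simp at hk; omega))
      have hsq : IsSquare (Q u * Q v) := FiniteField.isSquare_of_char_two (CharP.eq F (ringChar.charP F) inferInstance) _
      rw [mem_omega_iff_abelianization, map_mul, of_refl_eq hQ hu hv hsq, ← map_mul, refl_mul_self, map_one]

/-- Characteristic two: `Omega` consists of the even products of reflections. -/
theorem mem_omega_iff_even [CharP F 2] (hQ : (QuadraticMap.polarBilin Q).Nondegenerate)
    (h : Fintype.card F ≠ 2 ∨ Fintype.card ι ≠ 4)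
    (g : ↥(isometryGroup F ⇑Q)) (vs : List (ι → F)) (hvs : ∀ v ∈ vs, Q v ≠ 0)
    (hg : ((g : Matrix.GeneralLinearGroup ι F) : Matrix ι ι F) = (vs.map fun v => reflectionMatrix ⇑Q v).prod) :
    g ∈ Omega F ⇑Q ↔ Even vs.length := by
  refine ⟨fun hmem => ?_, mem_omega_of_even hQ g vs hvs hg⟩
  -- the parity homomorphism
  choose L hL hLg using exists_list hQ h
  let D : ↥(isometryGroup F ⇑Q) →* Multiplicative (ZMod 2) :=
    { toFun := fun x => Multiplicative.ofAdd ((L x).length : ZMod 2)
      map_one' := by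
        have h1 : Even (L 1).length := even_length_of_prod_eq_one hQ _ (hL 1) (hLg 1).symm
        rw [(ZMod.natCast_eq_zero_iff _ 2).2 h1.two_dvd, ofAdd_zero]
      map_mul' := fun x y => by
        have h1 := length_parity_eq hQ (hL (x * y)) (List.forall_mem_append.2 ⟨hL x, hL y⟩) (by
          rw [List.map_append, List.prod_append, ← hLg, ← hLg, ← hLg]; rfl)
        rw [List.length_append] at h1
        rw [← ofAdd_add, ← Nat.cast_add]
        congr 1
        rw [ZMod.natCast_eq_natCast_iff']
        rw [Nat.even_iff, Nat.even_iff] at h1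
        omega }
  have hD : D g = 1 := omega_le_ker Q D hmem
  have h1 : Even (L g).length := by
    rw [even_iff_two_dvd, ← ZMod.natCast_eq_zero_iff _ 2]
    exact Multiplicative.ofAdd.injective hD
  exact (length_parity_eq hQ (hL g) hvs ((hLg g).symm.trans hg)).1 h1

/-- The values of the two characters on a product of reflections. -/
theorem invariants_of_prod [DecidableEq F] (h2 : (2 : F) ≠ 0) (vs : List (ι → F)) (hvs : ∀ v ∈ vs, Q v ≠ 0)
    (g : ↥(isometryGroup F ⇑Q))
    (hg : ((g : Matrix.GeneralLinearGroup ι F) : Matrix ι ι F) = (vs.map fun v => reflectionMatrix ⇑Q v).prod) :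
    (sphereSign Q g : ℤ) = (-1) ^ vs.length * quadraticChar F (vs.map fun v => Q v).prod ∧
      ((g : Matrix.GeneralLinearGroup ι F) : Matrix ι ι F).det = (-1) ^ vs.length := by
  induction vs generalizing g with
  | nil =>
    obtain rfl : g = 1 := Subtype.ext (Units.ext hg)
    simp
  | cons v vs ih =>
    have hv := hvs v List.mem_cons_self
    obtain ⟨g', hg'⟩ := exists_prod_refl Q vs fun w hw => hvs w (List.mem_cons_of_mem _ hw)
    obtain rfl : g = refl Q v hv * g' := Subtype.ext (Units.ext (by
      rw [hg, List.map_cons, List.prod_cons, ← hg']; rfl))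
    obtain ⟨h1, h3⟩ := ih (fun w hw => hvs w (List.mem_cons_of_mem _ hw)) g' hg'
    constructor
    · rw [map_mul, Units.val_mul, sphereSign_refl Q h2 v hv, h1, List.map_cons, List.prod_cons, map_mul,
        List.length_cons, pow_succ']
      ring
    · rw [hg, List.map_cons, List.prod_cons, Matrix.det_mul, ← hg', h3, det_reflectionMatrix Q hv,
        List.length_cons, pow_succ']

/-- Odd `q`: `Omega` is cut out by the determinant and the sphere sign. -/
theorem mem_omega_iff_invariants [DecidableEq F] (h2 : (2 : F) ≠ 0)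
    (hQ : (QuadraticMap.polarBilin Q).Nondegenerate) (g : ↥(isometryGroup F ⇑Q)) :
    g ∈ Omega F ⇑Q ↔
      sphereSign Q g = 1 ∧ ((g : Matrix.GeneralLinearGroup ι F) : Matrix ι ι F).det = 1 := by
  have hF : Fintype.card F ≠ 2 := fun hc => h2 (by
    have : ((2 : ℕ) : F) = 0 := by rw [← hc, FiniteField.cast_card_eq_zero]
    exact_mod_cast this)
  obtain ⟨vs, hvs, hg⟩ := exists_list hQ (Or.inl hF) g
  obtain ⟨h1, h3⟩ := invariants_of_prod h2 vs hvs g hg
  have hchar : ringChar F ≠ 2 := fun hc => h2 (by
    have : CharP F 2 := ringChar.of_eq hc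
    exact CharTwo.two_eq_zero)
  have hP : (vs.map fun v => Q v).prod ≠ 0 := List.prod_ne_zero fun h0 => by
    obtain ⟨v, hv, hv0⟩ := List.mem_map.1 h0
    exact hvs v hv hv0
  rw [mem_omega_iff_of_prod hQ h2 g vs hvs hg, h3,
    neg_one_pow_eq_one_iff_even (Ring.neg_one_ne_one_of_char_ne_two hchar), and_comm]
  refine and_congr_left fun he => ?_
  rw [← Units.val_inj, h1, he.neg_one_pow, one_mul, Units.val_one, quadraticChar_one_iff_isSquare hP]

omit [Fintype F] in
theorem exists_ne_zero (hQ : (QuadraticMap.polarBilin Q).Nondegenerate) (hn : 1 ≤ Fintype.card ι) :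
    ∃ v, Q v ≠ 0 := by
  by_contra! hno
  obtain ⟨i⟩ := (Fintype.card_pos_iff.1 hn : Nonempty ι)
  have := hQ.1 (Pi.single i 1) fun y => by simp [QuadraticMap.polar, hno]
  simpa using congrFun this i

/-- In dimension at least two a nondegenerate form over a field of odd order represents every scalar. -/
theorem exists_apply_eq (h2 : (2 : F) ≠ 0) (hQ : (QuadraticMap.polarBilin Q).Nondegenerate)
    (hn : 2 ≤ Fintype.card ι) (c : F) (hc : c ≠ 0) : ∃ v, Q v = c := by
  classical
  obtain ⟨w, e, hw, hew⟩ := exists_diagonalise h2 hQ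
  have hn' : 2 ≤ Module.finrank F (ι → F) := by rwa [Module.finrank_fintype_fun_eq_card]
  let i₀ : Fin (Module.finrank F (ι → F)) := ⟨0, by omega⟩
  let i₁ : Fin (Module.finrank F (ι → F)) := ⟨1, by omega⟩
  obtain ⟨s, t, hst⟩ := exists_two_squares_eq_one h2 (div_ne_zero (hw i₀) hc) (div_ne_zero (hw i₁) hc)
  refine ⟨e.symm (Pi.single i₀ s + Pi.single i₁ t), ?_⟩
  rw [← hew, LinearEquiv.apply_symm_apply, diagFn, Fintype.sum_eq_add i₀ i₁ (by simp [i₀, i₁])
    (fun j hj => by simp [hj.1, hj.2])]
  simp [i₀, i₁, Pi.single_apply]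
  field_simp at hst
  linear_combination hst

end Cfsg.Agent.QForm
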