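/-
Transitivity of `Omega`: correct an isometry given by Witt's theorem by an element stabilising the source.
-/
import Mathlib
import Cfsg.Agent.Lib.QForm.OmegaQuot

set_option autoImplicit false

namespace Cfsg.Agent.QForm

open scoped Matrix

variable {F : Type*} [Field F] {ι : Type} [Fintype ι] [DecidableEq ι] {Q : QuadraticForm F (ι → F)}

/-- Witt's theorem, giving an element of the matrix isometry group. -/
theorem exists_act_extend (hQ : (QuadraticMap.polarBilin Q).Nondegenerate) (X : Submodule F (ι → F))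
    (φ : X →ₗ[F] (ι → F)) (hinj : Function.Injective φ) (hφ : ∀ x : X, Q (φ x) = Q x) :
    ∃ g : ↥(isometryGroup F ⇑Q), ∀ x : X, act Q g x = φ x := by
  obtain ⟨g, hg, hgx⟩ := Forms.witt_quadratic hQ X φ hinj hφ
  have happ : ∀ z, (((Forms.glEquiv ι F).symm g : Matrix.GeneralLinearGroup ι F) : Matrix ι ι F) *ᵥ z = g z :=
    fun z => by rw [← Forms.glEquiv_apply, MulEquiv.apply_symm_apply]
  refine ⟨⟨(Forms.glEquiv ι F).symm g, fun u _ => ?_⟩, fun x => (happ x).trans (hgx x)⟩
  show Q ((((Forms.glEquiv ι F).symm g : Matrix.GeneralLinearGroup ι F) : Matrix ι ι F) *ᵥ u) = Q u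
  rw [happ]
  exact hg u u

theorem act_injective (g : ↥(isometryGroup F ⇑Q)) : Function.Injective (act Q g) :=
  Function.LeftInverse.injective (act_inv_act Q g)

theorem map_eq_of_act_mem (g : ↥(isometryGroup F ⇑Q)) {U W : Submodule F (ι → F)}
    (h : ∀ u ∈ U, act Q g u ∈ W) (hd : Module.finrank F U = Module.finrank F W) :
    U.map (Matrix.mulVecLin ((g : Matrix.GeneralLinearGroup ι F) : Matrix ι ι F)) = W := by
  refine Submodule.eq_of_le_of_finrank_eq (Submodule.map_le_iff_le_comap.2 h) ?_
  rw [← hd]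
  exact (Submodule.equivMapOfInjective _ (act_injective g) U).finrank_eq.symm

/-- A reflection in a vector of `U` or orthogonal to `U` stabilises `U`. -/
theorem act_refl_mem {U : Submodule F (ι → F)} {v : ι → F} (hv : Q v ≠ 0)
    (h : v ∈ U ∨ ∀ u ∈ U, QuadraticMap.polar ⇑Q v u = 0) {u : ι → F} (hu : u ∈ U) :
    act Q (refl Q v hv) u ∈ U := by
  rw [act_refl]
  rcases h with h | h
  · exact U.sub_mem hu (U.smul_mem _ h)
  · rw [h u hu, mul_zero, zero_smul, sub_zero]; exact hu

variable [Fintype F]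

/-- If the stabiliser of `U` maps onto `O / Omega`, an isometry carrying `U` to `W` may be chosen in `Omega`. -/
theorem exists_omega_map (hQ : (QuadraticMap.polarBilin Q).Nondegenerate)
    (h : Fintype.card F ≠ 2 ∨ Fintype.card ι ≠ 4) {U W : Submodule F (ι → F)}
    (hd : Module.finrank F U = Module.finrank F W) (g : ↥(isometryGroup F ⇑Q)) (hg : ∀ u ∈ U, act Q g u ∈ W)
    (hcls : ∀ v (hv : Q v ≠ 0), ∃ s : ↥(isometryGroup F ⇑Q), (∀ u ∈ U, act Q s u ∈ U) ∧
      Abelianization.of s = Abelianization.of (refl Q v hv)) :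
    ∃ x : ↥(isometryGroup F ⇑Q), x ∈ Omega F ⇑Q ∧
      U.map (Matrix.mulVecLin ((x : Matrix.GeneralLinearGroup ι F) : Matrix ι ι F)) = W := by
  have key : ∀ a : ↥(isometryGroup F ⇑Q), ∃ s : ↥(isometryGroup F ⇑Q), (∀ u ∈ U, act Q s u ∈ U) ∧
      Abelianization.of s = Abelianization.of a := by
    intro a
    obtain ⟨vs, hvs, ha⟩ := exists_list hQ h a
    induction vs generalizing a with
    | nil =>
      obtain rfl : a = 1 := Subtype.ext (Units.ext ha)
      exact ⟨1, fun u hu => by rwa [act_one], rfl⟩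
    | cons v vs ih =>
      obtain ⟨a', ha'⟩ := exists_prod_refl Q vs fun w hw => hvs w (List.mem_cons_of_mem _ hw)
      obtain rfl : a = refl Q v (hvs v List.mem_cons_self) * a' := Subtype.ext (Units.ext (by
        rw [ha, List.map_cons, List.prod_cons, ← ha']; rfl))
      obtain ⟨s, hs, hsv⟩ := hcls v (hvs v List.mem_cons_self)
      obtain ⟨s', hs', hsa⟩ := ih a' (fun w hw => hvs w (List.mem_cons_of_mem _ hw)) ha'
      exact ⟨s * s', fun u hu => by rw [act_mul]; exact hs _ (hs' u hu),
        by rw [map_mul, map_mul, hsv, hsa]⟩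
  obtain ⟨s, hs, hsg⟩ := key g
  refine ⟨g * s, ?_, map_eq_of_act_mem _ (fun u hu => ?_) hd⟩
  · rw [mem_omega_iff_abelianization, map_mul, hsg]
    exact of_mul_self hQ h g
  · rw [act_mul]; exact hg _ (hs u hu)

/-- A non-degenerate form on a space of dimension at least two over a field of odd order represents everything. -/
theorem exists_apply_eq_of_module {V : Type*} [AddCommGroup V] [Module F V] [FiniteDimensional F V]
    {R : QuadraticForm F V} (h2 : (2 : F) ≠ 0) (hR : (QuadraticMap.polarBilin R).Nondegenerate)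
    (hn : 2 ≤ Module.finrank F V) (c : F) (hc : c ≠ 0) : ∃ v, R v = c := by
  classical
  obtain ⟨w, e, hw, hew⟩ := exists_diagonalise h2 hR
  let i₀ : Fin (Module.finrank F V) := ⟨0, by omega⟩
  let i₁ : Fin (Module.finrank F V) := ⟨1, by omega⟩
  obtain ⟨s, t, hst⟩ := exists_two_squares_eq_one h2 (div_ne_zero (hw i₀) hc) (div_ne_zero (hw i₁) hc)
  refine ⟨e.symm (Pi.single i₀ s + Pi.single i₁ t), ?_⟩
  rw [← hew, LinearEquiv.apply_symm_apply, diagFn, Fintype.sum_eq_add i₀ i₁ (by simp [i₀, i₁])
    (fun j hj => by simp [hj.1, hj.2])]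
  simp [i₀, i₁]
  field_simp at hst
  linear_combination hst

omit [Fintype F] in
/-- The restriction to a subspace meeting its orthogonal trivially is non-degenerate. -/
theorem nondegenerate_restrict {U : Submodule F (ι → F)}
    (hU : U ⊓ LinearMap.BilinForm.orthogonal (QuadraticMap.polarBilin Q) U = ⊥) :
    (QuadraticMap.polarBilin (Q.comp U.subtype)).Nondegenerate := by
  have hl : ∀ x : U, (∀ y : U, QuadraticMap.polar ⇑Q (x : ι → F) y = 0) → x = 0 := by
    intro x hx
    have hmem : (x : ι → F) ∈ U ⊓ LinearMap.BilinForm.orthogonal (QuadraticMap.polarBilin Q) U := by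
      refine Submodule.mem_inf.2 ⟨x.2, ?_⟩
      intro u hu
      show QuadraticMap.polar ⇑Q u x = 0
      rw [QuadraticMap.polar_comm]
      exact hx ⟨u, hu⟩
    rw [hU, Submodule.mem_bot] at hmem
    exact Subtype.ext hmem
  exact ⟨fun x hx => hl x hx, fun y hy => hl y fun x => by rw [QuadraticMap.polar_comm]; exact hy x⟩

end Cfsg.Agent.QForm
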