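/-
Classification of non-degenerate quadratic spaces over finite fields: plus or minus type in even dimension,
a multiple of the standard form in odd dimension.
-/
import Mathlib
import Cfsg.Agent.Lib.QForm.NormForm
import Cfsg.Agent.Lib.QForm.Basis
import Cfsg.Agent.Lib.QForm.Transitive
import Cfsg.Agent.Lib.Forms.QuadOrder

set_option autoImplicit false
set_option linter.unusedSectionVars false

namespace Cfsg.Agent.QForm

open Module (finrank)

variable {F : Type*} [Field F] [Fintype F] {V : Type*} [AddCommGroup V] [Module F V] [FiniteDimensional F V]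

theorem exists_binary_iso {a b a' b' : F}
    (hab : ∀ z₁ z₂ : F, z₁ ^ 2 + a * z₁ * z₂ + b * z₂ ^ 2 = 0 → z₁ = 0 ∧ z₂ = 0)
    (hab' : ∀ z₁ z₂ : F, z₁ ^ 2 + a' * z₁ * z₂ + b' * z₂ ^ 2 = 0 → z₁ = 0 ∧ z₂ = 0) :
    ∃ e : (F × F) ≃ₗ[F] (F × F), ∀ z, Forms.binQ a b (e z) = Forms.binQ a' b' z := by
  classical
  obtain ⟨p, hp⟩ := CharP.exists F
  have : Fact p.Prime := ⟨(CharP.char_is_prime_or_zero F p).resolve_right (CharP.char_ne_zero_of_finite F p)⟩
  let K := FiniteField.Extension F p 2
  have : Fintype K := Fintype.ofFinite K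
  have hK : Fintype.card K = Fintype.card F ^ 2 := by
    rw [← Nat.card_eq_fintype_card, FiniteField.natCard_extension, Nat.card_eq_fintype_card]
  obtain ⟨E⟩ := nonempty_quadExt hK rfl
  obtain ⟨t, n, ht, hn⟩ := E.exists_trace_norm
  obtain ⟨e₁, he₁⟩ := E.exists_isometry_minus hK rfl ht hn odd_one a b hab
  obtain ⟨e₂, he₂⟩ := E.exists_isometry_minus hK rfl ht hn odd_one a' b' hab'
  refine ⟨(Forms.binCoord F).symm.trans ((e₂.trans e₁.symm).trans (Forms.binCoord F)), fun z => ?_⟩
  have h0 : ∀ (x y : F) (v : (Fin 0 ⊕ Fin 0) ⊕ Fin 2 → F),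
      Forms.binQ x y (Forms.binCoord F v) = quadFormMinus 0 F x y v := fun x y v => by
    rw [Forms.binQ_binCoord, Forms.quadMinus_apply]
  show Forms.binQ a b (Forms.binCoord F (e₁.symm (e₂ ((Forms.binCoord F).symm z)))) = _
  rw [h0]
  have h1 := he₁ (e₁.symm (e₂ ((Forms.binCoord F).symm z)))
  rw [LinearEquiv.apply_symm_apply] at h1
  refine Eq.trans h1.symm ((he₂ _).trans ?_)
  show quadFormMinus 0 F a' b' _ = _
  rw [← h0, LinearEquiv.apply_symm_apply]

/-- Split off a hyperbolic plane. -/
theorem exists_hyp_split {Q : QuadraticForm F V} (hQ : (QuadraticMap.polarBilin Q).Nondegenerate) {x : V}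
    (hx0 : x ≠ 0) (hQx : Q x = 0) :
    ∃ (C : Submodule F V) (e : V ≃ₗ[F] (F × F) × C), finrank F C + 2 = finrank F V ∧
      (QuadraticMap.polarBilin (Q.comp C.subtype)).Nondegenerate ∧
      ∀ v, Forms.hypExt (Q.comp C.subtype) (e v) = Q v := by
  obtain ⟨y, hQy, hxy⟩ := exists_partner hQ hx0 hQx
  have h : IsPairs Q (fun _ : Fin 1 => x) (fun _ : Fin 1 => y) :=
    ⟨fun _ => hQx, fun _ => hQy, fun i j => by rw [Subsingleton.elim i j, if_pos rfl]; exact hxy,
      fun _ _ => by rw [QuadraticMap.polar_self, hQx, smul_zero],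
      fun _ _ => by rw [QuadraticMap.polar_self, hQy, smul_zero]⟩
  set C := perp Q (fun _ : Fin 1 => x) (fun _ : Fin 1 => y)
  let Φ : (F × F) × C →ₗ[F] V :=
    ((LinearMap.toSpanSingleton F V x).coprod (LinearMap.toSpanSingleton F V y)).coprod C.subtype
  have hΦ : ∀ p, Φ p = (∑ _i : Fin 1, (p.1.1 • x + p.1.2 • y)) + (p.2 : V) := fun p => by
    simp [Φ]
  have hinj : Function.Injective Φ := by
    rw [injective_iff_map_eq_zero]
    rintro ⟨⟨a, b⟩, c⟩ hp
    rw [hΦ] at hp
    obtain ⟨h1, h2⟩ := mem_perp.1 c.2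
    have ha : a = 0 := by
      have := congrArg (QuadraticMap.polarBilin Q y) hp
      rw [map_add, map_zero, QuadraticMap.polarBilin_apply_apply, QuadraticMap.polarBilin_apply_apply,
        h.polar_f_sum (fun _ => a) (fun _ => b) 0, h1 0, add_zero] at this
      exact this
    have hb : b = 0 := by
      have := congrArg (QuadraticMap.polarBilin Q x) hp
      rw [map_add, map_zero, QuadraticMap.polarBilin_apply_apply, QuadraticMap.polarBilin_apply_apply,
        h.polar_e_sum (fun _ => a) (fun _ => b) 0, h2 0, add_zero] at this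
      exact this
    subst ha hb
    simp at hp
    simp [hp]
  have hdim : finrank F C + 2 = finrank F V := h.finrank_perp
  have hbij : Function.Bijective Φ := ⟨hinj, (LinearMap.injective_iff_surjective_of_finrank_eq_finrank (by
    rw [Module.finrank_prod, Module.finrank_prod, Module.finrank_self, ← hdim, add_comm])).1 hinj⟩
  refine ⟨C, (LinearEquiv.ofBijective Φ hbij).symm, hdim, h.perp_nondegenerate hQ, fun v => ?_⟩
  obtain ⟨p, rfl⟩ := hbij.2 v
  rw [show Φ p = LinearEquiv.ofBijective Φ hbij p from rfl, LinearEquiv.symm_apply_apply]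
  show _ = Q (Φ p)
  rw [hΦ, h.apply_combination (fun _ => p.1.1) (fun _ => p.1.2) p.2.2, Forms.hypExt_apply]
  simp

omit [FiniteDimensional F V] in
theorem hypExt_congr {C C' : Type*} [AddCommGroup C] [Module F C] [AddCommGroup C'] [Module F C']
    (Q : QuadraticForm F C) (Q' : QuadraticForm F C') (e : C ≃ₗ[F] C') (he : ∀ v, Q' (e v) = Q v)
    (p : (F × F) × C) : Forms.hypExt Q' ((LinearEquiv.refl F (F × F)).prodCongr e p) = Forms.hypExt Q p := by
  rw [Forms.hypExt_apply, Forms.hypExt_apply]
  simp [he]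

/-- Even dimension: plus or minus type. -/
theorem exists_iso_plus_or_minus {a b : F}
    (hab : ∀ z₁ z₂ : F, z₁ ^ 2 + a * z₁ * z₂ + b * z₂ ^ 2 = 0 → z₁ = 0 ∧ z₂ = 0) :
    ∀ (M : ℕ) {V : Type _} [AddCommGroup V] [Module F V] [FiniteDimensional F V] (Q : QuadraticForm F V),
      (QuadraticMap.polarBilin Q).Nondegenerate → finrank F V = 2 * M →
      (∃ e : V ≃ₗ[F] (Fin M ⊕ Fin M → F), ∀ v, quadFormPlus M F (e v) = Q v) ∨
      (1 ≤ M ∧ ∃ e : V ≃ₗ[F] ((Fin (M - 1) ⊕ Fin (M - 1)) ⊕ Fin 2 → F),
        ∀ v, quadFormMinus (M - 1) F a b (e v) = Q v) := by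
  intro M
  induction M with
  | zero =>
    intro V _ _ _ Q _ hd
    have : Subsingleton V := Module.finrank_zero_iff.1 (by simpa using hd)
    refine Or.inl ⟨LinearEquiv.ofFinrankEq _ _ (by rw [hd]; simp), fun v => ?_⟩
    rw [Subsingleton.elim v 0, QuadraticMap.map_zero, map_zero]
    simp [quadFormPlus]
  | succ M ih =>
    intro V _ _ _ Q hQ hd
    by_cases hsing : ∃ x, x ≠ 0 ∧ Q x = 0
    · obtain ⟨x, hx0, hQx⟩ := hsing
      obtain ⟨C, e, hC, hCn, he⟩ := exists_hyp_split hQ hx0 hQx
      rcases ih (Q.comp C.subtype) hCn (by omega) with ⟨f, hf⟩ | ⟨hM, f, hf⟩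
      · refine Or.inl ⟨e.trans (((LinearEquiv.refl F (F × F)).prodCongr f).trans (Forms.splitPair M F).symm),
          fun v => ?_⟩
        simp only [LinearEquiv.trans_apply]
        rw [← Forms.quadPlus_apply, ← Forms.quadPlus_succ, LinearEquiv.apply_symm_apply,
          hypExt_congr (Q.comp C.subtype) (Forms.quadPlus M F) f (fun v => by rw [Forms.quadPlus_apply, hf]), he]
      · obtain ⟨N, rfl⟩ : ∃ N, M = N + 1 := ⟨M - 1, by omega⟩
        refine Or.inr ⟨by omega, e.trans (((LinearEquiv.refl F (F × F)).prodCongr f).trans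
          (Forms.splitMinus N F).symm), fun v => ?_⟩
        simp only [LinearEquiv.trans_apply]
        show quadFormMinus (N + 1) F a b _ = Q v
        rw [← Forms.quadMinus_apply, ← Forms.quadMinus_succ, LinearEquiv.apply_symm_apply,
          hypExt_congr (Q.comp C.subtype) (Forms.quadMinus N F a b) f (fun v => by
            rw [Forms.quadMinus_apply]; exact hf v), he]
    · push Not at hsing
      have hM : M = 0 := by
        by_contra hM
        obtain ⟨x, hx0, hx⟩ := exists_singular hQ (by omega)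
        exact hsing x hx0 hx
      subst hM
      refine Or.inr ⟨le_rfl, ?_⟩
      -- a unit vector and a basis
      have hex : ∃ (a' b' : F) (g : V ≃ₗ[F] F × F), (∀ v, Forms.binQ a' b' (g v) = Q v) := by
        obtain ⟨v₁, hv₁⟩ : ∃ v, Q v = 1 := by
          have : Nontrivial V := Module.nontrivial_of_finrank_pos (by omega : 0 < finrank F V)
          obtain ⟨v, hv⟩ := exists_ne (0 : V)
          let w := LinearEquiv.ofFinrankEq (R := F) (F × F) V (by rw [hd]; simp)
          have hQv := hsing v hv
          by_cases h2 : (2 : F) = 0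
          · have : CharP F 2 := CharTwo.of_one_ne_zero_of_two_eq_zero one_ne_zero h2
            obtain ⟨s, hs⟩ := FiniteField.isSquare_of_char_two (CharP.eq F (ringChar.charP F) inferInstance) (Q v)⁻¹
            exact ⟨s • v, by rw [QuadraticMap.map_smul, smul_eq_mul, ← hs, inv_mul_cancel₀ hQv]⟩
          · exact exists_apply_eq_of_module h2 hQ (by omega) 1 one_ne_zero
        obtain ⟨v₂, hv₂⟩ : ∃ v₂, v₂ ∉ (F ∙ v₁) := by
          by_contra! hall
          have h1 := Submodule.finrank_mono (show (⊤ : Submodule F V) ≤ F ∙ v₁ from fun x _ => hall x)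
          rw [finrank_top] at h1
          have := finrank_span_le_card (R := F) ({v₁} : Set V)
          simp at this
          omega
        have hinj : Function.Injective ((LinearMap.toSpanSingleton F V v₁).coprod
            (LinearMap.toSpanSingleton F V v₂)) := by
          rw [injective_iff_map_eq_zero]
          rintro ⟨x, y⟩ hxy
          simp at hxy
          have hy : y = 0 := by
            by_contra hy
            refine hv₂ (Submodule.mem_span_singleton.2 ⟨-(x / y), ?_⟩)
            have : y • v₂ = -(x • v₁) := eq_neg_of_add_eq_zero_right hxy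
            calc -(x / y) • v₁ = y⁻¹ • (-(x • v₁)) := by rw [smul_neg, smul_smul, neg_smul]; congr 2; ring
              _ = v₂ := by rw [← this, smul_smul, inv_mul_cancel₀ hy, one_smul]
          subst hy
          simp at hxy
          have hv10 : v₁ ≠ 0 := fun h => by simp [h] at hv₁
          rcases hxy with h | h
          · simp [h]
          · exact absurd h hv10
        let g := LinearEquiv.ofBijective _ ⟨hinj, (LinearMap.injective_iff_surjective_of_finrank_eq_finrank
          (by rw [hd]; simp)).1 hinj⟩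
        refine ⟨QuadraticMap.polar ⇑Q v₁ v₂, Q v₂, g.symm, fun v => ?_⟩
        obtain ⟨⟨x, y⟩, rfl⟩ := g.surjective v
        rw [LinearEquiv.symm_apply_apply, Forms.binQ_apply]
        show _ = Q (x • v₁ + y • v₂)
        rw [Forms.quadratic_map_add, QuadraticMap.map_smul, QuadraticMap.map_smul, hv₁, map_smul, map_smul,
          LinearMap.smul_apply, QuadraticMap.polarBilin_apply_apply]
        simp
        ring
      obtain ⟨a', b', g, hg⟩ := hex
      have hab' : ∀ z₁ z₂ : F, z₁ ^ 2 + a' * z₁ * z₂ + b' * z₂ ^ 2 = 0 → z₁ = 0 ∧ z₂ = 0 := by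
        intro z₁ z₂ hz
        have h0 : g.symm (z₁, z₂) = 0 := by
          by_contra hne
          apply hsing _ hne
          rw [← hg, LinearEquiv.apply_symm_apply, Forms.binQ_apply]
          exact hz
        have := congrArg g h0
        rw [LinearEquiv.apply_symm_apply, map_zero] at this
        exact Prod.ext_iff.1 this
      obtain ⟨h, hh⟩ := exists_binary_iso hab hab'
      refine ⟨(g.trans h).trans (Forms.binCoord F).symm, fun v => ?_⟩
      simp only [LinearEquiv.trans_apply]
      show quadFormMinus 0 F a b _ = Q v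
      rw [← Forms.quadMinus_apply, ← Forms.binQ_binCoord, LinearEquiv.apply_symm_apply, hh, hg]

/-- Odd dimension in odd characteristic: a multiple of the standard form. -/
theorem exists_iso_odd (h2 : (2 : F) ≠ 0) :
    ∀ (M : ℕ) {V : Type _} [AddCommGroup V] [Module F V] [FiniteDimensional F V] (Q : QuadraticForm F V),
      (QuadraticMap.polarBilin Q).Nondegenerate → finrank F V = 2 * M + 1 →
      ∃ c : F, c ≠ 0 ∧ ∃ e : V ≃ₗ[F] (Unit ⊕ (Fin M ⊕ Fin M) → F), ∀ v, c * quadFormOdd M F (e v) = Q v := by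
  intro M
  induction M with
  | zero =>
    intro V _ _ _ Q hQ hd
    obtain ⟨v, hv0, hspan⟩ := finrank_eq_one_iff'.1 hd
    have hQv : Q v ≠ 0 := by
      intro h0
      refine hv0 (hQ.1 v fun w => ?_)
      obtain ⟨c, rfl⟩ := hspan w
      rw [map_smul, Forms.polarBilin_self, h0, mul_zero, smul_zero]
    let e : (Unit ⊕ (Fin 0 ⊕ Fin 0) → F) →ₗ[F] V :=
      (LinearMap.toSpanSingleton F V v).comp (LinearMap.proj (Sum.inl ()))
    have hbij : Function.Bijective e := by
      constructor
      · intro x y hxy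
        have : x (Sum.inl ()) = y (Sum.inl ()) := smul_left_injective F hv0 hxy
        funext i
        rcases i with ⟨⟩ | i | i
        · exact this
        · exact i.elim0
        · exact i.elim0
      · intro w
        obtain ⟨c, rfl⟩ := hspan w
        exact ⟨fun _ => c, rfl⟩
    refine ⟨Q v, hQv, (LinearEquiv.ofBijective e hbij).symm, fun w => ?_⟩
    obtain ⟨x, rfl⟩ := hbij.2 w
    rw [show e x = LinearEquiv.ofBijective e hbij x from rfl, LinearEquiv.symm_apply_apply]
    show _ = Q (x (Sum.inl ()) • v)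
    rw [QuadraticMap.map_smul, quadFormOdd]
    simp
    ring
  | succ M ih =>
    intro V _ _ _ Q hQ hd
    obtain ⟨x, hx0, hQx⟩ := exists_singular hQ (by omega)
    obtain ⟨C, e, hC, hCn, he⟩ := exists_hyp_split hQ hx0 hQx
    obtain ⟨c, hc, f, hf⟩ := ih (Q.comp C.subtype) hCn (by omega)
    let s : (F × F) ≃ₗ[F] (F × F) := (LinearEquiv.smulOfNeZero F F c⁻¹ (inv_ne_zero hc)).prodCongr
      (LinearEquiv.refl F F)
    refine ⟨c, hc, e.trans ((s.prodCongr f).trans (Forms.splitOdd M F).symm), fun v => ?_⟩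
    simp only [LinearEquiv.trans_apply]
    rw [← Forms.quadOdd_apply, ← Forms.quadOdd_succ, LinearEquiv.apply_symm_apply, Forms.hypExt_apply,
      Forms.quadOdd_apply, ← he, Forms.hypExt_apply]
    simp only [LinearEquiv.prodCongr_apply, s]
    rw [mul_add, hf]
    congr 1
    simp [LinearEquiv.smulOfNeZero, LinearEquiv.smulOfUnit]
    field_simp

end Cfsg.Agent.QForm
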