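/-
Totally isotropic half-dimensional subspaces of symmetric and alternating bilinear forms, the discriminant
criterion over finite fields of odd order, and Gram determinants of tensor products.
-/
import Mathlib
import Cfsg.Agent.Lib.QForm.Diag
import Cfsg.Agent.Lib.QForm.MaximalSingular

set_option autoImplicit false

namespace Cfsg.Agent.QForm

open LinearMap (BilinForm)
open Module (finrank)
open scoped TensorProduct

variable {F V : Type*} [Field F] [AddCommGroup V] [Module F V] [FiniteDimensional F V]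

/-- An alternating form has totally isotropic subspaces up to half the dimension. -/
theorem exists_isotropic_alt {B : BilinForm F V} (hA : B.IsAlt) (hB : B.Nondegenerate) {k : ℕ}
    (hk : 2 * k ≤ finrank F V) :
    ∃ L : Submodule F V, finrank F L = k ∧ ∀ x ∈ L, ∀ y ∈ L, B x y = 0 := by
  induction k with
  | zero => exact ⟨⊥, finrank_bot F V, fun x hx y _ => by simp [(Submodule.mem_bot F).1 hx]⟩
  | succ k ih =>
    obtain ⟨L, hL, hiso⟩ := ih (by omega)
    have hle : L ≤ B.orthogonal L := fun y hy x hx => hiso x hx y hy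
    obtain ⟨v, hv, hvL⟩ : ∃ v ∈ B.orthogonal L, v ∉ L := SetLike.not_le_iff_exists.1 fun h => by
      have := Submodule.finrank_mono h
      rw [BilinForm.finrank_orthogonal hB, hL] at this
      omega
    refine ⟨L ⊔ F ∙ v, by rw [Submodule.finrank_sup_span_singleton hvL, hL], ?_⟩
    intro x hx y hy
    obtain ⟨a, ha, _, hx', rfl⟩ := Submodule.mem_sup.1 hx
    obtain ⟨b, hb, _, hy', rfl⟩ := Submodule.mem_sup.1 hy
    obtain ⟨s, rfl⟩ := Submodule.mem_span_singleton.1 hx'
    obtain ⟨t, rfl⟩ := Submodule.mem_span_singleton.1 hy'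
    have h1 : B a v = 0 := hv a ha
    have h2 : B v b = 0 := hA.isRefl _ _ (hv b hb)
    simp [hiso a ha b hb, h1, h2, hA.self_eq_zero v]

theorem det_fromBlocks_zero_left {n : ℕ} (A C D : Matrix (Fin n) (Fin n) F) :
    (Matrix.fromBlocks 0 A C D).det = (-1) ^ n * (A.det * C.det) := by
  have h : Matrix.fromBlocks 0 A C D * Matrix.fromBlocks 0 1 1 0 = Matrix.fromBlocks A 0 D C := by
    simp [Matrix.fromBlocks_multiply]
  have h' := congrArg Matrix.det h
  rw [Matrix.det_mul, det_hyperbolic, Matrix.det_fromBlocks_zero₁₂] at h'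
  have h2 : ((-1 : F) ^ n) * (-1) ^ n = 1 := by rw [← mul_pow]; simp
  linear_combination (-1 : F) ^ n * h' - (Matrix.fromBlocks 0 A C D).det * h2

theorem toMatrix_det_change {ι κ : Type*} [Fintype ι] [DecidableEq ι] [Fintype κ] [DecidableEq κ]
    (B : BilinForm F V) (b : Module.Basis ι F V) (c : Module.Basis κ F V) :
    ∃ u : F, u ≠ 0 ∧ (LinearMap.BilinForm.toMatrix c B).det = u ^ 2 * (LinearMap.BilinForm.toMatrix b B).det := by
  obtain e : ι ≃ κ := b.indexEquiv c
  refine ⟨(b.toMatrix (c.reindex e.symm)).det, ?_, ?_⟩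
  · have := b.invertibleToMatrix (c.reindex e.symm)
    exact (Matrix.isUnit_det_of_invertible _).ne_zero
  · have h1 : (LinearMap.BilinForm.toMatrix c B).det = (LinearMap.BilinForm.toMatrix (c.reindex e.symm) B).det := by
      rw [← Matrix.det_submatrix_equiv_self e (LinearMap.BilinForm.toMatrix c B)]
      congr 1
      ext i j
      simp [LinearMap.BilinForm.toMatrix_apply]
    rw [h1, ← LinearMap.BilinForm.toMatrix_mul_basis_toMatrix (b := b) (c.reindex e.symm),
      Matrix.det_mul, Matrix.det_mul, Matrix.det_transpose]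
    ring

/-- A totally isotropic subspace of half dimension forces the square class of the discriminant. -/
theorem isSquare_of_isotropic {B : BilinForm F V} (hS : B.IsSymm) {n : ℕ} (hV : finrank F V = 2 * n)
    {X : Submodule F V} (hX : finrank F X = n) (hiso : ∀ x ∈ X, ∀ y ∈ X, B x y = 0)
    {ι : Type*} [Fintype ι] [DecidableEq ι] (b : Module.Basis ι F V) :
    IsSquare ((-1) ^ n * (LinearMap.BilinForm.toMatrix b B).det) := by
  obtain ⟨Y, hXY⟩ := Submodule.exists_isCompl X
  have hY : finrank F Y = n := by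
    have := Submodule.finrank_add_eq_of_isCompl hXY
    omega
  let c := ((Module.finBasisOfFinrankEq F X hX).prod (Module.finBasisOfFinrankEq F Y hY)).map
    (Submodule.prodEquivOfIsCompl X Y hXY)
  obtain ⟨u, hu, h⟩ := toMatrix_det_change B c b
  have hM : ∃ A D : Matrix (Fin n) (Fin n) F,
      LinearMap.BilinForm.toMatrix c B = Matrix.fromBlocks 0 A A.transpose D := by
    refine ⟨Matrix.of fun i j => B (c (.inl i)) (c (.inr j)), Matrix.of fun i j => B (c (.inr i)) (c (.inr j)), ?_⟩
    ext i j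
    rcases i with i | i <;> rcases j with j | j <;> simp only [LinearMap.BilinForm.toMatrix_apply,
      Matrix.fromBlocks_apply₁₁, Matrix.fromBlocks_apply₁₂, Matrix.fromBlocks_apply₂₁,
      Matrix.fromBlocks_apply₂₂, Matrix.of_apply, Matrix.transpose_apply, Matrix.zero_apply]
    · exact hiso _ (by simp [c]) _ (by simp [c])
    · exact hS.eq _ _
  obtain ⟨A, D, hM⟩ := hM
  rw [h, hM, det_fromBlocks_zero_left, Matrix.det_transpose]
  refine ⟨u * A.det, ?_⟩
  have h2 : ((-1 : F) ^ n) * (-1) ^ n = 1 := by rw [← mul_pow]; simp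
  linear_combination (u ^ 2 * A.det * A.det) * h2

/-- Over a finite field of odd order: plus type is decided by the discriminant. -/
theorem exists_isotropic_iff [Finite F] (h2 : (2 : F) ≠ 0) {B : BilinForm F V} (hS : B.IsSymm)
    (hB : B.Nondegenerate) {n : ℕ} (hV : finrank F V = 2 * n)
    {ι : Type*} [Fintype ι] [DecidableEq ι] (b : Module.Basis ι F V) :
    (∃ X : Submodule F V, finrank F X = n ∧ ∀ x ∈ X, ∀ y ∈ X, B x y = 0) ↔
      IsSquare ((-1) ^ n * (LinearMap.BilinForm.toMatrix b B).det) := by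
  refine ⟨fun ⟨X, hX, hiso⟩ => isSquare_of_isotropic hS hV hX hiso b, fun hsq => ?_⟩
  let c : Module.Basis (Fin n ⊕ Fin n) F V := (Module.finBasisOfFinrankEq F V hV).reindex
    ((finCongr (two_mul n)).trans finSumFinEquiv.symm)
  set Q : QuadraticForm F V := LinearMap.BilinMap.toQuadraticMap B with hQdef
  have hpol : ∀ x y, QuadraticMap.polar (⇑Q) x y = 2 * B x y := by
    intro x y
    simp only [QuadraticMap.polar, hQdef, LinearMap.BilinMap.toQuadraticMap_apply, map_add, LinearMap.add_apply]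
    rw [hS.eq y x]; ring
  have hQ : (QuadraticMap.polarBilin Q).Nondegenerate := by
    have hl : ∀ x, (∀ y, QuadraticMap.polarBilin Q x y = 0) → x = 0 := fun x hx => hB.1 x fun y => by
      have := hx y
      rw [QuadraticMap.polarBilin_apply_apply, hpol] at this
      exact (mul_eq_zero.1 this).resolve_left h2
    exact ⟨hl, fun y hy => hl y fun x => (QuadraticMap.polar_comm _ _ _).trans (hy x)⟩
  obtain ⟨u, hu, hdet⟩ := toMatrix_det_change B b c
  have hgram : (gram ⇑Q ⇑c).det = 2 ^ (2 * n) * (u ^ 2 * (LinearMap.BilinForm.toMatrix b B).det) := by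
    have : gram ⇑Q ⇑c = (2 : F) • LinearMap.BilinForm.toMatrix c B := by
      ext i j
      simp [gram, hpol, LinearMap.BilinForm.toMatrix_apply]
    rw [this, Matrix.det_smul, hdet, Fintype.card_sum, Fintype.card_fin, two_mul]
  obtain ⟨r, hr⟩ := hsq
  obtain ⟨g, hg⟩ := (isometric_iff h2 (plusForm F n) Q (plusForm_nondegenerate F n) hQ
    (Pi.basisFun F (Fin n ⊕ Fin n)) c).2 ⟨2 ^ n * u * r, by
      rw [det_gram_plus, hgram, two_mul, pow_add]
      linear_combination (2 ^ n * 2 ^ n * u ^ 2) * hr⟩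
  obtain ⟨L, hL, hLn⟩ := exists_plus_maximal F n
  refine ⟨L.map (g : _ →ₗ[F] V), (LinearEquiv.finrank_map_eq g L).trans hLn, ?_⟩
  rintro _ ⟨x, hx, rfl⟩ _ ⟨y, hy, rfl⟩
  have h0 : QuadraticMap.polar (⇑Q) (g x) (g y) = 0 := by
    rw [QuadraticMap.polar, ← map_add, hg, hg, hg, hL _ (add_mem hx hy), hL x hx, hL y hy, sub_zero, sub_zero]
  rw [hpol] at h0
  exact (mul_eq_zero.1 h0).resolve_left h2

section Tensor

variable {U W : Type*} [AddCommGroup U] [Module F U] [AddCommGroup W] [Module F W]

theorem toMatrix_tmul {ι κ : Type*} [Fintype ι] [DecidableEq ι] [Fintype κ] [DecidableEq κ]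
    (B₁ : BilinForm F U) (B₂ : BilinForm F W) (b₁ : Module.Basis ι F U) (b₂ : Module.Basis κ F W) :
    LinearMap.BilinForm.toMatrix (b₁.tensorProduct b₂) (B₁.tmul B₂) =
      Matrix.kroneckerMap (· * ·) (LinearMap.BilinForm.toMatrix b₁ B₁) (LinearMap.BilinForm.toMatrix b₂ B₂) := by
  ext ⟨i, k⟩ ⟨j, l⟩
  simp [LinearMap.BilinForm.toMatrix_apply, Module.Basis.tensorProduct_apply]
  ring

theorem det_toMatrix_tmul {ι κ : Type*} [Fintype ι] [DecidableEq ι] [Fintype κ] [DecidableEq κ]
    (B₁ : BilinForm F U) (B₂ : BilinForm F W) (b₁ : Module.Basis ι F U) (b₂ : Module.Basis κ F W) :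
    (LinearMap.BilinForm.toMatrix (b₁.tensorProduct b₂) (B₁.tmul B₂)).det =
      (LinearMap.BilinForm.toMatrix b₁ B₁).det ^ Fintype.card κ * (LinearMap.BilinForm.toMatrix b₂ B₂).det ^ Fintype.card ι := by
  rw [toMatrix_tmul]
  exact Matrix.det_kronecker _ _

theorem tmul_nondegenerate [FiniteDimensional F U] [FiniteDimensional F W]
    {B₁ : BilinForm F U} {B₂ : BilinForm F W} (h₁ : B₁.Nondegenerate) (h₂ : B₂.Nondegenerate) :
    (B₁.tmul B₂).Nondegenerate := by
  classical
  refine (LinearMap.BilinForm.nondegenerate_iff_det_ne_zero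
    ((Module.finBasis F U).tensorProduct (Module.finBasis F W))).2 ?_
  rw [det_toMatrix_tmul]
  exact mul_ne_zero (pow_ne_zero _ ((LinearMap.BilinForm.nondegenerate_iff_det_ne_zero _).1 h₁))
    (pow_ne_zero _ ((LinearMap.BilinForm.nondegenerate_iff_det_ne_zero _).1 h₂))

end Tensor

end Cfsg.Agent.QForm
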