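/-
The hyperbolic space: the Levi subgroup `GL_m`, the two families of maximal totally singular subspaces and
`Omega`.
-/
import Mathlib
import Cfsg.Agent.Lib.QForm.OmegaQuot
import Cfsg.Agent.Lib.QForm.Transitive
import Cfsg.Agent.Lib.QForm.MaximalSingular
import Cfsg.Agent.Lib.GL.Simple

set_option autoImplicit false

namespace Cfsg.Agent.QForm

open scoped Matrix
open Module (finrank)

section Parity

variable {F : Type*} [Field F] {ι : Type} [Fintype ι] [DecidableEq ι] {Q : QuadraticForm F (ι → F)}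

/-- The image of a subspace under an isometry. -/
noncomputable def image (g : ↥(isometryGroup F ⇑Q)) (U : Submodule F (ι → F)) : Submodule F (ι → F) :=
  U.map (Matrix.mulVecLin ((g : Matrix.GeneralLinearGroup ι F) : Matrix ι ι F))

theorem act_mem_image (g : ↥(isometryGroup F ⇑Q)) {U : Submodule F (ι → F)} {x : ι → F} (hx : x ∈ U) :
    act Q g x ∈ image g U :=
  Submodule.mem_map_of_mem hx

theorem mem_image (g : ↥(isometryGroup F ⇑Q)) {U : Submodule F (ι → F)} {x : ι → F} :
    x ∈ image g U ↔ ∃ u ∈ U, act Q g u = x :=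
  Submodule.mem_map

theorem finrank_image (g : ↥(isometryGroup F ⇑Q)) (U : Submodule F (ι → F)) :
    finrank F (image g U) = finrank F U :=
  (Submodule.equivMapOfInjective _ (act_injective g) U).finrank_eq.symm

theorem totallySingular_image (g : ↥(isometryGroup F ⇑Q)) {U : Submodule F (ι → F)} (hU : TotallySingular Q U) :
    TotallySingular Q (image g U) := by
  intro x hx
  obtain ⟨u, hu, rfl⟩ := (mem_image g).1 hx
  rw [act_map, hU u hu]

theorem image_one (U : Submodule F (ι → F)) : image (1 : ↥(isometryGroup F ⇑Q)) U = U := by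
  refine Submodule.ext fun x => ?_
  simp [mem_image, act_one]

theorem image_mul (g h : ↥(isometryGroup F ⇑Q)) (U : Submodule F (ι → F)) :
    image (g * h) U = image g (image h U) := by
  refine Submodule.ext fun x => ?_
  simp [mem_image, act_mul]

variable (hQ : (QuadraticMap.polarBilin Q).Nondegenerate) {m : ℕ} (hV : finrank F (ι → F) = 2 * m)

include hQ hV in
theorem finrank_inf_image_refl {W : Submodule F (ι → F)} (hW : TotallySingular Q W) (hWm : finrank F W = m)
    (v : ι → F) (hv : Q v ≠ 0) : finrank F ↥(W ⊓ image (refl Q v hv) W) + 1 = m := by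
  obtain ⟨u, huW, hu⟩ : ∃ u ∈ W, QuadraticMap.polar ⇑Q v u ≠ 0 := by
    by_contra! hno
    apply hv
    have hmem : v ∈ LinearMap.BilinForm.orthogonal (QuadraticMap.polarBilin Q) W := fun n hn => by
      show QuadraticMap.polar ⇑Q n v = 0
      rw [QuadraticMap.polar_comm]; exact hno n hn
    rw [hW.orthogonal_eq hQ hV hWm] at hmem
    exact hW v hmem
  have hlt : W ⊓ image (refl Q v hv) W < W := by
    refine lt_of_le_of_ne inf_le_left fun h => hu ?_
    have heq : W = image (refl Q v hv) W :=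
      Submodule.eq_of_le_of_finrank_eq (inf_eq_left.1 h) (finrank_image _ W).symm
    have hmem : act Q (refl Q v hv) u ∈ W := by rw [heq]; exact act_mem_image _ huW
    rw [act_refl] at hmem
    have h1 := W.sub_mem huW hmem
    rw [sub_sub_cancel] at h1
    by_contra hc
    exact hv (hW v ((W.smul_mem_iff (mul_ne_zero (inv_ne_zero hv) hc)).1 h1))
  have h1 := Submodule.finrank_lt_finrank_of_lt hlt
  have hle : W ⊓ LinearMap.ker (QuadraticMap.polarBilin Q v) ≤ W ⊓ image (refl Q v hv) W := by
    rintro x ⟨hx, hxv⟩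
    refine ⟨hx, (mem_image _).2 ⟨x, hx, ?_⟩⟩
    rw [act_refl, show QuadraticMap.polar ⇑Q v x = 0 from hxv, mul_zero, zero_smul, sub_zero]
  have h2 := Submodule.finrank_mono hle
  have h3 := Submodule.finrank_sup_add_finrank_inf_eq W (LinearMap.ker (QuadraticMap.polarBilin Q v))
  have h4 := LinearMap.finrank_range_add_finrank_ker (QuadraticMap.polarBilin Q v)
  have h5 : finrank F (LinearMap.range (QuadraticMap.polarBilin Q v)) ≤ 1 :=
    (Submodule.finrank_le _).trans_eq (Module.finrank_self F)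
  have h6 : finrank F ↥(W ⊔ LinearMap.ker (QuadraticMap.polarBilin Q v)) ≤ finrank F (ι → F) :=
    Submodule.finrank_le _
  omega

include hQ hV in
/-- A product of `k` reflections moves a maximal totally singular subspace within its family iff `k` is even. -/
theorem even_sub_finrank_iff {U : Submodule F (ι → F)} (hU : TotallySingular Q U) (hUm : finrank F U = m)
    (vs : List (ι → F)) (hvs : ∀ v ∈ vs, Q v ≠ 0) (g : ↥(isometryGroup F ⇑Q))
    (hg : ((g : Matrix.GeneralLinearGroup ι F) : Matrix ι ι F) = (vs.map fun v => reflectionMatrix ⇑Q v).prod) :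
    Even (m - finrank F ↥(U ⊓ image g U)) ↔ Even vs.length := by
  induction vs generalizing g with
  | nil =>
    obtain rfl : g = 1 := Subtype.ext (Units.ext hg)
    rw [image_one, inf_idem, hUm, Nat.sub_self]
    simp
  | cons v vs ih =>
    have hv := hvs v List.mem_cons_self
    obtain ⟨g', hg'⟩ := exists_prod_refl Q vs fun w hw => hvs w (List.mem_cons_of_mem _ hw)
    obtain rfl : g = refl Q v hv * g' := Subtype.ext (Units.ext (by
      rw [hg, List.map_cons, List.prod_cons, ← hg']; rfl))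
    have h0 := ih (fun w hw => hvs w (List.mem_cons_of_mem _ hw)) g' hg'
    rw [image_mul]
    set W := image g' U
    have hWs : TotallySingular Q W := totallySingular_image g' hU
    have hWm : finrank F W = m := (finrank_image g' U).trans hUm
    have h1 := finrank_inf_image_refl hQ hV hWs hWm v hv
    have h2 := finrank_inf_parity hQ hV hU hUm hWs hWm (totallySingular_image (refl Q v hv) hWs)
      ((finrank_image _ W).trans hWm)
    have h3 : finrank F ↥(U ⊓ W) ≤ m := (Submodule.finrank_mono inf_le_left).trans_eq hUm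
    have h4 : finrank F ↥(U ⊓ image (refl Q v hv) W) ≤ m := (Submodule.finrank_mono inf_le_left).trans_eq hUm
    rw [List.length_cons, Nat.even_iff, Nat.even_iff]
    rw [Nat.even_iff, Nat.even_iff] at h0
    omega

variable [Fintype F]

include hQ hV in
/-- Odd `q`: the stabiliser of a family is the determinant one subgroup. -/
theorem family_iff_det (h2 : (2 : F) ≠ 0) {U : Submodule F (ι → F)} (hU : TotallySingular Q U)
    (hUm : finrank F U = m) (g : ↥(isometryGroup F ⇑Q)) :
    Even (m - finrank F ↥(U ⊓ image g U)) ↔ ((g : Matrix.GeneralLinearGroup ι F) : Matrix ι ι F).det = 1 := by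
  classical
  have hF : Fintype.card F ≠ 2 := fun hc => h2 (by
    have : ((2 : ℕ) : F) = 0 := by rw [← hc, FiniteField.cast_card_eq_zero]
    exact_mod_cast this)
  have hchar : ringChar F ≠ 2 := fun hc => h2 (by
    have : CharP F 2 := ringChar.of_eq hc
    exact CharTwo.two_eq_zero)
  obtain ⟨vs, hvs, hg⟩ := exists_list hQ (Or.inl hF) g
  rw [(invariants_of_prod h2 vs hvs g hg).2,
    neg_one_pow_eq_one_iff_even (Ring.neg_one_ne_one_of_char_ne_two hchar)]
  exact even_sub_finrank_iff hQ hV hU hUm vs hvs g hg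

include hQ hV in
/-- Characteristic two: the stabiliser of a family is `Omega`. -/
theorem family_iff_omega [CharP F 2] (h : Fintype.card F ≠ 2 ∨ Fintype.card ι ≠ 4) {U : Submodule F (ι → F)}
    (hU : TotallySingular Q U) (hUm : finrank F U = m) (g : ↥(isometryGroup F ⇑Q)) :
    Even (m - finrank F ↥(U ⊓ image g U)) ↔ g ∈ Omega F ⇑Q := by
  obtain ⟨vs, hvs, hg⟩ := exists_list hQ h g
  rw [mem_omega_iff_even hQ h g vs hvs hg]
  exact even_sub_finrank_iff hQ hV hU hUm vs hvs g hg

end Parity

section Levi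

variable {F : Type*} [Field F] {m : ℕ}

theorem exists_levi : ∃ L : GL (Fin m) F →* ↥(isometryGroup F ⇑(plusForm F m)), ∀ A : GL (Fin m) F,
    ((L A : Matrix.GeneralLinearGroup (Fin m ⊕ Fin m) F) : Matrix (Fin m ⊕ Fin m) (Fin m ⊕ Fin m) F) =
      Matrix.fromBlocks (A : Matrix (Fin m) (Fin m) F) 0 0 ((A : Matrix (Fin m) (Fin m) F)⁻¹).transpose := by
  let M : GL (Fin m) F →* Matrix (Fin m ⊕ Fin m) (Fin m ⊕ Fin m) F :=
    { toFun := fun A => Matrix.fromBlocks (A : Matrix (Fin m) (Fin m) F) 0 0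
        ((A : Matrix (Fin m) (Fin m) F)⁻¹).transpose
      map_one' := by simp
      map_mul' := fun A B => by simp [Matrix.fromBlocks_multiply, Matrix.mul_inv_rev, Matrix.transpose_mul] }
  refine ⟨M.toHomUnits.codRestrict _ fun A u _ => ?_, fun A => rfl⟩
  show plusForm F m (M A *ᵥ u) = plusForm F m u
  simp only [plusForm_apply, M, MonoidHom.coe_mk, OneHom.coe_mk, Matrix.fromBlocks_mulVec, quadFormPlus,
    Sum.elim_inl, Sum.elim_inr, Matrix.zero_mulVec, add_zero, zero_add]
  show ((A : Matrix (Fin m) (Fin m) F) *ᵥ (u ∘ Sum.inl)) ⬝ᵥ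
    (((A : Matrix (Fin m) (Fin m) F)⁻¹)ᵀ *ᵥ (u ∘ Sum.inr)) = (u ∘ Sum.inl) ⬝ᵥ (u ∘ Sum.inr)
  rw [dotProduct_comm, Matrix.mulVec_transpose, ← Matrix.dotProduct_mulVec, Matrix.mulVec_mulVec,
    Matrix.nonsing_inv_mul _ ((Matrix.isUnit_iff_isUnit_det _).1 A.isUnit), Matrix.one_mulVec, dotProduct_comm]

/-- `A ↦ diag(A, A⁻ᵀ)`. -/
noncomputable def levi : GL (Fin m) F →* ↥(isometryGroup F ⇑(plusForm F m)) := exists_levi.choose

theorem coe_levi (A : GL (Fin m) F) :
    ((levi A : Matrix.GeneralLinearGroup (Fin m ⊕ Fin m) F) : Matrix (Fin m ⊕ Fin m) (Fin m ⊕ Fin m) F) =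
      Matrix.fromBlocks (A : Matrix (Fin m) (Fin m) F) 0 0 ((A : Matrix (Fin m) (Fin m) F)⁻¹).transpose :=
  exists_levi.choose_spec A

theorem act_levi_inl (A : GL (Fin m) F) (u : Fin m ⊕ Fin m → F) (i : Fin m) :
    act (plusForm F m) (levi A) u (.inl i) = ((A : Matrix (Fin m) (Fin m) F) *ᵥ (u ∘ Sum.inl)) i := by
  show (_ *ᵥ u) _ = _
  rw [coe_levi, Matrix.fromBlocks_mulVec]
  simp

theorem act_levi_inr (A : GL (Fin m) F) (u : Fin m ⊕ Fin m → F) (i : Fin m) :
    act (plusForm F m) (levi A) u (.inr i) = (((A : Matrix (Fin m) (Fin m) F)⁻¹)ᵀ *ᵥ (u ∘ Sum.inr)) i := by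
  show (_ *ᵥ u) _ = _
  rw [coe_levi, Matrix.fromBlocks_mulVec]
  simp

variable (F m) in
/-- The subspace `y = 0`. -/
noncomputable def yZero : Submodule F (Fin m ⊕ Fin m → F) :=
  LinearMap.ker (LinearMap.funLeft F F (Sum.inr : Fin m → Fin m ⊕ Fin m))

theorem mem_yZero {v : Fin m ⊕ Fin m → F} : v ∈ yZero F m ↔ ∀ i, v (.inr i) = 0 :=
  LinearMap.mem_ker.trans funext_iff

theorem totallySingular_yZero : TotallySingular (plusForm F m) (yZero F m) := by
  intro v hv
  rw [plusForm_apply]
  exact Finset.sum_eq_zero fun i _ => by rw [mem_yZero.1 hv i, mul_zero]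

theorem finrank_yZero : finrank F (yZero F m) = m := by
  have h := LinearMap.finrank_range_add_finrank_ker (LinearMap.funLeft F F (Sum.inr : Fin m → Fin m ⊕ Fin m))
  rw [LinearMap.range_eq_top.2 (LinearMap.funLeft_surjective_of_injective F F Sum.inr Sum.inr_injective),
    finrank_top, Module.finrank_fin_fun, finrank_plus] at h
  rw [yZero]
  omega

theorem act_levi_mem_yZero (A : GL (Fin m) F) {v : Fin m ⊕ Fin m → F} (hv : v ∈ yZero F m) :
    act (plusForm F m) (levi A) v ∈ yZero F m := by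
  refine mem_yZero.2 fun i => ?_
  rw [act_levi_inr, show v ∘ Sum.inr = 0 from funext (mem_yZero.1 hv), Matrix.mulVec_zero]
  rfl

/-- A diagonal element with one entry `c` is a product of two reflections, of norms `1` and `c`. -/
theorem levi_mulSingle (i₀ : Fin m) (c : Fˣ) :
    ∃ v w : Fin m ⊕ Fin m → F, ∃ (hv : plusForm F m v ≠ 0) (hw : plusForm F m w ≠ 0),
      plusForm F m v = 1 ∧ plusForm F m w = c ∧
      levi (GL.diagHom (Pi.mulSingle i₀ c)) = refl (plusForm F m) v hv * refl (plusForm F m) w hw := by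
  classical
  let V : F → (Fin m ⊕ Fin m → F) := fun d => Sum.elim (Pi.single i₀ 1) (Pi.single i₀ d)
  have hV : ∀ d, plusForm F m (V d) = d := fun d => by
    rw [plusForm_apply, quadFormPlus, Finset.sum_eq_single i₀ (fun j _ hj => by simp [V, hj]) (by simp)]
    simp [V]
  have hp : ∀ (d : F) (x : Fin m ⊕ Fin m → F),
      QuadraticMap.polar ⇑(plusForm F m) (V d) x = x (.inr i₀) + d * x (.inl i₀) := fun d x => by
    rw [coe_plusForm, polar_plus, Finset.sum_eq_single i₀ (fun j _ hj => by simp [V, hj]) (by simp)]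
    simp [V]
  have hinv : ((GL.diagHom (Pi.mulSingle i₀ c) : GL (Fin m) F) : Matrix (Fin m) (Fin m) F)⁻¹ =
      Matrix.diagonal fun j => ((Pi.mulSingle i₀ c⁻¹ : Fin m → Fˣ) j : F) := by
    rw [← Matrix.coe_units_inv, ← map_inv, ← Pi.mulSingle_inv, GL.coe_diagHom]
  refine ⟨V 1, V c, by simp [hV], by simp [hV], hV _, hV _, isometry_ext _ fun x => ?_⟩
  rw [act_mul, act_refl, act_refl, hV, hV]
  funext j
  rcases j with j | j
  · rw [act_levi_inl, GL.coe_diagHom, Matrix.mulVec_diagonal]
    by_cases hj : j = i₀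
    · subst hj
      simp [hp, V]
      field_simp
      ring
    · simp [hp, V, hj]
  · rw [act_levi_inr, hinv, Matrix.diagonal_transpose, Matrix.mulVec_diagonal]
    by_cases hj : j = i₀
    · subst hj
      simp [hp, V]
      field_simp
      ring
    · simp [hp, V, hj]

variable [Fintype F]

/-- `diag(A, A⁻ᵀ)` is in `Omega` iff `det A` is a square. -/
theorem levi_mem_omega_iff (hm : 1 ≤ m) (h : Fintype.card F ≠ 2 ∨ m ≠ 2) (A : GL (Fin m) F) :
    levi A ∈ Omega F ⇑(plusForm F m) ↔ IsSquare (A : Matrix (Fin m) (Fin m) F).det := by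
  classical
  let i₀ : Fin m := ⟨0, hm⟩
  let c : Fˣ := Matrix.GeneralLinearGroup.det A
  let D : GL (Fin m) F := GL.diagHom (Pi.mulSingle i₀ c)
  have hker : A * D⁻¹ ∈ commutator (GL (Fin m) F) := by
    rw [GL.GL_commutator_eq_det_ker (fun h2m => ?_), MonoidHom.mem_ker, map_mul, map_inv, GL.det_diagHom,
      Fintype.prod_pi_mulSingle', mul_inv_cancel]
    rw [Fintype.card_fin] at h2m
    have hF : Fintype.card F ≠ 2 := h.resolve_right (not_not.2 h2m)
    by_contra! hno
    apply hF
    have hle : (Finset.univ : Finset F) ⊆ {0, 1} := fun t _ => by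
      by_cases ht : t = 0
      · simp [ht]
      · simp [hno t ht]
    have h2 := Finset.card_le_card hle
    rw [Finset.card_univ, Finset.card_pair (zero_ne_one' F)] at h2
    have := Fintype.one_lt_card (α := F)
    omega
  have hof := Abelianization.commutator_subset_ker (Abelianization.of.comp (levi (F := F) (m := m))) hker
  rw [MonoidHom.mem_ker, map_mul, map_inv, mul_inv_eq_one, MonoidHom.comp_apply, MonoidHom.comp_apply] at hof
  rw [mem_omega_iff_abelianization, hof, ← mem_omega_iff_abelianization]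
  obtain ⟨v, w, hv, hw, hQv, hQw, hD⟩ := levi_mulSingle i₀ c
  have hvs : ∀ x ∈ [v, w], plusForm F m x ≠ 0 := by simp [hv, hw]
  have hmat : ((levi D : Matrix.GeneralLinearGroup (Fin m ⊕ Fin m) F) :
      Matrix (Fin m ⊕ Fin m) (Fin m ⊕ Fin m) F) =
      ([v, w].map fun x => reflectionMatrix ⇑(plusForm F m) x).prod := by
    rw [hD, List.map_cons, List.map_cons, List.map_nil, List.prod_cons, List.prod_cons, List.prod_nil, mul_one]
    rfl
  by_cases h2 : (2 : F) = 0
  · have : CharP F 2 := CharTwo.of_one_ne_zero_of_two_eq_zero one_ne_zero h2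
    exact iff_of_true (mem_omega_of_even (plusForm_nondegenerate F m) _ _ hvs hmat ⟨1, rfl⟩)
      (FiniteField.isSquare_of_char_two (CharP.eq F (ringChar.charP F) inferInstance) _)
  · rw [mem_omega_iff_of_prod (plusForm_nondegenerate F m) h2 _ _ hvs hmat]
    simp [hQv, hQw, c]

/-- An isometry preserving the families may be moved into `Omega` by a Levi element. -/
theorem exists_levi_adjust (hm : 1 ≤ m) (h : Fintype.card F ≠ 2 ∨ m ≠ 2) {U : Submodule F (Fin m ⊕ Fin m → F)}
    (hU : TotallySingular (plusForm F m) U) (hUm : finrank F U = m)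
    (g₂ g₁ : ↥(isometryGroup F ⇑(plusForm F m))) (he : Even (m - finrank F ↥(U ⊓ image (g₂ * g₁) U))) :
    ∃ A : GL (Fin m) F, g₂ * levi A * g₁ ∈ Omega F ⇑(plusForm F m) := by
  classical
  have hh : Fintype.card F ≠ 2 ∨ Fintype.card (Fin m ⊕ Fin m) ≠ 4 := h.imp_right fun hne => by
    simp; omega
  have hQ := plusForm_nondegenerate F m
  by_cases h2 : (2 : F) = 0
  · have : CharP F 2 := CharTwo.of_one_ne_zero_of_two_eq_zero one_ne_zero h2
    refine ⟨1, ?_⟩
    rw [map_one, mul_one]
    exact (family_iff_omega hQ (finrank_plus F m) hh hU hUm _).1 he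
  · have hdet := (family_iff_det hQ (finrank_plus F m) h2 hU hUm _).1 he
    by_cases hmem : g₂ * g₁ ∈ Omega F ⇑(plusForm F m)
    · exact ⟨1, by rwa [map_one, mul_one]⟩
    have hchar : ringChar F ≠ 2 := fun hc => h2 (by
      have : CharP F 2 := ringChar.of_eq hc
      exact CharTwo.two_eq_zero)
    obtain ⟨c, hc⟩ := FiniteField.exists_nonsquare hchar
    have hc0 : c ≠ 0 := by rintro rfl; exact hc (IsSquare.zero)
    refine ⟨GL.diagHom (Pi.mulSingle ⟨0, hm⟩ (Units.mk0 c hc0)), ?_⟩
    obtain ⟨v, w, hv, hw, hQv, hQw, hD⟩ := levi_mulSingle ⟨0, hm⟩ (Units.mk0 c hc0)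
    rw [hD]
    rw [mem_omega_iff_invariants h2 hQ] at hmem ⊢
    have hs : sphereSign (plusForm F m) (refl _ v hv * refl _ w hw) = -1 := by
      refine Units.ext ?_
      rw [map_mul, Units.val_mul, sphereSign_refl _ h2, sphereSign_refl _ h2, hQv, hQw, Units.val_mk0,
        quadraticChar_neg_one_iff_not_isSquare.2 hc]
      simp
    have hs0 : sphereSign (plusForm F m) (g₂ * g₁) = -1 :=
      (Int.units_eq_one_or _).resolve_left fun h1 => hmem ⟨h1, hdet⟩
    refine ⟨?_, ?_⟩
    · rw [map_mul, map_mul, mul_right_comm, ← map_mul, hs0, hs]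
      rfl
    · rw [← hdet]
      show Matrix.det (_ * (_ * _) * _) = Matrix.det (_ * _)
      simp only [Matrix.det_mul]
      have hd : ∀ (x : Fin m ⊕ Fin m → F) (hx : plusForm F m x ≠ 0),
          ((refl (plusForm F m) x hx : Matrix.GeneralLinearGroup (Fin m ⊕ Fin m) F) :
            Matrix (Fin m ⊕ Fin m) (Fin m ⊕ Fin m) F).det = -1 := fun x hx => det_reflectionMatrix _ hx
      rw [hd v hv, hd w hw]
      ring

end Levi

end Cfsg.Agent.QForm
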