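/-
Consequences of the spinor norm criterion: `-1`, and products of sign changes on hyperbolic pairs.
-/
import Mathlib
import Cfsg.Agent.Lib.QForm.Spinor
import Cfsg.Agent.Lib.QForm.Diag
import Cfsg.Agent.Lib.QForm.Std
import Cfsg.Agent.Lib.Forms.Quad

set_option autoImplicit false

namespace Cfsg.Agent.QForm

open scoped Matrix

variable {F : Type*} [Field F] {ι : Type} [Fintype ι] [DecidableEq ι]

/-- Over odd `q` in even dimension, `-1` is in `Omega` iff the discriminant is a square. -/
theorem neg_one_mem_omega_iff [Fintype F] (h2 : (2 : F) ≠ 0) {Q : QuadraticForm F (ι → F)}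
    (hQ : (QuadraticMap.polarBilin Q).Nondegenerate) (he : Even (Fintype.card ι)) {κ : Type*} [Fintype κ]
    [DecidableEq κ] (b : Module.Basis κ F (ι → F)) :
    (∃ g : ↥(isometryGroup F ⇑Q), g ∈ Omega F ⇑Q ∧ ((g : Matrix.GeneralLinearGroup ι F) : Matrix ι ι F) = -1) ↔
      IsSquare (gram ⇑Q ⇑b).det := by
  classical
  obtain ⟨n, hn, w, e, hw, hew⟩ : ∃ n, n = Module.finrank F (ι → F) ∧ ∃ (w : Fin n → F)
      (e : (ι → F) ≃ₗ[F] (Fin n → F)), (∀ i, w i ≠ 0) ∧ ∀ v, diagFn w (e v) = Q v :=
    ⟨_, rfl, exists_diagonalise h2 hQ⟩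
  have hne : Even n := by rwa [hn, Module.finrank_fintype_fun_eq_card]
  let v : Fin n → (ι → F) := fun i => e.symm (Pi.single i 1)
  have hQv : ∀ i, Q (v i) = w i := by
    intro i
    rw [← hew, LinearEquiv.apply_symm_apply]
    simp [diagFn, Pi.single_apply]
  have hpol : ∀ i x, QuadraticMap.polar ⇑Q (v i) x = 2 * w i * e x i := by
    intro i x
    have hd : ∀ y z : Fin n → F, diagFn w (y + z) - diagFn w y - diagFn w z = ∑ j, y j * (2 * w j * z j) := by
      intro y z
      simp only [diagFn, ← Finset.sum_sub_distrib, Pi.add_apply]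
      exact Finset.sum_congr rfl fun j _ => by ring
    simp only [QuadraticMap.polar, ← hew, map_add, v, LinearEquiv.apply_symm_apply, hd]
    simp [Pi.single_apply]
  set vs := (List.finRange n).map v with hvs
  have hvs0 : ∀ x ∈ vs, Q x ≠ 0 := by
    intro x hx
    simp only [hvs, List.mem_map] at hx
    obtain ⟨i, -, rfl⟩ := hx
    rw [hQv]; exact hw i
  have key : ∀ (l : List (Fin n)), l.Nodup → ∀ x j,
      e (((l.map v).map fun u => reflectionMatrix ⇑Q u).prod *ᵥ x) j = if j ∈ l then -e x j else e x j := by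
    intro l
    induction l with
    | nil => intro _ x j; simp
    | cons i l ih =>
      intro hnd x j
      rw [List.nodup_cons] at hnd
      rw [List.map_cons, List.map_cons, List.prod_cons, ← Matrix.mulVec_mulVec, reflectionMatrix_mulVec, hQv,
        hpol, ih hnd.2 x i, if_neg hnd.1, map_sub, map_smul, LinearEquiv.apply_symm_apply, Pi.sub_apply,
        Pi.smul_apply, ih hnd.2 x j, smul_eq_mul]
      by_cases hji : j = i
      · subst hji
        rw [if_neg hnd.1, if_pos List.mem_cons_self, Pi.single_eq_same]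
        field_simp [hw j]
        ring
      · rw [Pi.single_eq_of_ne hji, mul_zero, sub_zero]
        simp [hji]
  obtain ⟨g, hg⟩ := exists_prod_refl Q vs hvs0
  have hg1 : ((g : Matrix.GeneralLinearGroup ι F) : Matrix ι ι F) = -1 := by
    refine Matrix.ext_iff_mulVec.2 fun x => e.injective (funext fun j => ?_)
    rw [hg, hvs, key _ (List.nodup_finRange n), if_pos (List.mem_finRange j), Matrix.neg_mulVec,
      Matrix.one_mulVec, map_neg]
    rfl
  have hprod : (vs.map fun u => Q u).prod = ∏ i, w i := by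
    rw [hvs, List.map_map, Fin.prod_univ_def]
    exact congrArg List.prod (List.map_congr_left fun i _ => hQv i)
  have hlen : vs.length = n := by simp [hvs]
  obtain ⟨u, hu0, hu⟩ := det_gram_of_diag Q w e b hew
  have hsq : IsSquare (gram ⇑Q ⇑b).det ↔ IsSquare (∏ i, w i) := by
    obtain ⟨k, rfl⟩ := hne
    have hu' : (gram ⇑Q ⇑b).det = (u * 2 ^ k) * (u * 2 ^ k) * ∏ i, w i := by
      rw [hu]; ring
    rw [hu']
    constructor
    · rintro ⟨r, hr⟩
      exact ⟨r / (u * 2 ^ k), by field_simp; linear_combination hr⟩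
    · rintro ⟨r, hr⟩
      exact ⟨u * 2 ^ k * r, by rw [hr]; ring⟩
  rw [hsq, ← hprod]
  constructor
  · rintro ⟨g', hg', hg'1⟩
    obtain rfl : g' = g := Subtype.ext (Units.ext (hg'1.trans hg1.symm))
    exact ((mem_omega_iff_of_prod hQ h2 g' vs hvs0 hg).1 hg').2
  · intro h
    exact ⟨g, (mem_omega_iff_of_prod hQ h2 g vs hvs0 hg).2 ⟨hlen ▸ hne, h⟩, hg1⟩

/-- The isometry negating finitely many orthogonal hyperbolic pairs lies in `Omega` iff `(-1)^i` is a square. -/
theorem neg_pairs_mem_omega_iff [Fintype F] (h2 : (2 : F) ≠ 0) {Q : QuadraticForm F (ι → F)}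
    (hQ : (QuadraticMap.polarBilin Q).Nondegenerate) {k : ℕ} (e f : Fin k → ι → F)
    (he : ∀ j, Q (e j) = 0) (hf : ∀ j, Q (f j) = 0)
    (hef : ∀ j l, QuadraticMap.polar ⇑Q (e j) (f l) = if j = l then 1 else 0)
    (hee : ∀ j l, QuadraticMap.polar ⇑Q (e j) (e l) = 0) (hff : ∀ j l, QuadraticMap.polar ⇑Q (f j) (f l) = 0)
    (M : Matrix ι ι F)
    (hM : ∀ x, M *ᵥ x = x - (2 : F) • ∑ j, (QuadraticMap.polar ⇑Q (f j) x • e j + QuadraticMap.polar ⇑Q (e j) x • f j)) :
    (∃ g : ↥(isometryGroup F ⇑Q), g ∈ Omega F ⇑Q ∧ ((g : Matrix.GeneralLinearGroup ι F) : Matrix ι ι F) = M) ↔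
      IsSquare ((-1 : F) ^ k) := by
  classical
  have hp : ∀ j, Q (e j + f j) = 1 := fun j => by
    rw [Forms.quadratic_map_add, QuadraticMap.polarBilin_apply_apply, he, hf, hef, if_pos rfl]; ring
  have hm : ∀ j, Q (e j - f j) = -1 := fun j => by
    rw [sub_eq_add_neg, Forms.quadratic_map_add, QuadraticMap.map_neg, map_neg,
      QuadraticMap.polarBilin_apply_apply, he, hf, hef, if_pos rfl]; ring
  have step : ∀ j x, reflectionMatrix ⇑Q (e j + f j) *ᵥ (reflectionMatrix ⇑Q (e j - f j) *ᵥ x) =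
      x - (2 : F) • (QuadraticMap.polar ⇑Q (f j) x • e j + QuadraticMap.polar ⇑Q (e j) x • f j) := by
    intro j x
    have hfe : QuadraticMap.polar ⇑Q (f j) (e j) = 1 := by rw [QuadraticMap.polar_comm, hef, if_pos rfl]
    rw [reflectionMatrix_mulVec, reflectionMatrix_mulVec, hp, hm, QuadraticMap.polar_sub_left,
      ← QuadraticMap.polarBilin_apply_apply _ (e j + f j)]
    simp only [map_sub, map_smul, map_add, LinearMap.add_apply, smul_eq_mul,
      QuadraticMap.polarBilin_apply_apply, hfe, hef j j, hee, hff, if_true]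
    module
  let pairs : List (Fin k) → List (ι → F) := fun l => l.flatMap fun j => [e j + f j, e j - f j]
  have key : ∀ l : List (Fin k), l.Nodup → ∀ x,
      ((pairs l).map fun u => reflectionMatrix ⇑Q u).prod *ᵥ x =
        x - (2 : F) • (l.map fun j => QuadraticMap.polar ⇑Q (f j) x • e j + QuadraticMap.polar ⇑Q (e j) x • f j).sum := by
    intro l
    induction l with
    | nil => intro _ x; simp [pairs]
    | cons i l ih =>
      intro hnd x
      rw [List.nodup_cons] at hnd
      have hperp : ∀ (l' : List (Fin k)), i ∉ l' → ∀ z ∈ ({e i, f i} : Set (ι → F)),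
          QuadraticMap.polarBilin Q z
            (l'.map fun j => QuadraticMap.polar ⇑Q (f j) x • e j + QuadraticMap.polar ⇑Q (e j) x • f j).sum = 0 := by
        intro l' hl' z hz
        induction l' with
        | nil => simp
        | cons a l' ih' =>
          simp only [List.mem_cons, not_or] at hl'
          rw [List.map_cons, List.sum_cons, map_add, ih' hl'.2]
          rcases hz with rfl | rfl
          · simp [hee, hef, hl'.1]
          · simp [hff, QuadraticMap.polar_comm ⇑Q (f i) (e a), hef, Ne.symm hl'.1]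
      simp only [pairs, List.flatMap_cons, List.map_append, List.prod_append, List.map_cons, List.map_nil,
        List.prod_cons, List.prod_nil, mul_one, ← Matrix.mulVec_mulVec]
      rw [show (List.flatMap (fun j => [e j + f j, e j - f j]) l) = pairs l from rfl, ih hnd.2, step]
      have hsame : ∀ z ∈ ({e i, f i} : Set (ι → F)), QuadraticMap.polar ⇑Q z (x - (2 : F) •
          (l.map fun j => QuadraticMap.polar ⇑Q (f j) x • e j + QuadraticMap.polar ⇑Q (e j) x • f j).sum) =
          QuadraticMap.polar ⇑Q z x := fun z hz => by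
        rw [← QuadraticMap.polarBilin_apply_apply, map_sub, map_smul, hperp l hnd.1 z hz, smul_zero, sub_zero,
          QuadraticMap.polarBilin_apply_apply]
      rw [hsame (e i) (by simp), hsame (f i) (by simp), List.sum_cons]
      module
  set vs := pairs (List.finRange k) with hvs
  have hvs0 : ∀ x ∈ vs, Q x ≠ 0 := by
    intro x hx
    simp only [hvs, pairs, List.mem_flatMap, List.mem_cons, List.not_mem_nil, or_false] at hx
    obtain ⟨j, -, rfl | rfl⟩ := hx
    · rw [hp]; exact one_ne_zero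
    · rw [hm]; exact neg_ne_zero.2 one_ne_zero
  have hlist : ∀ l : List (Fin k), Even (pairs l).length ∧ ((pairs l).map fun u => Q u).prod = (-1) ^ l.length := by
    intro l
    induction l with
    | nil => simp [pairs]
    | cons i l ih =>
      obtain ⟨h1, h2'⟩ := ih
      simp only [pairs, List.flatMap_cons, List.map_append, List.prod_append, List.map_cons, List.map_nil,
        List.prod_cons, List.prod_nil, mul_one, List.length_append, List.length_cons, List.length_nil, hp, hm] at h1 h2' ⊢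
      exact ⟨Even.add (by decide) h1, by rw [h2', pow_succ']; ring⟩
  obtain ⟨g, hg⟩ := exists_prod_refl Q vs hvs0
  have hgM : ((g : Matrix.GeneralLinearGroup ι F) : Matrix ι ι F) = M := by
    refine Matrix.ext_iff_mulVec.2 fun x => ?_
    rw [hg, hvs, key _ (List.nodup_finRange k), hM, Fin.sum_univ_def]
  have hh := hlist (List.finRange k)
  rw [List.length_finRange] at hh
  rw [← hh.2]
  constructor
  · rintro ⟨g', hg', hg'1⟩
    obtain rfl : g' = g := Subtype.ext (Units.ext (hg'1.trans hgM.symm))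
    exact ((mem_omega_iff_of_prod hQ h2 g' vs hvs0 hg).1 hg').2
  · intro h
    exact ⟨g, (mem_omega_iff_of_prod hQ h2 g vs hvs0 hg).2 ⟨hh.1, h⟩, hgM⟩

theorem pow_mod_four_eq_one_iff {q : ℕ} (hq : Odd q) (i : ℕ) : q ^ i % 4 = 1 ↔ Even (i * (q - 1) / 2) := by
  obtain ⟨k, rfl⟩ := hq
  have h2 : i * (2 * k + 1 - 1) / 2 = i * k := by
    rw [Nat.add_sub_cancel, mul_comm i, mul_assoc, Nat.mul_div_cancel_left _ (by norm_num), mul_comm]
  rw [h2, Nat.even_mul, Nat.pow_mod]
  rcases Nat.even_or_odd k with hk | hk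
  · obtain ⟨c, rfl⟩ := hk
    rw [show (2 * (c + c) + 1) % 4 = 1 by omega, one_pow]
    exact iff_of_true rfl (Or.inr ⟨c, rfl⟩)
  · obtain ⟨c, rfl⟩ := hk
    rw [show (2 * (2 * c + 1) + 1) % 4 = 3 by omega, or_iff_left (Nat.not_even_iff_odd.2 ⟨c, rfl⟩)]
    rcases Nat.even_or_odd i with ⟨d, rfl⟩ | ⟨d, rfl⟩
    · rw [← two_mul, pow_mul, Nat.pow_mod, show 3 ^ 2 % 4 = 1 from rfl, one_pow]; simp
    · rw [pow_succ, pow_mul, Nat.mul_mod, Nat.pow_mod, show 3 ^ 2 % 4 = 1 from rfl, one_pow]
      simp [Nat.even_add_one]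

theorem pow_mod_four_eq_three_iff {q : ℕ} (hq : Odd q) (i : ℕ) : q ^ i % 4 = 3 ↔ ¬Even (i * (q - 1) / 2) := by
  rw [← pow_mod_four_eq_one_iff hq]
  obtain ⟨c, hc⟩ := hq.pow (n := i)
  omega

end Cfsg.Agent.QForm
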