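/-
Finite field of odd order, non-degenerate polar form: every value is represented on a non-degenerate
subspace of dimension at least two, reflections generate the isometry group, and the reflections of one
norm class generate a subgroup of index two (dimension at least two, `(n, q) ≠ (4, 3)`, `(3, q)` excluded).
-/
import Mathlib
import Cfsg.Prelude.Def_ClassicalGeometry
import Cfsg.Agent.Lib.QForm.Spinor

set_option autoImplicit false

namespace Cfsg.Agent.QForm

open LinearMap (BilinForm)
open Module (finrank)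
open scoped Matrix

variable {F : Type*} [Field F] {ι : Type} [Fintype ι] [DecidableEq ι] (Q : QuadraticForm F (ι → F))

/-- The polar form as a bilinear form. -/
abbrev pB : BilinForm F (ι → F) := QuadraticMap.polarBilin Q

theorem pB_isRefl : (pB Q).IsRefl := fun x y h => (QuadraticMap.polar_comm Q y x).trans h

theorem pB_self (x : ι → F) : pB Q x x = 2 * Q x := Forms.polarBilin_self x

theorem ne_zero_of_norm {v : ι → F} (hv : Q v ≠ 0) : v ≠ 0 := fun h => hv (by rw [h, QuadraticMap.map_zero])

/-- A non-zero subspace meeting its orthogonal trivially has an anisotropic vector. -/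
theorem exists_anisotropic (h2 : (2 : F) ≠ 0) {U : Submodule F (ι → F)}
    (hU : U ⊓ (pB Q).orthogonal U = ⊥) (h0 : U ≠ ⊥) : ∃ v ∈ U, Q v ≠ 0 := by
  by_contra hne
  push Not at hne
  refine h0 (eq_bot_iff.2 fun x hx => ?_)
  rw [← hU]
  refine ⟨hx, fun n hn => ?_⟩
  have := Forms.quadratic_map_add (Q := Q) n x
  rw [hne _ (add_mem hn hx), hne n hn, hne x hx, zero_add, zero_add] at this
  exact this.symm

/-- The part of `U` orthogonal to an anisotropic vector of `U`. -/
theorem perp_in {U : Submodule F (ι → F)} (hU : U ⊓ (pB Q).orthogonal U = ⊥) (h2 : (2 : F) ≠ 0)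
    {v : ι → F} (hvU : v ∈ U) (hv : Q v ≠ 0) :
    (U ⊓ (pB Q).orthogonal (F ∙ v)) ⊓ (pB Q).orthogonal (U ⊓ (pB Q).orthogonal (F ∙ v)) = ⊥ ∧
    finrank F U ≤ finrank F ↥(U ⊓ (pB Q).orthogonal (F ∙ v)) + 1 := by
  have hvv : pB Q v v ≠ 0 := by rw [pB_self]; exact mul_ne_zero h2 hv
  have hdec : ∀ y ∈ U, y - (pB Q v y / pB Q v v) • v ∈ U ⊓ (pB Q).orthogonal (F ∙ v) := by
    intro y hy
    refine ⟨sub_mem hy (Submodule.smul_mem _ _ hvU), fun n hn => ?_⟩
    obtain ⟨t, rfl⟩ := Submodule.mem_span_singleton.1 hn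
    show pB Q (t • v) _ = 0
    rw [LinearMap.map_smul₂, map_sub, map_smul, smul_eq_mul, smul_eq_mul, div_mul_cancel₀ _ hvv,
      sub_self, mul_zero]
  constructor
  · refine eq_bot_iff.2 fun x hx => ?_
    rw [← hU]
    refine ⟨hx.1.1, fun y hy => ?_⟩
    have h1 : pB Q v x = 0 := hx.1.2 v (Submodule.mem_span_singleton_self v)
    have h3 : pB Q (y - (pB Q v y / pB Q v v) • v) x = 0 := hx.2 _ (hdec y hy)
    rw [LinearMap.map_sub₂, LinearMap.map_smul₂, h1, smul_zero, sub_zero] at h3
    exact h3
  · have hle : U ≤ (U ⊓ (pB Q).orthogonal (F ∙ v)) ⊔ F ∙ v := fun y hy =>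
      Submodule.mem_sup.2 ⟨_, hdec y hy, _, Submodule.smul_mem _ _ (Submodule.mem_span_singleton_self v),
        sub_add_cancel _ _⟩
    have h1 := Submodule.finrank_mono hle
    have h3 := Submodule.finrank_sup_add_finrank_inf_eq (U ⊓ (pB Q).orthogonal (F ∙ v)) (F ∙ v)
    have h4 : finrank F (F ∙ v) = 1 := finrank_span_singleton (ne_zero_of_norm Q hv)
    omega

/-- Non-degenerate subspaces of dimension at least two represent every value. -/
theorem exists_norm_eq [Finite F] (h2 : (2 : F) ≠ 0) {U : Submodule F (ι → F)}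
    (hU : U ⊓ (pB Q).orthogonal U = ⊥) (hdim : 2 ≤ finrank F U) (a : F) :
    ∃ x ∈ U, Q x = a := by
  obtain ⟨v, hvU, hv⟩ := exists_anisotropic Q h2 hU fun h => by rw [h, finrank_bot] at hdim; omega
  obtain ⟨h', hrank⟩ := perp_in Q hU h2 hvU hv
  obtain ⟨w, ⟨hwU, hwv⟩, hw⟩ := exists_anisotropic Q h2 h' fun h => by rw [h, finrank_bot] at hrank; omega
  haveI := Fintype.ofFinite F
  have hchar : ringChar F ≠ 2 := fun h => h2 (by
    have := ringChar.Nat.cast_ringChar (R := F); rw [h] at this; exact_mod_cast this)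
  obtain ⟨α, β, h⟩ := FiniteField.exists_root_sum_quadratic
    (f := Polynomial.C (Q v) * Polynomial.X ^ 2)
    (g := Polynomial.C (Q w) * Polynomial.X ^ 2 - Polynomial.C a)
    (Polynomial.degree_C_mul_X_pow 2 hv)
    (by rw [Polynomial.degree_sub_C (by rw [Polynomial.degree_C_mul_X_pow 2 hw]; norm_num), Polynomial.degree_C_mul_X_pow 2 hw]; rfl)
    (FiniteField.odd_card_of_char_ne_two hchar)
  refine ⟨α • v + β • w, add_mem (Submodule.smul_mem _ _ hvU) (Submodule.smul_mem _ _ hwU), ?_⟩
  have hvw : pB Q v w = 0 := hwv v (Submodule.mem_span_singleton_self v)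
  rw [Forms.quadratic_map_add, QuadraticMap.map_smul, QuadraticMap.map_smul, LinearMap.map_smul₂,
    map_smul, hvw, smul_zero, smul_zero, add_zero, smul_eq_mul, smul_eq_mul]
  simp at h
  linear_combination h

theorem inf_orthogonal_top {Q : QuadraticForm F (ι → F)} (hQ : (QuadraticMap.polarBilin Q).Nondegenerate) :
    (⊤ : Submodule F (ι → F)) ⊓ (pB Q).orthogonal ⊤ = ⊥ := by
  rw [BilinForm.orthogonal_top_eq_bot hQ, inf_bot_eq]

theorem inf_orthogonal_orth {Q : QuadraticForm F (ι → F)} (hQ : (QuadraticMap.polarBilin Q).Nondegenerate)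
    {W : Submodule F (ι → F)} (hW : W ⊓ (pB Q).orthogonal W = ⊥) :
    (pB Q).orthogonal W ⊓ (pB Q).orthogonal ((pB Q).orthogonal W) = ⊥ := by
  rw [BilinForm.orthogonal_orthogonal hQ (pB_isRefl Q), inf_comm, hW]

/-- Every non-zero value is represented in dimension at least two. -/
theorem exists_norm_eq_top [Finite F] {Q : QuadraticForm F (ι → F)}
    (hQ : (QuadraticMap.polarBilin Q).Nondegenerate) (h2 : (2 : F) ≠ 0) (hn : 2 ≤ Fintype.card ι) (a : F) :
    ∃ x, Q x = a := by
  obtain ⟨x, -, hx⟩ := exists_norm_eq Q h2 (inf_orthogonal_top hQ) (by simpa using hn) a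
  exact ⟨x, hx⟩

/-- The subgroup generated by all reflections is everything. -/
theorem closure_refl_eq_top {Q : QuadraticForm F (ι → F)}
    (hQ : (QuadraticMap.polarBilin Q).Nondegenerate) (h2 : (2 : F) ≠ 0) :
    Subgroup.closure {g : ↥(isometryGroup F ⇑Q) | ∃ v, ∃ hv : Q v ≠ 0, g = refl Q v hv} = ⊤ := by
  set R := Subgroup.closure {g : ↥(isometryGroup F ⇑Q) | ∃ v, ∃ hv : Q v ≠ 0, g = refl Q v hv}
  have hR : ∀ v (hv : Q v ≠ 0), refl Q v hv ∈ R := fun v hv => Subgroup.subset_closure ⟨v, hv, rfl⟩
  suffices H : ∀ k, ∀ U : Submodule F (ι → F), finrank F U = k → U ⊓ (pB Q).orthogonal U = ⊥ →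
      ∀ g : ↥(isometryGroup F ⇑Q), (∀ x ∈ (pB Q).orthogonal U, act Q g x = x) → g ∈ R by
    refine eq_top_iff.2 fun g _ => H _ ⊤ rfl (inf_orthogonal_top hQ) g fun x hx => ?_
    rw [BilinForm.orthogonal_top_eq_bot hQ, Submodule.mem_bot] at hx
    rw [hx]; exact Matrix.mulVec_zero _
  intro k
  induction k using Nat.strong_induction_on with
  | _ k ih =>
    intro U hk hU g hfix
    rcases eq_or_ne U ⊥ with rfl | hne
    · have : g = 1 := isometry_ext Q fun x => by
        rw [act_one]; exact hfix x (by rw [BilinForm.orthogonal_bot]; trivial)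
      rw [this]; exact one_mem R
    · obtain ⟨v, hvU, hv⟩ := exists_anisotropic Q h2 hU hne
      obtain ⟨h', -⟩ := perp_in Q hU h2 hvU hv
      have hlt : U ⊓ (pB Q).orthogonal (F ∙ v) < U := lt_of_le_of_ne inf_le_left fun h => by
        have : v ∈ U ⊓ (pB Q).orthogonal (F ∙ v) := h.symm ▸ hvU
        have h0 : pB Q v v = 0 := this.2 v (Submodule.mem_span_singleton_self v)
        rw [pB_self] at h0
        exact mul_ne_zero h2 hv h0
      have hlt' := Submodule.finrank_lt_finrank_of_lt hlt
      -- anything fixing `U^⊥` and `v` is handled by induction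
      have hstep : ∀ h : ↥(isometryGroup F ⇑Q), (∀ x ∈ (pB Q).orthogonal U, act Q h x = x) →
          act Q h v = v → h ∈ R := by
        intro h hh hhv
        refine ih _ (hk ▸ hlt') _ rfl h' h fun x hx => ?_
        -- decompose `x = (x - c v) + c v` with the first summand orthogonal to `U`
        have hvv : pB Q v v ≠ 0 := by rw [pB_self]; exact mul_ne_zero h2 hv
        set c := pB Q v x / pB Q v v
        have hx' : x - c • v ∈ (pB Q).orthogonal U := by
          intro y hy
          show pB Q y (x - c • v) = 0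
          have hy' : y - (pB Q v y / pB Q v v) • v ∈ U ⊓ (pB Q).orthogonal (F ∙ v) := by
            refine ⟨sub_mem hy (Submodule.smul_mem _ _ hvU), fun n hn => ?_⟩
            obtain ⟨t, rfl⟩ := Submodule.mem_span_singleton.1 hn
            show pB Q (t • v) _ = 0
            rw [LinearMap.map_smul₂, map_sub, map_smul, smul_eq_mul, smul_eq_mul,
              div_mul_cancel₀ _ hvv, sub_self, mul_zero]
          have h3 : pB Q (y - (pB Q v y / pB Q v v) • v) x = 0 := hx _ hy'
          have h4 : pB Q y v = pB Q v y := QuadraticMap.polar_comm Q y v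
          rw [LinearMap.map_sub₂, LinearMap.map_smul₂, smul_eq_mul, sub_eq_zero] at h3
          rw [map_sub, map_smul, smul_eq_mul, h3, h4]
          simp only [c]; ring
        have := hh _ hx'
        rw [act, Matrix.mulVec_sub, Matrix.mulVec_smul] at this
        rw [show ((h : Matrix.GeneralLinearGroup ι F) : Matrix ι ι F) *ᵥ v = v from hhv] at this
        exact sub_left_inj.1 this
      set x := act Q g v
      have hperp : ∀ y ∈ (pB Q).orthogonal U, pB Q x y = 0 ∧ pB Q v y = 0 := by
        intro y hy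
        have h0 : pB Q v y = 0 := hy v hvU
        refine ⟨?_, h0⟩
        show QuadraticMap.polar (⇑Q) x y = 0
        rw [← hfix y hy, act_polar]; exact h0
      have hx : Q x = Q v := act_map Q g v
      have hrfix : ∀ (a : ι → F) (ha : Q a ≠ 0), (∀ y ∈ (pB Q).orthogonal U, pB Q a y = 0) →
          ∀ y ∈ (pB Q).orthogonal U, act Q (refl Q a ha) y = y := by
        intro a ha hay y hy
        rw [act_refl, show QuadraticMap.polar (⇑Q) a y = 0 from hay y hy, mul_zero, zero_smul, sub_zero]
      have hsum : Q (x - v) + Q (x + v) = 4 * Q v := by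
        rw [sub_eq_add_neg, Forms.quadratic_map_add, Forms.quadratic_map_add, QuadraticMap.map_neg, hx,
          map_neg]
        ring
      have hdiff : Q (x - v) = 2 * Q v - QuadraticMap.polar (⇑Q) v x := by
        rw [sub_eq_add_neg, Forms.quadratic_map_add, QuadraticMap.map_neg, hx, map_neg]
        show _ + -QuadraticMap.polar (⇑Q) x v = _
        rw [QuadraticMap.polar_comm]; ring
      have hadd : Q (x + v) = 2 * Q v + QuadraticMap.polar (⇑Q) v x := by
        rw [Forms.quadratic_map_add, hx]
        show _ + QuadraticMap.polar (⇑Q) x v = _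
        rw [QuadraticMap.polar_comm]; ring
      by_cases ha : Q (x - v) = 0
      · have hb : Q (x + v) ≠ 0 := fun hb => by
          rw [ha, hb, add_zero] at hsum
          exact mul_ne_zero (show (4 : F) ≠ 0 by
            rw [show (4 : F) = 2 * 2 by norm_num]; exact mul_ne_zero h2 h2) hv hsum.symm
        have hpb : ∀ y ∈ (pB Q).orthogonal U, pB Q (x + v) y = 0 := fun y hy => by
          rw [LinearMap.map_add₂, (hperp y hy).1, (hperp y hy).2, add_zero]
        have hbx : act Q (refl Q (x + v) hb) x = -v := by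
          rw [act_refl, QuadraticMap.polar_add_left, QuadraticMap.polar_self, nsmul_eq_mul, hx]
          rw [show ((2 : ℕ) : F) * Q v + QuadraticMap.polar (⇑Q) v x = Q (x + v) by rw [hadd]; push_cast; ring,
            inv_mul_cancel₀ hb, one_smul]
          abel
        have hvn : act Q (refl Q v hv) (-v) = v := by
          rw [act_refl, QuadraticMap.polar_neg_right, QuadraticMap.polar_self, nsmul_eq_mul]
          match_scalars
          field_simp
          push_cast
          ring
        have h := hstep (refl Q v hv * refl Q (x + v) hb * g) (fun y hy => by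
          rw [act_mul, act_mul, hfix y hy, hrfix _ hb hpb y hy,
            hrfix _ hv (fun y hy => (hperp y hy).2) y hy]) (by rw [act_mul, act_mul]; rw [hbx, hvn])
        exact (R.mul_mem_cancel_left (mul_mem (hR _ hv) (hR _ hb))).1 h
      · have hpa : ∀ y ∈ (pB Q).orthogonal U, pB Q (x - v) y = 0 := fun y hy => by
          rw [LinearMap.map_sub₂, (hperp y hy).1, (hperp y hy).2, sub_zero]
        have hax : act Q (refl Q (x - v) ha) x = v := by
          rw [act_refl, QuadraticMap.polar_sub_left, QuadraticMap.polar_self, nsmul_eq_mul, hx]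
          rw [show ((2 : ℕ) : F) * Q v - QuadraticMap.polar (⇑Q) v x = Q (x - v) by rw [hdiff]; push_cast; ring,
            inv_mul_cancel₀ ha, one_smul]
          abel
        have h := hstep (refl Q (x - v) ha * g) (fun y hy => by
          rw [act_mul, hfix y hy, hrfix _ ha hpa y hy]) (by rw [act_mul]; exact hax)
        exact (R.mul_mem_cancel_left (hR _ ha)).1 h

/-- Two homomorphisms agreeing on reflections are equal. -/
theorem hom_ext_refl {Q : QuadraticForm F (ι → F)} (hQ : (QuadraticMap.polarBilin Q).Nondegenerate)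
    (h2 : (2 : F) ≠ 0) {A : Type*} [Group A] {χ ψ : ↥(isometryGroup F ⇑Q) →* A}
    (h : ∀ v hv, χ (refl Q v hv) = ψ (refl Q v hv)) : χ = ψ :=
  MonoidHom.eq_of_eqOn_dense (closure_refl_eq_top hQ h2) (by rintro _ ⟨v, hv, rfl⟩; exact h v hv)

section Characters

variable [Fintype F] [DecidableEq F]

omit [Fintype F] [DecidableEq F] in
/-- Scaling the form does not change the group. -/
theorem exists_smul_hom {k : F} (hk : k ≠ 0) :
    ∃ f : ↥(isometryGroup F ⇑Q) →* ↥(isometryGroup F ⇑(k • Q)),
      ∀ v (hv : Q v ≠ 0), f (refl Q v hv) = refl (k • Q) v (by simp [hk, hv]) := by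
  refine ⟨{ toFun := fun g => ⟨g.1, fun u _ => ?_⟩, map_one' := rfl, map_mul' := fun _ _ => rfl },
    fun v hv => isometry_ext _ fun x => ?_⟩
  · show k • Q _ = k • Q u
    rw [show Q ((Units.coeHom (Matrix ι ι F)) g.1 *ᵥ u) = Q u from act_map Q g u]
  · show act Q (refl Q v hv) x = _
    rw [act_refl, act_refl]
    congr 2
    rw [show (⇑(k • Q) : (ι → F) → F) = k • ⇑Q from rfl, QuadraticMap.polar_smul]
    show _ = (k • Q v)⁻¹ * k • _
    rw [smul_eq_mul, smul_eq_mul]
    field_simp

/-- For each class `c` a homomorphism to `ℤˣ` trivial exactly on the reflections of norm class `c`. -/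
theorem exists_hom_refl (h2 : (2 : F) ≠ 0) {c : F} (hc : c ≠ 0) :
    ∃ χ : ↥(isometryGroup F ⇑Q) →* ℤˣ, ∀ v (hv : Q v ≠ 0),
      χ (refl Q v hv) = if IsSquare (Q v * c) then 1 else -1 := by
  have hchar : ringChar F ≠ 2 := fun h => h2 (by
    have := ringChar.Nat.cast_ringChar (R := F); rw [h] at this; exact_mod_cast this)
  obtain ⟨ε, hε⟩ := quadraticChar_exists_neg_one' hchar
  obtain ⟨f, hf⟩ := exists_smul_hom Q (k := c * (ε : F)) (mul_ne_zero hc ε.ne_zero)
  refine ⟨(sphereSign (((c * (ε : F)) : F) • Q)).comp f, fun v hv => Units.ext ?_⟩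
  rw [MonoidHom.comp_apply, hf, sphereSign_refl _ h2]
  have hcv : Q v * c ≠ 0 := mul_ne_zero hv hc
  rw [show ((c * (ε : F)) • Q) v = (Q v * c) * ε by
      rw [QuadraticMap.smul_apply, smul_eq_mul]; ring,
    map_mul, hε, mul_neg_one, neg_neg]
  by_cases h : IsSquare (Q v * c)
  · rw [if_pos h, (quadraticChar_one_iff_isSquare hcv).2 h]; rfl
  · rw [if_neg h, quadraticChar_neg_one_iff_not_isSquare.2 h]; rfl

end Characters

end Cfsg.Agent.QForm
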