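/-
`Ω_{2m+1}`, `m ≥ 3`, odd characteristic, for `quadFormOdd`: explicit elements of the commutator
subgroup, triviality of its centre, and `m` pairwise non-conjugate involutions.
-/
import Mathlib
import Cfsg.Prelude.Def_Classical
import Cfsg.Agent.Lib.Forms.Isom

set_option autoImplicit false

namespace Cfsg.Agent.QForm.OddInv

open scoped Matrix commutatorElement

variable {F : Type*} [Field F] {m : ℕ}

/-- The coordinate space. -/
abbrev Vec (m : ℕ) (F : Type*) := Unit ⊕ (Fin m ⊕ Fin m) → F

/-- The orthogonal group. -/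
abbrev OG (m : ℕ) (F : Type*) [Field F] := ↥(isometryGroup F (quadFormOdd m F))

/-- The action on vectors. -/
def act (a : OG m F) (v : Vec m F) : Vec m F :=
  ((a : Matrix.GeneralLinearGroup (Unit ⊕ (Fin m ⊕ Fin m)) F) :
    Matrix (Unit ⊕ (Fin m ⊕ Fin m)) (Unit ⊕ (Fin m ⊕ Fin m)) F) *ᵥ v

theorem act_mul (a b : OG m F) (v : Vec m F) : act (a * b) v = act a (act b v) := by
  simp [act, Matrix.mulVec_mulVec]

theorem act_one (v : Vec m F) : act (1 : OG m F) v = v := by simp [act]

theorem act_ext {a b : OG m F} (h : ∀ v, act a v = act b v) : a = b :=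
  Subtype.ext (Units.ext (Matrix.ext_iff_mulVec.2 h))

theorem act_inj {a : OG m F} {v w : Vec m F} (h : act a v = act a w) : v = w := by
  have := congrArg (act a⁻¹) h
  rwa [← act_mul, ← act_mul, inv_mul_cancel, act_one, act_one] at this

/-- An orthogonal element from a linear equivalence. -/
noncomputable def ofEquiv (f : Vec m F ≃ₗ[F] Vec m F)
    (h : ∀ v, quadFormOdd m F (f v) = quadFormOdd m F v) : OG m F :=
  (Forms.isometryGroupEquiv (quadFormOdd m F)).symm ⟨f, fun u _ => h u⟩

theorem act_ofEquiv (f : Vec m F ≃ₗ[F] Vec m F)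
    (h : ∀ v, quadFormOdd m F (f v) = quadFormOdd m F v) (v : Vec m F) :
    act (ofEquiv f h) v = f v := by
  rw [act, ← Forms.isometryGroupEquiv_apply, ofEquiv, MulEquiv.apply_symm_apply]

/-- A self-inverse orthogonal element has `a⁻¹ = a`. -/
theorem inv_eq_self {a : OG m F} (h : ∀ v, act a (act a v) = v) : a⁻¹ = a :=
  inv_eq_of_mul_eq_one_right (act_ext fun v => by rw [act_mul, act_one, h])

theorem comm_mem (a b : OG m F) : ⁅a, b⁆ ∈ Omega F (quadFormOdd m F) :=
  Subgroup.commutator_mem_commutator (Subgroup.mem_top a) (Subgroup.mem_top b)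

/-! ### The elements -/

/-- The diagonal function negating the hyperbolic pairs in `S`. -/
def negVec (S : Finset (Fin m)) : Vec m F :=
  Sum.elim (fun _ => 1) (Sum.elim (fun i => if i ∈ S then -1 else 1) (fun i => if i ∈ S then -1 else 1))

theorem negVec_sq (S : Finset (Fin m)) (c : Unit ⊕ (Fin m ⊕ Fin m)) :
    negVec (F := F) S c * negVec S c = 1 := by
  rcases c with ⟨⟩ | i | i <;> simp [negVec] <;> split <;> simp

/-- Negation of the pairs in `S`. -/
noncomputable def negS (S : Finset (Fin m)) : OG m F :=
  ofEquiv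
    { toFun := fun v c => negVec S c * v c
      invFun := fun v c => negVec S c * v c
      map_add' := fun v w => funext fun c => mul_add _ _ _
      map_smul' := fun r v => funext fun c => by simp; ring
      left_inv := fun v => funext fun c => by simp [← mul_assoc, negVec_sq]
      right_inv := fun v => funext fun c => by simp [← mul_assoc, negVec_sq] }
    (fun v => by
      show quadFormOdd m F (fun c => negVec S c * v c) = _
      simp only [quadFormOdd, negVec, Sum.elim_inl, Sum.elim_inr, one_mul]
      refine congrArg _ (Finset.sum_congr rfl fun i _ => ?_)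
      split <;> ring)

theorem act_negS (S : Finset (Fin m)) (v : Vec m F) : act (negS S) v = fun c => negVec S c * v c := by
  exact act_ofEquiv _ _ v

/-- Permutation of the hyperbolic pairs. -/
noncomputable def permS (σ : Equiv.Perm (Fin m)) : OG m F :=
  ofEquiv (LinearEquiv.funCongrLeft F F (Equiv.sumCongr (Equiv.refl Unit) (Equiv.sumCongr σ σ)))
    (fun v => by
      simp only [quadFormOdd, LinearEquiv.funCongrLeft_apply, LinearMap.funLeft_apply,
        Equiv.sumCongr_apply, Sum.map_inl, Sum.map_inr, Equiv.refl_apply]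
      exact congrArg _ (Equiv.sum_comp σ fun i => v (.inr (.inl i)) * v (.inr (.inr i))))

theorem act_permS (σ : Equiv.Perm (Fin m)) (v : Vec m F) :
    act (permS σ) v = fun c => v (Sum.map id (Sum.map σ σ) c) := by
  rw [permS, act_ofEquiv]
  funext c
  rcases c with ⟨⟩ | i | i <;> simp [LinearMap.funLeft_apply]

/-- Negation of the isolated coordinate. -/
noncomputable def negA : OG m F :=
  ofEquiv
    { toFun := fun v => Sum.elim (fun _ => -v (.inl ())) (fun c => v (.inr c))
      invFun := fun v => Sum.elim (fun _ => -v (.inl ())) (fun c => v (.inr c))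
      map_add' := fun v w => by funext c; rcases c with ⟨⟩ | c <;> simp; ring
      map_smul' := fun r v => by funext c; rcases c with ⟨⟩ | c <;> simp
      left_inv := fun v => by funext c; rcases c with ⟨⟩ | c <;> simp
      right_inv := fun v => by funext c; rcases c with ⟨⟩ | c <;> simp }
    (fun v => by simp [quadFormOdd])

theorem act_negA (v : Vec m F) :
    act (negA : OG m F) v = Sum.elim (fun _ => -v (.inl ())) (fun c => v (.inr c)) := by
  exact act_ofEquiv _ _ v

/-- The swap of `e₀` and `eᵢ + fᵢ`, as a function. -/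
def swapFun (i : Fin m) (v : Vec m F) : Vec m F :=
  Sum.elim (fun _ => (v (.inr (.inl i)) + v (.inr (.inr i))) / 2)
    (Sum.elim
      (fun l => if l = i then v (.inl ()) + (v (.inr (.inl i)) - v (.inr (.inr i))) / 2
        else v (.inr (.inl l)))
      (fun l => if l = i then v (.inl ()) - (v (.inr (.inl i)) - v (.inr (.inr i))) / 2
        else v (.inr (.inr l))))

theorem swapFun_invol (h2 : (2 : F) ≠ 0) (i : Fin m) (v : Vec m F) :
    swapFun i (swapFun i v) = v := by
  funext c
  rcases c with ⟨⟩ | l | l
  · simp [swapFun]; field_simp; ring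
  · by_cases h : l = i
    · subst h; simp [swapFun]; field_simp; ring
    · simp [swapFun, h]
  · by_cases h : l = i
    · subst h; simp [swapFun]; field_simp; ring
    · simp [swapFun, h]

theorem swapFun_form (h2 : (2 : F) ≠ 0) (i : Fin m) (v : Vec m F) :
    quadFormOdd m F (swapFun i v) = quadFormOdd m F v := by
  have h4 : (4 : F) ≠ 0 := by
    rw [show (4 : F) = 2 * 2 by norm_num]; exact mul_ne_zero h2 h2
  simp only [quadFormOdd, swapFun, Sum.elim_inl, Sum.elim_inr]
  rw [← Finset.add_sum_erase _ _ (Finset.mem_univ i), ← Finset.add_sum_erase _ _ (Finset.mem_univ i),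
    if_pos rfl, if_pos rfl]
  rw [Finset.sum_congr rfl (g := fun l => v (.inr (.inl l)) * v (.inr (.inr l))) fun l hl => by
    rw [if_neg (Finset.ne_of_mem_erase hl), if_neg (Finset.ne_of_mem_erase hl)]]
  field_simp
  ring

/-- The swap of `e₀` and `eᵢ + fᵢ`. -/
noncomputable def swapA (h2 : (2 : F) ≠ 0) (i : Fin m) : OG m F :=
  ofEquiv
    { toFun := swapFun i
      invFun := swapFun i
      map_add' := fun v w => by
        funext c; rcases c with ⟨⟩ | l | l <;> simp [swapFun] <;> (try split_ifs) <;> ring
      map_smul' := fun r v => by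
        funext c; rcases c with ⟨⟩ | l | l <;> simp [swapFun] <;> (try split_ifs) <;> ring
      left_inv := swapFun_invol h2 i
      right_inv := swapFun_invol h2 i }
    (swapFun_form h2 i)

theorem act_swapA (h2 : (2 : F) ≠ 0) (i : Fin m) (v : Vec m F) :
    act (swapA h2 i) v = swapFun i v := by
  exact act_ofEquiv _ _ v

/-- The Levi transvection `xᵢ += s xⱼ`, `yⱼ -= s yᵢ`, as a function. -/
def leviFun (i j : Fin m) (s : F) (v : Vec m F) : Vec m F :=
  Sum.elim (fun _ => v (.inl ()))
    (Sum.elim
      (fun l => v (.inr (.inl l)) + if l = i then s * v (.inr (.inl j)) else 0)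
      (fun l => v (.inr (.inr l)) - if l = j then s * v (.inr (.inr i)) else 0))

theorem leviFun_add_comp {i j : Fin m} (hij : i ≠ j) (s t : F) (v : Vec m F) :
    leviFun i j s (leviFun i j t v) = leviFun i j (s + t) v := by
  funext c
  rcases c with ⟨⟩ | l | l
  · simp [leviFun]
  · simp [leviFun, hij.symm]; split_ifs <;> ring
  · simp [leviFun, hij]; split_ifs <;> ring

theorem leviFun_zero (i j : Fin m) (v : Vec m F) : leviFun i j 0 v = v := by
  funext c
  rcases c with ⟨⟩ | l | l <;> simp [leviFun]

/-- The Levi transvection. -/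
noncomputable def levi {i j : Fin m} (hij : i ≠ j) (s : F) : OG m F :=
  ofEquiv
    { toFun := leviFun i j s
      invFun := leviFun i j (-s)
      map_add' := fun v w => by
        funext c; rcases c with ⟨⟩ | l | l <;> simp [leviFun] <;> split_ifs <;> ring
      map_smul' := fun r v => by
        funext c; rcases c with ⟨⟩ | l | l <;> simp [leviFun] <;> (try split_ifs) <;> ring
      left_inv := fun v => by rw [leviFun_add_comp hij, neg_add_cancel, leviFun_zero]
      right_inv := fun v => by rw [leviFun_add_comp hij, add_neg_cancel, leviFun_zero] }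
    (fun v => by
      show quadFormOdd m F (leviFun i j s v) = _
      simp only [quadFormOdd, leviFun, Sum.elim_inl, Sum.elim_inr, mul_sub, add_mul, ite_mul,
        mul_ite, zero_mul, mul_zero, Finset.sum_add_distrib, Finset.sum_sub_distrib,
        Finset.sum_ite_eq', Finset.mem_univ, if_true, if_neg hij.symm]
      ring)

theorem act_levi {i j : Fin m} (hij : i ≠ j) (s : F) (v : Vec m F) :
    act (levi hij s) v = leviFun i j s v := by
  exact act_ofEquiv _ _ v

/-! ### Elements of `Ω` -/

theorem negS_mul (S S' : Finset (Fin m)) (h : Disjoint S S') :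
    (negS S * negS S' : OG m F) = negS (S ∪ S') := by
  refine act_ext fun v => funext fun c => ?_
  rw [act_mul, act_negS, act_negS, act_negS]
  rcases c with ⟨⟩ | i | i <;> simp [negVec] <;> by_cases h1 : i ∈ S <;>
    by_cases h2 : i ∈ S' <;> simp [h1, h2] <;> exact (Finset.disjoint_left.1 h h1 h2).elim

theorem negS_pair_mem {i j : Fin m} (hij : i ≠ j) :
    (negS {i, j} : OG m F) ∈ Omega F (quadFormOdd m F) := by
  have e : (negS {i, j} : OG m F) = ⁅(negS {i} : OG m F), permS (Equiv.swap i j)⁆ := by
    have hp : (permS (Equiv.swap i j) : OG m F)⁻¹ = permS (Equiv.swap i j) := inv_eq_self fun v => by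
      funext c; rcases c with ⟨⟩ | l | l <;> simp [act_permS]
    have hn : (negS {i} : OG m F)⁻¹ = negS {i} := inv_eq_self fun v => by
      funext c; simp [act_negS, ← mul_assoc, negVec_sq]
    rw [commutatorElement_def, hp, hn]
    refine act_ext fun v => funext fun c => ?_
    simp only [act_mul, act_negS, act_permS]
    rcases c with ⟨⟩ | l | l
    · simp [negVec]
    all_goals
      rcases eq_or_ne l i with rfl | hli
      · simp [negVec, hij.symm, Equiv.swap_apply_left]
      · rcases eq_or_ne l j with rfl | hlj
        · simp [negVec, hij, hij.symm, Equiv.swap_apply_right]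
        · simp [negVec, hli, hlj, Equiv.swap_apply_of_ne_of_ne hli hlj]
  rw [e]; exact comm_mem _ _

theorem negS_even_mem (S : Finset (Fin m)) (h : Even S.card) :
    (negS S : OG m F) ∈ Omega F (quadFormOdd m F) := by
  induction S using Finset.strongInduction with
  | _ S ih =>
    rcases S.eq_empty_or_nonempty with rfl | ⟨i, hi⟩
    · have : (negS ∅ : OG m F) = 1 := act_ext fun v => funext fun c => by
        rcases c with ⟨⟩ | l | l <;> simp [act_negS, act_one, negVec]
      rw [this]; exact one_mem _
    · obtain ⟨j, hj⟩ : (S.erase i).Nonempty := by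
        rw [← Finset.card_pos, Finset.card_erase_of_mem hi]
        have := Finset.card_pos.2 ⟨i, hi⟩
        obtain ⟨r, hr⟩ := h
        omega
      have hij : i ≠ j := (Finset.ne_of_mem_erase hj).symm
      have hsub : ({i, j} : Finset (Fin m)) ⊆ S := by
        intro l hl
        rcases Finset.mem_insert.1 hl with rfl | hl
        · exact hi
        · rw [Finset.mem_singleton.1 hl]; exact Finset.mem_of_mem_erase hj
      have hlt : S \ {i, j} ⊂ S := Finset.sdiff_ssubset hsub ⟨i, by simp⟩
      have hev : Even (S \ {i, j}).card := by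
        rw [Finset.card_sdiff_of_subset hsub, Finset.card_pair hij]
        obtain ⟨r, hr⟩ := h
        exact ⟨r - 1, by omega⟩
      rw [← Finset.union_sdiff_of_subset hsub, ← negS_mul _ _ Finset.disjoint_sdiff]
      exact mul_mem (negS_pair_mem hij) (ih _ hlt hev)

/-- The product of the reflections in `e₀` and `eᵢ + fᵢ`. -/
noncomputable def twist (h2 : (2 : F) ≠ 0) (i : Fin m) : OG m F := ⁅(negA : OG m F), swapA h2 i⁆

theorem act_twist (h2 : (2 : F) ≠ 0) (i : Fin m) (v : Vec m F) :
    act (twist h2 i) v = Sum.elim (fun _ => -v (.inl ()))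
      (Sum.elim (fun l => if l = i then -v (.inr (.inr i)) else v (.inr (.inl l)))
        (fun l => if l = i then -v (.inr (.inl i)) else v (.inr (.inr l)))) := by
  have hs : (swapA h2 i : OG m F)⁻¹ = swapA h2 i := inv_eq_self fun v => by
    simp [act_swapA, swapFun_invol h2]
  have hn : (negA : OG m F)⁻¹ = negA := inv_eq_self fun v => by
    funext c; rcases c with ⟨⟩ | l <;> simp [act_negA]
  funext c
  rw [twist, commutatorElement_def, hs, hn, act_mul, act_mul, act_mul, act_negA, act_negA, act_swapA,
    act_swapA]
  rcases c with ⟨⟩ | l | l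
  · simp [swapFun]; field_simp; ring
  all_goals
    by_cases h : l = i
    · subst h; simp [swapFun]; field_simp; ring
    · simp [swapFun, h]

theorem levi_mem (h2 : (2 : F) ≠ 0) {i j : Fin m} (hij : i ≠ j) :
    (levi hij (1 : F) : OG m F) ∈ Omega F (quadFormOdd m F) := by
  have e : (levi hij (1 : F) : OG m F) = ⁅(negS {i} : OG m F), levi hij (-(1 / 2 : F))⁆ := by
    have hn : (negS {i} : OG m F)⁻¹ = negS {i} := inv_eq_self fun v => by
      funext c; simp [act_negS, ← mul_assoc, negVec_sq]
    have hl : (levi hij (-(1 / 2 : F)) : OG m F)⁻¹ = levi hij (1 / 2 : F) :=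
      inv_eq_of_mul_eq_one_right (act_ext fun v => by
        rw [act_mul, act_levi, act_levi, leviFun_add_comp hij, neg_add_cancel, leviFun_zero, act_one])
    rw [commutatorElement_def, hn, hl]
    refine act_ext fun v => funext fun c => ?_
    rw [act_mul, act_mul, act_mul, act_levi, act_levi, act_levi, act_negS, act_negS]
    rcases c with ⟨⟩ | l | l
    · simp [leviFun, negVec]
    · by_cases h : l = i
      · subst h; simp [leviFun, negVec, hij.symm]; field_simp; ring
      · simp [leviFun, negVec, h]
    · by_cases h : l = j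
      · subst h; simp [leviFun, negVec, hij, hij.symm]; field_simp; ring
      · simp [leviFun, negVec, h]; split <;> simp
  rw [e]; exact comm_mem _ _

/-- `gⱼ gᵢ`: it sends `e₀` to `eᵢ + fᵢ`. -/
theorem exists_cycle_mem (h2 : (2 : F) ≠ 0) {i j : Fin m} (hij : i ≠ j) :
    ∃ a ∈ Omega F (quadFormOdd m F),
      act a (Pi.single (.inl ()) 1) = Pi.single (.inr (.inl i)) 1 + Pi.single (.inr (.inr i)) 1 := by
  refine ⟨⁅permS (Equiv.swap i j), swapA h2 i⁆, comm_mem _ _, ?_⟩
  have hp : (permS (Equiv.swap i j) : OG m F)⁻¹ = permS (Equiv.swap i j) := inv_eq_self fun v => by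
    funext c; rcases c with ⟨⟩ | l | l <;> simp [act_permS]
  have hs : (swapA h2 i : OG m F)⁻¹ = swapA h2 i := inv_eq_self fun v => by
    simp [act_swapA, swapFun_invol h2]
  rw [commutatorElement_def, hp, hs]
  funext c
  simp only [act_mul, act_permS, act_swapA]
  rcases c with ⟨⟩ | l | l
  · simp [swapFun, hij, hij.symm]
  all_goals
    rcases eq_or_ne l i with rfl | hli
    · simp [swapFun, hij, hij.symm, Equiv.swap_apply_left]
    · rcases eq_or_ne l j with rfl | hlj
      · simp [swapFun, hij, hij.symm, Equiv.swap_apply_right]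
      · simp [swapFun, hli, hlj, Equiv.swap_apply_of_ne_of_ne hli hlj]

theorem det_eq_one_of_mem {a : OG m F} (ha : a ∈ Omega F (quadFormOdd m F)) :
    ((a : Matrix.GeneralLinearGroup (Unit ⊕ (Fin m ⊕ Fin m)) F) :
      Matrix (Unit ⊕ (Fin m ⊕ Fin m)) (Unit ⊕ (Fin m ⊕ Fin m)) F).det = 1 := by
  have := Abelianization.commutator_subset_ker
    (Matrix.GeneralLinearGroup.det.comp (isometryGroup F (quadFormOdd m F)).subtype) ha
  rw [MonoidHom.mem_ker] at this
  exact congrArg Units.val this

/-- The centre of `Ω` is trivial. -/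
theorem center_eq_bot (h2 : (2 : F) ≠ 0) (hm : 3 ≤ m) :
    Subgroup.center (Omega F (quadFormOdd m F)) = ⊥ := by
  rw [Subgroup.eq_bot_iff_forall]
  rintro ⟨z, hz⟩ hc
  have hcomm : ∀ a ∈ Omega F (quadFormOdd m F), ∀ v, act z (act a v) = act a (act z v) := by
    intro a ha v
    have : z * a = a * z := congrArg Subtype.val (Subgroup.mem_center_iff.1 hc ⟨a, ha⟩).symm
    rw [← act_mul, this, act_mul]
  have hother : ∀ i : Fin m, ∃ j, j ≠ i := fun i => by
    obtain ⟨j, hj⟩ := Fintype.exists_ne_of_one_lt_card (by simp; omega) i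
    exact ⟨j, hj⟩
  have hthird : ∀ i l : Fin m, ∃ k, k ≠ i ∧ k ≠ l := fun i l => by
    obtain ⟨k, -, hk⟩ := Finset.exists_mem_notMem_of_card_lt_card
      (s := {i, l}) (t := (Finset.univ : Finset (Fin m)))
      ((Finset.card_le_two).trans_lt (by rw [Finset.card_univ, Fintype.card_fin]; omega))
    exact ⟨k, by simpa using hk⟩
  have h1n : ∀ x : F, x = -x → x = 0 := fun x hx => by
    have : 2 * x = 0 := by linear_combination hx
    exact (mul_eq_zero.1 this).resolve_left h2
  -- coordinates with different characters for the pair negations vanish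
  have hdiag : ∀ (S : Finset (Fin m)), Even S.card → ∀ b c,
      negVec (F := F) S b ≠ negVec S c → act z (Pi.single b 1) c = 0 := by
    intro S hS b c hne
    have h := hcomm _ (negS_even_mem (F := F) S hS) (Pi.single b 1)
    rw [act_negS, act_negS] at h
    have e : (fun c => negVec (F := F) S c * (Pi.single b (1 : F) : Vec m F) c) =
        negVec (F := F) S b • (Pi.single b (1 : F) : Vec m F) := by
      funext c
      by_cases hc : c = b
      · subst hc; simp
      · simp [hc]
    rw [e] at h
    have h' := congrFun h c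
    simp only [act, Matrix.mulVec_smul, Pi.smul_apply, smul_eq_mul] at h'
    exact (mul_eq_mul_right_iff.1 h').resolve_left hne
  have hne : (1 : F) ≠ -1 := fun h => one_ne_zero (h1n 1 h)
  set e₀ : Vec m F := Pi.single (.inl ()) 1
  set e : Fin m → Vec m F := fun i => Pi.single (.inr (.inl i)) 1 with he
  set f : Fin m → Vec m F := fun i => Pi.single (.inr (.inr i)) 1 with hf
  obtain ⟨α, hα⟩ : ∃ α, act z e₀ = α • e₀ := by
    refine ⟨act z e₀ (.inl ()), funext fun c => ?_⟩
    rcases c with ⟨⟩ | c
    · simp [e₀]
    · obtain ⟨j, hj⟩ : ∃ S : Finset (Fin m), Even S.card ∧ negVec (F := F) S (.inr c) = -1 := by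
        rcases c with i | i <;>
        · obtain ⟨j, hj⟩ := hother i
          exact ⟨{i, j}, by rw [Finset.card_pair hj.symm]; exact even_two, by simp [negVec]⟩
      rw [hdiag j hj.1 _ _ (by rw [hj.2]; simpa [negVec] using hne)]
      simp [e₀]
  have hsupp : ∀ i : Fin m, ∀ b : Fin m ⊕ Fin m, (b = .inl i ∨ b = .inr i) →
      act z (Pi.single (.inr b) 1) = act z (Pi.single (.inr b) 1) (.inr (.inl i)) • e i +
        act z (Pi.single (.inr b) 1) (.inr (.inr i)) • f i := by
    intro i b hb
    funext c
    obtain ⟨j, hj⟩ := hother i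
    rcases c with ⟨⟩ | l | l
    · rw [hdiag {i, j} (by rw [Finset.card_pair hj.symm]; exact even_two) _ _
        (by rcases hb with rfl | rfl <;> simpa [negVec] using hne.symm)]
      simp [he, hf]
    all_goals
      by_cases hli : l = i
      · subst hli; simp [he, hf]
      · obtain ⟨k, hki, hkl⟩ := hthird i l
        rw [hdiag {i, k} (by rw [Finset.card_pair hki.symm]; exact even_two) _ _
          (by rcases hb with rfl | rfl <;> simpa [negVec, hli, hkl.symm] using hne.symm)]
        simp [he, hf, hli]
  set p : Fin m → F := fun i => act z (e i) (.inr (.inl i))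
  set r : Fin m → F := fun i => act z (e i) (.inr (.inr i))
  set p' : Fin m → F := fun i => act z (f i) (.inr (.inl i))
  set s : Fin m → F := fun i => act z (f i) (.inr (.inr i))
  have hze : ∀ i, act z (e i) = p i • e i + r i • f i := fun i => hsupp i (.inl i) (.inl rfl)
  have hzf : ∀ i, act z (f i) = p' i • e i + s i • f i := fun i => hsupp i (.inr i) (.inr rfl)
  have hlev : ∀ i j : Fin m, i ≠ j → r i = 0 ∧ p i = p j ∧ p' j = 0 ∧ s j = s i := by
    intro i j hij
    have h := hcomm _ (levi_mem (F := F) h2 hij) (e j)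
    have h' := hcomm _ (levi_mem (F := F) h2 hij) (f i)
    rw [act_levi, act_levi] at h h'
    have ue : leviFun i j (1 : F) (e j) = e j + e i := by
      funext c; rcases c with ⟨⟩ | l | l <;> simp [leviFun, he, Pi.single_apply, eq_comm]
    have uf : leviFun i j (1 : F) (f i) = f i - f j := by
      funext c; rcases c with ⟨⟩ | l | l <;> simp [leviFun, hf, Pi.single_apply, eq_comm]
    have hadd : ∀ a b : Vec m F, act z (a + b) = act z a + act z b := fun a b => Matrix.mulVec_add _ a b
    have hsub : ∀ a b : Vec m F, act z (a - b) = act z a - act z b := fun a b => Matrix.mulVec_sub _ a b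
    rw [ue, hadd, hze, hze] at h
    rw [uf, hsub, hzf, hzf] at h'
    refine ⟨?_, ?_, ?_, ?_⟩
    · have := congrFun h (.inr (.inr i))
      simpa [leviFun, he, hf, hij, hij.symm] using this
    · have := congrFun h (.inr (.inl i))
      simpa [leviFun, he, hf, hij, hij.symm] using this
    · have := congrFun h' (.inr (.inl j))
      simpa [leviFun, he, hf, hij, hij.symm] using this
    · have := congrFun h' (.inr (.inr j))
      simpa [leviFun, he, hf, hij, hij.symm] using this
  have hps : ∀ i, p i = α ∧ s i = α := by
    intro i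
    obtain ⟨j, hj⟩ := hother i
    obtain ⟨a, ha, hea⟩ := exists_cycle_mem (F := F) h2 hj.symm
    have h := hcomm a ha e₀
    have hsm : act a (α • e₀) = α • act a e₀ := Matrix.mulVec_smul _ _ _
    have hadd : act z (e i + f i) = act z (e i) + act z (f i) := Matrix.mulVec_add _ _ _
    rw [hα, hsm, hea] at h
    change act z (e i + f i) = α • (e i + f i) at h
    rw [hadd, hze, hzf, (hlev i j hj.symm).1, (hlev j i hj).2.2.1] at h
    constructor
    · have := congrFun h (.inr (.inl i)); simpa [he, hf] using this
    · have := congrFun h (.inr (.inr i)); simpa [he, hf] using this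
  have hscal : ∀ v, act z v = α • v := by
    intro v
    have hv : v = v (.inl ()) • e₀ + ∑ i, (v (.inr (.inl i)) • e i + v (.inr (.inr i)) • f i) := by
      funext c; rcases c with ⟨⟩ | l | l <;> simp [e₀, he, hf, Pi.single_apply, Finset.sum_apply]
    have hzi : ∀ i, act z (e i) = α • e i ∧ act z (f i) = α • f i := fun i => by
      obtain ⟨j, hj⟩ := hother i
      constructor
      · rw [hze, (hlev i j hj.symm).1, (hps i).1, zero_smul, add_zero]
      · rw [hzf, (hlev j i hj).2.2.1, (hps i).2, zero_smul, zero_add]
    rw [hv]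
    simp only [act] at hα hzi ⊢
    simp only [Matrix.mulVec_add, Matrix.mulVec_smul, Matrix.mulVec_sum, hα, fun i => (hzi i).1,
      fun i => (hzi i).2, smul_add, Finset.smul_sum, smul_comm α]
  have hM : ((z : Matrix.GeneralLinearGroup (Unit ⊕ (Fin m ⊕ Fin m)) F) :
      Matrix (Unit ⊕ (Fin m ⊕ Fin m)) (Unit ⊕ (Fin m ⊕ Fin m)) F) = α • 1 :=
    Matrix.ext_iff_mulVec.2 fun v => by rw [Matrix.smul_mulVec, Matrix.one_mulVec]; exact hscal v
  have hdet := det_eq_one_of_mem hz
  rw [hM, Matrix.det_smul, Matrix.det_one, mul_one] at hdet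
  have hsq : α ^ 2 = 1 := by
    have := z.2 e₀ e₀
    change quadFormOdd m F (act z e₀) = quadFormOdd m F e₀ at this
    rw [hα] at this
    simpa [quadFormOdd, e₀] using this
  have hα1 : α = 1 := by
    simp only [Fintype.card_sum, Fintype.card_unit, Fintype.card_fin] at hdet
    rw [pow_add, pow_one, ← two_mul, pow_mul, hsq, one_pow, mul_one] at hdet
    exact hdet
  refine Subtype.ext (act_ext fun v => ?_)
  rw [hscal, hα1, one_smul]
  exact (act_one v).symm

/-! ### Involutions -/

/-- An involution of `Ω` with a `-1`-eigenspace of dimension `2k`. -/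
theorem exists_involution (h2 : (2 : F) ≠ 0) {k : ℕ} (hk : 1 ≤ k) (hkm : k ≤ m) :
    ∃ a : OG m F, a ∈ Omega F (quadFormOdd m F) ∧ a * a = 1 ∧
      (((a : Matrix.GeneralLinearGroup (Unit ⊕ (Fin m ⊕ Fin m)) F) :
        Matrix (Unit ⊕ (Fin m ⊕ Fin m)) (Unit ⊕ (Fin m ⊕ Fin m)) F) - 1).rank = 2 * k := by
  classical
  have h20 : (-1 - 1 : F) ≠ 0 := fun h => h2 (by linear_combination -h)
  have hrank : ∀ (a : OG m F) (P : (Vec m F) ≃ₗ[F] Vec m F) (d : Vec m F),
      (∀ v, act a (P v) = P (fun c => d c * v c)) →
      (((a : Matrix.GeneralLinearGroup (Unit ⊕ (Fin m ⊕ Fin m)) F) :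
        Matrix (Unit ⊕ (Fin m ⊕ Fin m)) (Unit ⊕ (Fin m ⊕ Fin m)) F) - 1).rank =
        Fintype.card {c // d c - 1 ≠ 0} := by
    intro a P d h
    set M := ((a : Matrix.GeneralLinearGroup (Unit ⊕ (Fin m ⊕ Fin m)) F) :
        Matrix (Unit ⊕ (Fin m ⊕ Fin m)) (Unit ⊕ (Fin m ⊕ Fin m)) F)
    set H := LinearMap.toMatrix' P.toLinearMap
    have hH : IsUnit H.det := by
      rw [← Matrix.isUnit_iff_isUnit_det]
      exact ⟨⟨H, LinearMap.toMatrix' P.symm.toLinearMap,
        by rw [← LinearMap.toMatrix'_comp, LinearEquiv.comp_coe, LinearEquiv.symm_trans_self]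
           simp,
        by rw [← LinearMap.toMatrix'_comp, LinearEquiv.comp_coe, LinearEquiv.self_trans_symm]
           simp⟩, rfl⟩
    have hmul : (M - 1) * H = H * (Matrix.diagonal fun c => d c - 1) := by
      refine Matrix.ext_iff_mulVec.2 fun v => ?_
      rw [← Matrix.mulVec_mulVec, ← Matrix.mulVec_mulVec, Matrix.sub_mulVec, Matrix.one_mulVec,
        LinearMap.toMatrix'_mulVec, LinearMap.toMatrix'_mulVec, LinearEquiv.coe_coe]
      rw [show M *ᵥ P v = P (fun c => d c * v c) from h v, ← map_sub]
      congr 1
      funext c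
      rw [Matrix.mulVec_diagonal, Pi.sub_apply]
      ring
    rw [← Matrix.rank_mul_eq_left_of_isUnit_det H (M - 1) hH, hmul,
      Matrix.rank_mul_eq_right_of_isUnit_det H _ hH, Matrix.rank_diagonal]
  have hcount : ∀ (S : Finset (Fin m)) (c : Fin m ⊕ Fin m),
      (negVec (F := F) S (.inr c) - 1 ≠ 0) ↔ c ∈ S.disjSum S := by
    intro S c
    rcases c with i | i <;> by_cases hi : i ∈ S <;> simp [negVec, hi, h20]
  rcases Nat.even_or_odd k with hev | ⟨t, ht⟩
  · set S : Finset (Fin m) := Finset.univ.filter fun i => (i : ℕ) < k with hS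
    have hcard : S.card = k := by
      rw [hS, ← Fintype.card_subtype]
      rw [Fintype.card_fin_lt_of_le hkm]
    refine ⟨negS S, negS_even_mem S (hcard.symm ▸ hev), act_ext fun v => funext fun c => ?_, ?_⟩
    · simp [act_mul, act_negS, act_one, ← mul_assoc, negVec_sq]
    · rw [hrank (negS S) (LinearEquiv.refl F _) (negVec S) fun v => by simp [act_negS]]
      rw [Fintype.card_subtype]
      have : Finset.univ.filter (fun c => negVec (F := F) S c - 1 ≠ 0) =
          (∅ : Finset Unit).disjSum (S.disjSum S) := by
        ext c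
        rcases c with ⟨⟩ | c
        · rw [Finset.mem_filter]; simp [negVec]
        · rw [Finset.mem_filter, hcount]; simp
      rw [this, Finset.card_disjSum, Finset.card_disjSum, hcard, Finset.card_empty]
      omega
  · set i₀ : Fin m := ⟨0, by omega⟩
    set S : Finset (Fin m) := Finset.univ.filter fun i => 1 ≤ (i : ℕ) ∧ (i : ℕ) < k with hS
    have hcard : S.card = k - 1 := by
      have h1 : S = (Finset.univ.filter fun i : Fin m => (i : ℕ) < k).erase i₀ := by
        ext i
        simp [hS, i₀, Fin.ext_iff]
        omega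
      rw [h1, Finset.card_erase_of_mem (by simp [i₀]; omega), ← Fintype.card_subtype,
        Fintype.card_fin_lt_of_le hkm]
    have hi₀ : i₀ ∉ S := by simp [hS, i₀]
    have hi : ∀ l ∈ S, l ≠ i₀ := fun l hl h => hi₀ (h ▸ hl)
    refine ⟨twist h2 i₀ * negS S, mul_mem (comm_mem (negA : OG m F) (swapA h2 i₀)) (negS_even_mem S ?_),
      act_ext fun v => funext fun c => ?_, ?_⟩
    · rw [hcard, ht]; exact ⟨t, by omega⟩
    · simp only [act_mul, act_twist, act_negS, act_one]
      rcases c with ⟨⟩ | l | l
      · simp [negVec]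
      all_goals
        by_cases h : l = i₀
        · subst h; simp [negVec, hi₀]
        · by_cases hl : l ∈ S <;> simp [negVec, h, hl, ← mul_assoc]
    · let P : Vec m F ≃ₗ[F] Vec m F :=
        { toFun := fun v => Sum.elim (fun _ => v (.inl ())) (Sum.elim
            (fun l => if l = i₀ then v (.inr (.inl l)) + v (.inr (.inr l)) else v (.inr (.inl l)))
            (fun l => if l = i₀ then v (.inr (.inl l)) - v (.inr (.inr l)) else v (.inr (.inr l))))
          invFun := fun v => Sum.elim (fun _ => v (.inl ())) (Sum.elim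
            (fun l => if l = i₀ then (v (.inr (.inl l)) + v (.inr (.inr l))) / 2 else v (.inr (.inl l)))
            (fun l => if l = i₀ then (v (.inr (.inl l)) - v (.inr (.inr l))) / 2 else v (.inr (.inr l))))
          map_add' := fun v w => by
            funext c; rcases c with ⟨⟩ | l | l <;> simp <;> split_ifs <;> ring
          map_smul' := fun r v => by
            funext c; rcases c with ⟨⟩ | l | l <;> simp <;> intros <;> ring
          left_inv := fun v => by
            funext c; rcases c with ⟨⟩ | l | l <;> simp <;> split_ifs <;> field_simp <;> ring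
          right_inv := fun v => by
            funext c; rcases c with ⟨⟩ | l | l <;> simp <;> split_ifs <;> field_simp <;> ring }
      let d : Vec m F := fun c => if c = .inl () ∨ c = .inr (.inl i₀) then -1 else negVec S c
      rw [hrank _ P d fun v => ?_]
      · rw [Fintype.card_subtype]
        have : Finset.univ.filter (fun c => d c - 1 ≠ 0) =
            ({()} : Finset Unit).disjSum ((insert i₀ S).disjSum S) := by
          ext c
          rcases c with ⟨⟩ | l | l
          · simp [d, h20]
          · by_cases h : l = i₀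
            · subst h; simp [d, h20]
            · simp only [Finset.mem_filter, Finset.mem_univ, true_and, d, Sum.inr.injEq, Sum.inl.injEq,
                reduceCtorEq, false_or, h, if_false, Finset.inr_mem_disjSum, Finset.inl_mem_disjSum,
                Finset.mem_insert]
              rw [hcount]; simp
          · simp only [Finset.mem_filter, Finset.mem_univ, true_and, d, Sum.inr.injEq,
              reduceCtorEq, or_self, if_false, Finset.inr_mem_disjSum]
            rw [hcount]; simp
        rw [this, Finset.card_disjSum, Finset.card_disjSum, Finset.card_insert_of_notMem hi₀, hcard,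
          Finset.card_singleton]
        omega
      · funext c
        simp only [act_mul, act_twist, act_negS, P, LinearEquiv.coe_mk, LinearMap.coe_mk, AddHom.coe_mk]
        rcases c with ⟨⟩ | l | l
        · simp [negVec, d]
        all_goals
          by_cases h : l = i₀
          · subst h; simp [negVec, hi₀, d]; try ring
          · simp [negVec, h, d]

end Cfsg.Agent.QForm.OddInv
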