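/-
Unipotent isometries of a given quadratic space with a prescribed Jordan type, and the Jordan types seen on
the invariant non-degenerate subspaces.
-/
import Cfsg.Prelude.Def_GeometricClasses
import Cfsg.Agent.Lib.UnipForms.Realize
import Cfsg.Agent.Lib.QForm.PlusType
import Cfsg.Agent.Lib.QForm.OmegaQuot
import Cfsg.Agent.Lib.QForm.Std

set_option autoImplicit false
set_option linter.unusedSectionVars false
set_option maxHeartbeats 800000

namespace Cfsg.Agent.QForm.UnipFix

open LinRep.JordanType Module UnipForms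

variable {F : Type*} [Field F]
variable {V : Type*} [AddCommGroup V] [Module F V] [FiniteDimensional F V]

theorem sum_eq_finrank {N : Module.End F V} {μ : Multiset ℕ} (h : HasType N μ) :
    finrank F V = μ.sum := by
  have := h 0
  rw [rankDim_zero] at this
  simpa using this

theorem nondeg_of_sep {Q : QuadraticForm F V} (h : ∀ x, (∀ y, QuadraticMap.polar Q x y = 0) → x = 0) :
    (QuadraticMap.polarBilin Q).Nondegenerate :=
  ⟨fun x hx => h x hx, fun y hy => h y fun x => (QuadraticMap.polar_comm _ _ _).trans (hy x)⟩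

/-- A type realised with a totally singular subspace of half the dimension. -/
def HypReal (F : Type*) [Field F] (μ : Multiset ℕ) : Prop :=
  ∃ (n : ℕ) (Q : QuadraticForm F (Fin n → F)) (N : Module.End F (Fin n → F)) (U : Submodule F (Fin n → F)),
    (∀ x, (∀ y, QuadraticMap.polar Q x y = 0) → x = 0) ∧ (∀ x, Q (x + N x) = Q x) ∧
      IsNilpotent N ∧ HasType N μ ∧ (∀ x ∈ U, Q x = 0) ∧ 2 * finrank F U = n

theorem HypReal.mk {N : Module.End F V} {μ : Multiset ℕ} {Q : QuadraticForm F V}
    (h2 : ∀ x, (∀ y, QuadraticMap.polar Q x y = 0) → x = 0) (h3 : ∀ x, Q (x + N x) = Q x)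
    (h4 : IsNilpotent N) (h5 : HasType N μ) (U : Submodule F V) (hU : ∀ x ∈ U, Q x = 0)
    (hUd : 2 * finrank F U = finrank F V) : HypReal F μ := by
  let L : V ≃ₗ[F] (Fin (finrank F V) → F) := (Module.finBasis F V).equivFun
  let M : Module.End F (Fin (finrank F V) → F) := L.toLinearMap ∘ₗ N ∘ₗ L.symm.toLinearMap
  have hM : ∀ v, L (N v) = M (L v) := fun v => by simp [M]
  refine ⟨_, Q.comp L.symm.toLinearMap, M, U.map L.toLinearMap, fun x hx => ?_,
    fun x => ?_, isNilpotent_conj L hM h4, hasType_conj L hM h5, ?_, ?_⟩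
  · refine L.symm.injective ?_
    rw [map_zero]
    refine h2 _ fun y => ?_
    have h := hx (L y)
    simpa [QuadraticMap.polar] using h
  · simp only [QuadraticMap.comp_apply, LinearEquiv.coe_coe, map_add, M, LinearMap.comp_apply,
      LinearEquiv.symm_apply_apply]
    exact h3 _
  · rintro _ ⟨x, hx, rfl⟩
    simpa using hU x hx
  · exact (congrArg (2 * ·) (LinearEquiv.finrank_map_eq L U)).trans hUd

theorem HypReal.add {μ ν : Multiset ℕ} (h : HypReal F μ) (h' : HypReal F ν) : HypReal F (μ + ν) := by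
  obtain ⟨a, Q, N, U, hs, hi, hn, ht, hU, hUd⟩ := h
  obtain ⟨b, Q', N', U', hs', hi', hn', ht', hU', hUd'⟩ := h'
  refine HypReal.mk (N := N.prodMap N') (Q := Q.prod Q') (fun x hx => ?_)
    (fun x => ?_) (isNilpotent_prodMap hn hn') (hasType_prod ht ht') (U.prod U') ?_ ?_
  · refine Prod.ext (hs _ fun y => ?_) (hs' _ fun y => ?_)
    · have h := hx (y, 0)
      simp only [QuadraticMap.polar, QuadraticMap.prod_apply, Prod.fst_add, Prod.snd_add, add_zero,
        QuadraticMap.map_zero] at h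
      simp only [QuadraticMap.polar]
      linear_combination h
    · have h := hx (0, y)
      simp only [QuadraticMap.polar, QuadraticMap.prod_apply, Prod.fst_add, Prod.snd_add, add_zero,
        QuadraticMap.map_zero] at h
      simp only [QuadraticMap.polar]
      linear_combination h
  · simp only [QuadraticMap.prod_apply, LinearMap.prodMap_apply, Prod.fst_add, Prod.snd_add, hi, hi',
      implies_true]
  · rintro x ⟨hx, hx'⟩
    simp [hU _ hx, hU' _ hx']
  · have e : finrank F (U.prod U') = finrank F U + finrank F U' := by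
      rw [← Module.finrank_prod]
      exact LinearEquiv.finrank_eq
        { toFun := fun x => (⟨x.1.1, x.2.1⟩, ⟨x.1.2, x.2.2⟩)
          invFun := fun y => ⟨(y.1.1, y.2.1), y.1.2, y.2.2⟩
          map_add' := fun _ _ => rfl
          map_smul' := fun _ _ => rfl
          left_inv := fun _ => rfl
          right_inv := fun _ => rfl }
    rw [e, Module.finrank_prod, Module.finrank_fintype_fun_eq_card, Module.finrank_fintype_fun_eq_card,
      Fintype.card_fin, Fintype.card_fin]
    omega

theorem hypReal_of_even (μ : Multiset ℕ) (hpos : ∀ j ∈ μ, 1 ≤ j) (h : ∀ j, Even (μ.count j)) :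
    HypReal F μ := by
  refine build_type (fun _ => False) ?_ (fun _ _ => HypReal.add) (fun j _ hj => hj.elim) ?_ μ hpos
    fun j _ _ => h j
  · exact ⟨0, 0, 0, ⊥, fun _ _ => Subsingleton.elim _ _, fun _ => rfl, ⟨1, pow_one _⟩,
      hasType_zero_empty, fun x hx => rfl, by rw [finrank_bot]⟩
  · intro j hj
    refine HypReal.mk (N := pairN j F) (Q := (pairB j F).toQuadraticMap) pairQ_sep (fun x => ?_)
      (pairN_type hj).1 (pairN_type hj).2 (LinearMap.range (LinearMap.inl F (Fin j → F) (Fin j → F))) ?_ ?_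
    · simp [add_pairN, pairing_invariant]
    · rintro _ ⟨x, rfl⟩
      simp
    · rw [LinearMap.finrank_range_of_inj LinearMap.inl_injective, Module.finrank_prod,
        Module.finrank_fintype_fun_eq_card, Fintype.card_fin]
      omega

/-! ### Prescribed space -/

variable {W : Type*} [AddCommGroup W] [Module F W] [FiniteDimensional F W]

theorem transport {Q₀ : QuadraticForm F W} {Q : QuadraticForm F V} {N₀ : Module.End F W}
    {μ : Multiset ℕ} (g : W ≃ₗ[F] V) (hg : ∀ w, Q (g w) = Q₀ w) (hi : ∀ w, Q₀ (w + N₀ w) = Q₀ w)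
    (hn : IsNilpotent N₀) (ht : HasType N₀ μ) :
    ∃ N : Module.End F V, (∀ x, Q (x + N x) = Q x) ∧ IsNilpotent N ∧ HasType N μ := by
  let M : Module.End F V := g.toLinearMap ∘ₗ N₀ ∘ₗ g.symm.toLinearMap
  have hM : ∀ v, g (N₀ v) = M (g v) := fun v => by simp [M]
  refine ⟨M, fun x => ?_, isNilpotent_conj g hM hn, hasType_conj g hM ht⟩
  obtain ⟨w, rfl⟩ := g.surjective x
  rw [← hM, ← map_add, hg, hg, hi]

theorem isSquare_disc_of_singular {n : ℕ} (R : QuadraticForm F V) (b : Module.Basis (Fin n) F V)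
    (U' : Submodule F V) (h0 : ∀ x ∈ U', R x = 0) (hd : 2 * finrank F U' = n) :
    IsSquare ((-1) ^ finrank F U' * (gram ⇑R ⇑b).det) := by
  rw [gram_eq_toMatrix]
  refine isSquare_of_isotropic ⟨fun x y => QuadraticMap.polar_comm _ _ _⟩
    (by rw [Module.finrank_eq_card_basis b, Fintype.card_fin, hd]) rfl (fun x hx y hy => ?_) b
  simp [QuadraticMap.polar, h0 _ (add_mem hx hy), h0 x hx, h0 y hy]

theorem realize [Finite F] (h2 : (2 : F) ≠ 0) {Q : QuadraticForm F V}
    (hQ : (QuadraticMap.polarBilin Q).Nondegenerate) (μ : Multiset ℕ) (hpos : ∀ j ∈ μ, 1 ≤ j)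
    (hev : ∀ j, Even j → Even (μ.count j)) (hsum : μ.sum = finrank F V)
    (h : (∃ e ∈ μ, Odd e) ∨ ∃ U : Submodule F V, (∀ x ∈ U, Q x = 0) ∧ 2 * finrank F U = finrank F V) :
    ∃ N : Module.End F V, (∀ x, Q (x + N x) = Q x) ∧ IsNilpotent N ∧ HasType N μ := by
  classical
  by_cases hodd : ∃ e ∈ μ, Odd e
  · obtain ⟨e, he, i, rfl⟩ := hodd
    obtain ⟨μ', rfl⟩ := Multiset.exists_cons_of_mem he
    rw [Multiset.sum_cons] at hsum
    have h1 : QuadReal F {2 * i + 1} := by
      rw [show 2 * i + 1 = i + i + 1 by omega]; exact QuadReal.single_odd h2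
    have h2' : QuadReal F μ' := quadReal_of_parity_odd h2 μ'
      (fun j hj => hpos j (Multiset.mem_cons_of_mem hj)) fun j hj _ => by
        have := hev j hj
        rwa [Multiset.count_cons_of_ne (by rintro rfl; exact Nat.not_even_two_mul_add_one i hj)] at this
    obtain ⟨a, Q₁, N₁, hs₁, hi₁, hn₁, ht₁⟩ := h1
    obtain ⟨b, Q₂, N₂, hs₂, hi₂, hn₂, ht₂⟩ := h2'
    have ha : a = 2 * i + 1 := by simpa using sum_eq_finrank ht₁
    have hb : b = μ'.sum := by simpa using sum_eq_finrank ht₂
    have hQ₁ := nondeg_of_sep hs₁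
    have hQ₂ := nondeg_of_sep hs₂
    let e : Fin (finrank F V) ≃ Fin a ⊕ Fin b :=
      (finCongr (show finrank F V = a + b by omega)).trans finSumFinEquiv.symm
    let bV : Module.Basis (Fin a ⊕ Fin b) F V := (Module.finBasis F V).reindex e
    set D₁ := (gram ⇑Q₁ ⇑(Pi.basisFun F (Fin a))).det
    set D₂ := (gram ⇑Q₂ ⇑(Pi.basisFun F (Fin b))).det
    set D := (gram ⇑Q ⇑bV).det
    have hD₁ : D₁ ≠ 0 := det_gram_ne_zero hQ₁ _
    have hD₂ : D₂ ≠ 0 := det_gram_ne_zero hQ₂ _
    have hD : D ≠ 0 := det_gram_ne_zero hQ _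
    set c := D₁ * D₂ * D with hc
    have hc0 : c ≠ 0 := mul_ne_zero (mul_ne_zero hD₁ hD₂) hD
    set Qc := (c • Q₁).prod Q₂ with hQc
    have hsc : ∀ x, (∀ y, QuadraticMap.polar Qc x y = 0) → x = 0 := by
      intro x hx
      refine Prod.ext (hs₁ _ fun y => ?_) (hs₂ _ fun y => ?_)
      · have h := hx (y, 0)
        simp only [hQc, QuadraticMap.polar, QuadraticMap.prod_apply, Prod.fst_add, Prod.snd_add, add_zero,
          QuadraticMap.map_zero, smul_apply, smul_eq_mul] at h
        simp only [QuadraticMap.polar]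
        refine (mul_eq_zero.1 ?_).resolve_left hc0
        linear_combination h
      · have h := hx (0, y)
        simp only [hQc, QuadraticMap.polar, QuadraticMap.prod_apply, Prod.fst_add, Prod.snd_add, add_zero,
          QuadraticMap.map_zero, smul_apply, smul_eq_mul, mul_zero] at h
        simp only [QuadraticMap.polar]
        linear_combination h
    let bc := (Pi.basisFun F (Fin a)).prod (Pi.basisFun F (Fin b))
    have hgram : (gram ⇑Qc ⇑bc).det = c ^ a * D₁ * D₂ := by
      have hM : gram ⇑Qc ⇑bc = Matrix.fromBlocks (c • gram ⇑Q₁ ⇑(Pi.basisFun F (Fin a))) 0 0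
          (gram ⇑Q₂ ⇑(Pi.basisFun F (Fin b))) := by
        ext x y
        rcases x with x | x <;> rcases y with y | y <;>
          simp [gram, bc, hQc, QuadraticMap.polar, mul_sub]
      rw [hM, Matrix.det_fromBlocks_zero₂₁, Matrix.det_smul, Fintype.card_fin]
    obtain ⟨g, hg⟩ := (isometric_iff h2 Qc Q (nondeg_of_sep hsc) hQ bc bV).2 ⟨c ^ (i + 1), by
      rw [hgram, show c ^ a * D₁ * D₂ * (gram ⇑Q ⇑bV).det = c ^ a * c by rw [hc]; ring, ha]
      ring⟩
    refine transport g hg (N₀ := N₁.prodMap N₂) (fun w => ?_) (isNilpotent_prodMap hn₁ hn₂) ?_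
    · simp only [hQc, QuadraticMap.prod_apply, smul_apply, LinearMap.prodMap_apply,
        Prod.fst_add, Prod.snd_add, hi₁, hi₂]
    · rw [← Multiset.singleton_add]; exact hasType_prod ht₁ ht₂
  · obtain ⟨U, hU, hUd⟩ := h.resolve_left hodd
    push Not at hodd
    obtain ⟨n, Q₀, N₀, U₀, hs, hi, hn, ht, hU₀, hUd₀⟩ := hypReal_of_even (F := F) μ hpos fun j => by
      rcases Nat.even_or_odd j with hj | hj
      · exact hev j hj
      · rw [Multiset.count_eq_zero.2 fun hm => hodd j hm hj]; exact ⟨0, rfl⟩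
    have hQ₀ := nondeg_of_sep hs
    have hn' : finrank F V = n := by rw [← hsum, ← sum_eq_finrank ht]; simp
    let bV : Module.Basis (Fin n) F V := Module.finBasisOfFinrankEq F V hn'
    have s1 := isSquare_disc_of_singular Q₀ (Pi.basisFun F (Fin n)) U₀ hU₀ hUd₀
    have s2 := isSquare_disc_of_singular Q bV U hU (hUd.trans hn')
    rw [show finrank F U = finrank F U₀ by omega] at s2
    obtain ⟨u₁, hu₁⟩ := s1
    obtain ⟨u₂, hu₂⟩ := s2
    obtain ⟨g, hg⟩ := (isometric_iff h2 Q₀ Q hQ₀ hQ (Pi.basisFun F (Fin n)) bV).2 ⟨u₁ * u₂, by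
      have hh : ((-1 : F) ^ finrank F U₀) * (-1) ^ finrank F U₀ = 1 := by rw [← mul_pow]; simp
      linear_combination (gram ⇑Q₀ ⇑(Pi.basisFun F (Fin n))).det * (gram ⇑Q ⇑bV).det * (-1 : F) * hh
        + ((-1 : F) ^ finrank F U₀ * (gram ⇑Q ⇑bV).det) * hu₁ + u₁ * u₁ * hu₂⟩
    exact transport g hg hi hn ht

/-! ### The invariant subspaces -/

theorem pow_eq_zero_of_type {N : Module.End F V} {μ : Multiset ℕ} (h : HasType N μ) {p : ℕ}
    (hp : ∀ e ∈ μ, e ≤ p) : N ^ p = 0 := by
  have h1 := h p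
  rw [rankDim_eq_range, Multiset.sum_eq_zero (fun x hx => ?_), Submodule.finrank_eq_zero,
    LinearMap.range_eq_bot] at h1
  · exact h1
  · obtain ⟨e, he, rfl⟩ := Multiset.mem_map.1 hx
    have := hp e he
    omega

theorem rankDim_restrict {N : Module.End F V} {D : Submodule F V} (hD : ∀ x ∈ D, N x ∈ D) (k : ℕ) :
    rankDim (N.restrict hD) ⊤ k = rankDim N D k := by
  rw [rankDim_eq_range, rankDim]
  conv_rhs => rw [← Submodule.range_subtype D, ← LinearMap.range_comp]
  have h : (N ^ k) ∘ₗ D.subtype = D.subtype ∘ₗ (N.restrict hD) ^ k := by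
    induction k with
    | zero => ext x; simp
    | succ k ih =>
      ext x
      have := LinearMap.congr_fun ih (N.restrict hD x)
      simpa [pow_succ] using this
  rw [h, LinearMap.range_comp]
  exact (Submodule.equivMapOfInjective _ D.injective_subtype _).finrank_eq

theorem sub_type (h2 : (2 : F) ≠ 0) {Q : QuadraticForm F V}
    (hQ : (QuadraticMap.polarBilin Q).Nondegenerate) {N : Module.End F V}
    (hiso : ∀ x, Q (x + N x) = Q x) (hnil : IsNilpotent N) {μ : Multiset ℕ} (ht : HasType N μ) {p : ℕ}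
    (hp : ∀ e ∈ μ, e ≤ p) {X : Submodule F V}
    (hX : ∀ w ∈ X, w ≠ 0 → ∃ x ∈ X, QuadraticMap.polar Q x w ≠ 0) (hinv : ∀ x ∈ X, N x ∈ X) :
    ∃ ν : Multiset ℕ, ν ≤ μ ∧ ν.sum = finrank F X ∧ (∀ e, Even e → Even (ν.count e)) ∧
      ((∀ e ∈ μ, e ≤ 2) → ν.count 1 = 0 → ∃ U ≤ X, (∀ x ∈ U, Q x = 0) ∧ 2 * finrank F U = finrank F X) := by
  classical
  set B := QuadraticMap.polarBilin Q with hB
  have hsymm : ∀ x y, B x y = B y x := fun x y => QuadraticMap.polar_comm _ _ _
  have hA : ∀ x y, B (x + N x) (y + N y) = B x y := fun x y => by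
    simp only [hB, QuadraticMap.polarBilin_apply_apply, QuadraticMap.polar]
    rw [show x + N x + (y + N y) = (x + y) + N (x + y) by rw [map_add]; abel, hiso, hiso, hiso]
  have hrefl : B.IsRefl := fun x y h => by rwa [hsymm]
  have hres : (LinearMap.BilinForm.restrict B X).Nondegenerate := by
    have hl : ∀ x : X, (∀ y : X, B x y = 0) → x = 0 := by
      intro x hx
      by_contra h0
      obtain ⟨y, hy, hne⟩ := hX x x.2 fun h => h0 (Subtype.ext h)
      exact hne ((QuadraticMap.polar_comm _ _ _).trans (hx ⟨y, hy⟩))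
    exact ⟨hl, fun y hy => hl y fun x => (hsymm _ _).trans (hy x)⟩
  have hc := LinearMap.BilinForm.isCompl_orthogonal_of_restrict_nondegenerate hrefl hres
  set Y := LinearMap.BilinForm.orthogonal B X
  have hsurj : ∀ x ∈ X, ∃ z ∈ X, z + N z = x := by
    intro x hx
    have hr : ∀ z ∈ X, (1 + N : Module.End F V) z ∈ X := fun z hz => add_mem hz (hinv z hz)
    have hinj : Function.Injective ((1 + N : Module.End F V).restrict hr) := by
      intro u v huv
      have h := congrArg Subtype.val huv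
      exact Subtype.ext (((Module.End.isUnit_iff _).1 hnil.isUnit_one_add).1 h)
    obtain ⟨z, hz⟩ := LinearMap.injective_iff_surjective.1 hinj ⟨x, hx⟩
    exact ⟨z, z.2, congrArg Subtype.val hz⟩
  have hYinv : ∀ y ∈ Y, N y ∈ Y := by
    intro y hy x hx
    obtain ⟨z, hz, rfl⟩ := hsurj x hx
    have h1 : B (z + N z) (y + N y) = 0 := by rw [hA]; exact hy z hz
    rw [map_add (B (z + N z)), hy (z + N z) (add_mem hz (hinv z hz)), zero_add] at h1
    exact h1
  let E : Bool → Submodule F V := fun i => if i then X else Y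
  have hE : iSupIndep E := by
    rw [iSupIndep_pair (i := true) (j := false) (by simp) (fun k => by cases k <;> simp)]
    exact hc.disjoint
  have htop : iSup E = ⊤ := by
    rw [iSup_bool_eq]; exact hc.sup_eq_top
  have hEinv : ∀ i, (E i).map N ≤ E i := fun i => by
    rintro _ ⟨x, hx, rfl⟩
    cases i
    · exact hYinv x hx
    · exact hinv x hx
  have hDN : X.map N ≤ X := hEinv true
  have hN0 : X.map (N ^ p) = ⊥ := by rw [pow_eq_zero_of_type ht hp, Submodule.map_zero]
  refine ⟨jordanType N X p, (count_summand_le hE htop hEinv true p).trans (ht.jordanType_le p),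
    sum_jordanType_eq hDN hN0, fun e he => ?_, fun hμ h1 => ?_⟩
  · rcases e with _ | e
    · rw [count_jordanType_zero]; exact ⟨0, rfl⟩
    rw [count_jordanType]
    split
    swap
    · exact ⟨0, rfl⟩
    have hA' : ∀ x y : X, (LinearMap.BilinForm.restrict B X) (((1 + N).restrict (fun z hz => add_mem hz (hinv z hz))) x)
        (((1 + N).restrict (fun z hz => add_mem hz (hinv z hz))) y) = (LinearMap.BilinForm.restrict B X) x y :=
      fun x y => hA x y
    have hsub : ((1 + N).restrict (fun z hz => add_mem hz (hinv z hz)) : Module.End F X) - 1 =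
        N.restrict hinv := LinearMap.ext fun z => Subtype.ext (by simp)
    have hev : ∀ i, Even (rankDim N X (i + i + 1)) := fun i => by
      rw [← rankDim_restrict hinv, ← hsub]
      refine even_rankDim_isSymm h2 (B := LinearMap.BilinForm.restrict B X) (fun x y => hsymm x y) hres.1 hA' ?_ i
      rw [hsub]
      obtain ⟨k, hk⟩ := hnil
      refine ⟨k, LinearMap.ext fun z => Subtype.ext ?_⟩
      rw [Module.End.pow_restrict, LinearMap.restrict_apply]
      simp [hk]
    obtain ⟨i, hi⟩ := he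
    obtain ⟨j, rfl⟩ : ∃ j, i = j + 1 := ⟨i - 1, by omega⟩
    obtain rfl : e = j + j + 1 := by omega
    have r1 := rankDim_succ N X (j + j + 1)
    have r2 := rankDim_succ N X (j + j + 1 + 1)
    have h3 := kerDim_succ_le hDN (j + j + 1)
    obtain ⟨u, hu⟩ := hev j
    obtain ⟨v, hv⟩ := hev (j + 1)
    rw [show j + 1 + (j + 1) + 1 = j + j + 1 + 1 + 1 by omega] at hv
    exact ⟨u + v - rankDim N X (j + j + 1 + 1), by omega⟩
  · have hsq : N ^ 2 = 0 := pow_eq_zero_of_type ht hμ
    refine ⟨X.map N, hDN, ?_, ?_⟩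
    · rintro _ ⟨x, -, rfl⟩
      have hNN : N (N x) = 0 := by
        rw [← Module.End.mul_apply, ← pow_two, hsq, LinearMap.zero_apply]
      have hw := hA (N x) x
      rw [hNN, add_zero, map_add, add_eq_left] at hw
      simp only [hB, QuadraticMap.polarBilin_apply_apply, QuadraticMap.polar_self, two_smul] at hw
      exact (mul_eq_zero.1 ((two_mul _).trans hw)).resolve_left h2
    · rcases Nat.eq_zero_or_pos p with rfl | hp0
      · have h : X = ⊥ := by
          have := hN0
          rwa [pow_zero, Module.End.one_eq_id, Submodule.map_id] at this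
        subst h
        simp
      rw [count_jordanType, if_pos hp0] at h1
      have r0 := rankDim_succ N X 0
      have r1 := rankDim_succ N X 1
      have h3 := kerDim_succ_le hDN 0
      have z2 : rankDim N X 2 = 0 := by rw [rankDim, hsq, Submodule.map_zero, finrank_bot]
      have e1 : rankDim N X 1 = finrank F ↥(X.map N) := by rw [rankDim, pow_one]
      have e0 : rankDim N X 0 = finrank F X := by
        rw [rankDim, pow_zero, Module.End.one_eq_id, Submodule.map_id]
      simp only [show (0 : ℕ) + 1 = 1 from rfl, show (1 : ℕ) + 1 = 2 from rfl] at r0 r1 h1 h3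
      omega

/-! ### Elements of order `p` -/

section Coord
variable [Fintype F] {ι : Type} [Fintype ι] [DecidableEq ι]

/-- If all elements of order `p` of `Ω(Q)` fix a subspace with a property, then each realisable type gives one. -/
theorem exists_fixed {p : ℕ} [Fact p.Prime] [CharP F p] (hp : p ≠ 2) (Q : QuadraticForm F (ι → F))
    (hQ : (QuadraticMap.polarBilin Q).Nondegenerate) (P : Submodule F (ι → F) → Prop)
    (h : ∀ x : GL ι F, x ∈ Cfsg.Geo.omegaGL ⇑Q → x ^ p = 1 → x ≠ 1 →
      (∀ z : F, (x : Matrix ι ι F) ≠ z • 1) →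
      ∃ W, P W ∧ W.map (Matrix.toLin' (x : Matrix ι ι F)) ≤ W)
    {μ : Multiset ℕ} (hle : ∀ e ∈ μ, 1 ≤ e ∧ e ≤ p) (hev : ∀ j, Even j → Even (μ.count j))
    (hsum : μ.sum = Fintype.card ι) (hbig : ∃ e ∈ μ, 1 < e)
    (hok : (∃ e ∈ μ, Odd e) ∨
      ∃ U : Submodule F (ι → F), (∀ x ∈ U, Q x = 0) ∧ 2 * finrank F U = Fintype.card ι) :
    ∃ (N : Module.End F (ι → F)) (W : Submodule F (ι → F)), (∀ x, Q (x + N x) = Q x) ∧ IsNilpotent N ∧
      HasType N μ ∧ P W ∧ ∀ x ∈ W, N x ∈ W := by
  have hd : finrank F (ι → F) = Fintype.card ι := Module.finrank_fintype_fun_eq_card F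
  have h2 : (2 : F) ≠ 0 := by
    intro h
    have h' : p ∣ 2 := (CharP.cast_eq_zero_iff F p 2).1 (by simpa using h)
    have := Nat.le_of_dvd two_pos h'
    have := (Fact.out : p.Prime).two_le
    omega
  obtain ⟨N, hiso, hnil, ht⟩ := realize h2 hQ μ (fun j hj => (hle j hj).1) hev (hsum.trans hd.symm)
    (by rwa [hd])
  have hNp : N ^ p = 0 := pow_eq_zero_of_type ht fun e he => (hle e he).2
  have hp1 : (1 + N) ^ p = 1 := by
    obtain ⟨r, hr⟩ := (Commute.one_left N).exists_add_pow_prime_eq (Fact.out : p.Prime)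
    have hp0 : (p : Module.End F (ι → F)) = 0 := by
      rw [← map_natCast (algebraMap F (Module.End F (ι → F))), CharP.cast_eq_zero F p, map_zero]
    rw [hr, hNp, hp0, one_pow, add_zero, zero_mul, zero_mul, zero_mul, add_zero]
  have hu : IsUnit (Matrix.toLinAlgEquiv'.symm (1 + N)) := hnil.isUnit_one_add.map _
  set x : GL ι F := hu.unit with hx
  have hxN : ∀ v, Matrix.toLin' (x : Matrix ι ι F) v = v + N v := fun v => by
    show Matrix.toLinAlgEquiv' (x : Matrix ι ι F) v = _
    rw [hx, IsUnit.unit_spec, AlgEquiv.apply_symm_apply]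
    rfl
  have hxp : x ^ p = 1 := Units.ext (by
    rw [Units.val_pow_eq_pow_val, hx, IsUnit.unit_spec, ← map_pow, hp1, map_one, Units.val_one])
  have hns : ∀ z : F, (x : Matrix ι ι F) ≠ z • 1 := by
    intro z hz
    have hN : ∀ v, N v = (z - 1) • v := fun v => by
      have := hxN v
      rw [hz, map_smul, LinearMap.smul_apply, Matrix.toLin'_one, LinearMap.id_apply] at this
      rw [sub_smul, one_smul, this]; abel
    have hne : N ≠ 0 := by
      intro h0
      have h1 := ht 1
      rw [rankDim_eq_range, h0, pow_one, LinearMap.range_zero, finrank_bot, eq_comm,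
        Multiset.sum_eq_zero_iff] at h1
      obtain ⟨e, he, he1⟩ := hbig
      have := h1 _ (Multiset.mem_map_of_mem _ he)
      omega
    have hzz : z - 1 ≠ 0 := fun h0 => hne (LinearMap.ext fun v => by rw [hN, h0, zero_smul]; rfl)
    have hpow : ∀ k v, (N ^ k) v = (z - 1) ^ k • v := by
      intro k
      induction k with
      | zero => intro v; simp
      | succ k ih => intro v; rw [pow_succ', Module.End.mul_apply, ih, map_smul, hN, smul_smul, pow_succ]
    apply hne
    refine LinearMap.ext fun v => ?_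
    have := hpow p v
    rw [hNp, LinearMap.zero_apply, eq_comm, smul_eq_zero] at this
    rw [this.resolve_left (pow_ne_zero _ hzz)]
    simp
  have hmem : x ∈ Cfsg.isometryGroup F ⇑Q := fun v => by
    intro w
    show Q (Matrix.toLin' (x : Matrix ι ι F) v) = Q v
    rw [hxN, hiso]
  have hom : x ∈ Cfsg.Geo.omegaGL ⇑Q := by
    refine ⟨⟨x, hmem⟩, ?_, rfl⟩
    have hq : Fintype.card F ≠ 2 := by
      intro hq
      apply h2
      have := FiniteField.cast_card_eq_zero F
      rwa [hq, Nat.cast_ofNat] at this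
    have h0 : (⟨x, hmem⟩ : Cfsg.isometryGroup F ⇑Q) ^ p = 1 := Subtype.ext hxp
    have h1 := of_mul_self hQ (Or.inl hq) ⟨x, hmem⟩
    obtain ⟨k, hk⟩ := (Fact.out : p.Prime).odd_of_ne_two hp
    have h3 : Abelianization.of (⟨x, hmem⟩ : Cfsg.isometryGroup F ⇑Q) ^ p = 1 := by
      rw [← map_pow, h0, map_one]
    rw [hk, pow_succ, pow_mul, pow_two, h1, one_pow, one_mul] at h3
    exact (Abelianization.ker_of (Cfsg.isometryGroup F ⇑Q)).le (MonoidHom.mem_ker.2 h3)
  obtain ⟨W, hW, hWm⟩ := h x hom hxp (fun h1 => hns 1 (by rw [h1, one_smul]; rfl)) hns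
  refine ⟨N, W, hiso, hnil, ht, hW, fun v hv => ?_⟩
  have hm := hWm (Submodule.mem_map_of_mem hv)
  rw [hxN] at hm
  simpa using W.sub_mem hm hv

/-- The main use: a subspace of dimension `m` gives a part of the partition. -/
theorem exists_part {p : ℕ} [Fact p.Prime] [CharP F p] (hp : p ≠ 2) (Q : QuadraticForm F (ι → F))
    (hQ : (QuadraticMap.polarBilin Q).Nondegenerate) (P : Submodule F (ι → F) → Prop) {m : ℕ}
    (hP : ∀ W, P W → finrank F W = m ∧ Cfsg.Geo.IsNondegenerateOn (QuadraticMap.polar ⇑Q) W)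
    (h : ∀ x : GL ι F, x ∈ Cfsg.Geo.omegaGL ⇑Q → x ^ p = 1 → x ≠ 1 →
      (∀ z : F, (x : Matrix ι ι F) ≠ z • 1) →
      ∃ W, P W ∧ W.map (Matrix.toLin' (x : Matrix ι ι F)) ≤ W)
    (hm : m ≤ Fintype.card ι) {μ : Multiset ℕ} (hle : ∀ e ∈ μ, 0 < e ∧ e ≤ p)
    (hev : ∀ j, Even j → Even (μ.count j)) (hsum : μ.sum = Fintype.card ι)
    (hok : (∃ e ∈ μ, Odd e) ∨
      ∃ U : Submodule F (ι → F), (∀ x ∈ U, Q x = 0) ∧ 2 * finrank F U = Fintype.card ι) :
    ∃ ν : Multiset ℕ, ν ≤ μ ∧ ν.sum = m ∧ ∀ e, Even e → Even (ν.count e) := by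
  by_cases hbig : ∃ e ∈ μ, 1 < e
  · obtain ⟨N, W, hiso, hnil, ht, hW, hinv⟩ := exists_fixed hp Q hQ P h hle hev hsum hbig hok
    obtain ⟨hWd, hWn⟩ := hP W hW
    have h2 : (2 : F) ≠ 0 := by
      intro h
      have h' : p ∣ 2 := (CharP.cast_eq_zero_iff F p 2).1 (by simpa using h)
      have := Nat.le_of_dvd two_pos h'
      have := (Fact.out : p.Prime).two_le
      omega
    obtain ⟨ν, h1, h2, h3, -⟩ := sub_type h2 hQ hiso hnil ht (fun e he => (hle e he).2)
      (fun w hw hw0 => (hWn w hw hw0).1) hinv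
    exact ⟨ν, h1, h2.trans hWd, h3⟩
  · push Not at hbig
    have hμ : μ = Multiset.replicate (Fintype.card ι) 1 := by
      have hall : μ = Multiset.replicate (Multiset.card μ) 1 := Multiset.eq_replicate_card.2 fun e he => by
        have := (hle e he).1
        have := hbig e he
        omega
      rw [hall, Multiset.sum_replicate, smul_eq_mul, mul_one] at hsum
      rwa [hsum] at hall
    refine ⟨Multiset.replicate m 1, hμ ▸ (Multiset.replicate_le_replicate 1).2 hm, by simp, fun e he => ?_⟩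
    rw [Multiset.count_replicate, if_neg (by rintro rfl; exact Nat.not_even_one he)]
    exact ⟨0, rfl⟩

end Coord

/-! ### Two partitions -/

/-- A pair of equal even parts may be traded for two odd parts. -/
theorem part_of_traded {μ μ' : Multiset ℕ} {e m : ℕ} (hμ : μ = e ::ₘ e ::ₘ μ') (he : Even e) (he0 : 0 < e)
    (hall : ∀ j ∈ μ, Even j) (hm : Even m)
    (h : ∃ ν : Multiset ℕ, ν ≤ (e + 1) ::ₘ (e - 1) ::ₘ μ' ∧ ν.sum = m ∧ ∀ j, Even j → Even (ν.count j)) :
    ∃ ν : Multiset ℕ, ν ≤ μ ∧ ν.sum = m ∧ ∀ j, Even j → Even (ν.count j) := by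
  classical
  obtain ⟨ν, hle, hs, hev⟩ := h
  have hall' : ∀ j ∈ μ', Even j := fun j hj => hall j (by rw [hμ]; simp [hj])
  have hn : ∀ {s : Multiset ℕ}, s ≤ μ' → Even s.sum := fun {s} hsle => by
    have : ∀ j ∈ s, 2 ∣ j := fun j hj => even_iff_two_dvd.1 (hall' j (Multiset.mem_of_le hsle hj))
    exact even_iff_two_dvd.2 (Multiset.dvd_sum this)
  have hodd1 : ¬ Even (e + 1) := by simp [Nat.even_add_one, he]
  have hodd2 : ¬ Even (e - 1) := by rw [Nat.even_sub he0]; simp [he]
  have hle0 : μ' ≤ μ := by rw [hμ]; exact (Multiset.le_cons_self _ _).trans (Multiset.le_cons_self _ _)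
  by_cases h1 : (e + 1) ∈ ν
  · obtain ⟨ν₁, rfl⟩ := Multiset.exists_cons_of_mem h1
    have hle1 := (Multiset.cons_le_cons_iff _).1 hle
    by_cases h2 : (e - 1) ∈ ν₁
    · obtain ⟨ν₂, rfl⟩ := Multiset.exists_cons_of_mem h2
      have hle2 := (Multiset.cons_le_cons_iff _).1 hle1
      refine ⟨e ::ₘ e ::ₘ ν₂, hμ ▸ Multiset.cons_le_cons _ (Multiset.cons_le_cons _ hle2), ?_, fun j hj => ?_⟩
      · simp only [Multiset.sum_cons] at hs ⊢; omega
      · have := hev j hj
        simp only [Multiset.count_cons] at this ⊢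
        rw [if_neg (by rintro rfl; exact hodd2 hj), if_neg (by rintro rfl; exact hodd1 hj), add_zero,
          add_zero] at this
        split_ifs
        · obtain ⟨c, hc⟩ := this; exact ⟨c + 1, by omega⟩
        · simpa using this
    · have hle2 : ν₁ ≤ μ' := (Multiset.le_cons_of_notMem h2).1 hle1
      rw [Multiset.sum_cons] at hs
      exact absurd ((Nat.even_add.1 (hs ▸ hm)).2 (hn hle2)) hodd1
  · have hle1 := (Multiset.le_cons_of_notMem h1).1 hle
    by_cases h2 : (e - 1) ∈ ν
    · obtain ⟨ν₂, rfl⟩ := Multiset.exists_cons_of_mem h2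
      have hle2 := (Multiset.cons_le_cons_iff _).1 hle1
      rw [Multiset.sum_cons] at hs
      exact absurd ((Nat.even_add.1 (hs ▸ hm)).2 (hn hle2)) hodd2
    · exact ⟨ν, ((Multiset.le_cons_of_notMem h2).1 hle1).trans hle0, hs, hev⟩

end Cfsg.Agent.QForm.UnipFix

namespace Cfsg.Agent.QForm.UnipFix

theorem minusForm_sep {F : Type*} [Field F] {a b : F} (h2 : (2 : F) ≠ 0) (m : ℕ)
    (hab : ∀ x y : F, x ^ 2 + a * x * y + b * y ^ 2 = 0 → x = 0 ∧ y = 0) :
    (QuadraticMap.polarBilin (minusForm F m a b)).Nondegenerate := by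
  classical
  refine (LinearMap.BilinForm.nondegenerate_iff_det_ne_zero (Pi.basisFun F _)).2 ?_
  rw [← gram_eq_toMatrix, det_gram_minus]
  exact mul_ne_zero (pow_ne_zero _ (neg_ne_zero.2 one_ne_zero))
    fun h => not_isSquare_disc h2 hab ⟨0, by rw [h, mul_zero]⟩

/-- An odd part among twos. -/
theorem four_dvd_of_le_cons {e k m : ℕ} {ν : Multiset ℕ} (he : Odd e) (hm : Even m)
    (hle : ν ≤ e ::ₘ Multiset.replicate k 2) (hs : ν.sum = m) (hev : ∀ j, Even j → Even (ν.count j)) :
    m % 4 = 0 := by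
  by_cases h : e ∈ ν
  · obtain ⟨ν₁, rfl⟩ := Multiset.exists_cons_of_mem h
    obtain ⟨j, -, rfl⟩ := Multiset.le_replicate_iff.1 ((Multiset.cons_le_cons_iff _).1 hle)
    rw [Multiset.sum_cons, Multiset.sum_replicate, smul_eq_mul] at hs
    obtain ⟨u, rfl⟩ := he
    obtain ⟨v, rfl⟩ := hm
    omega
  · obtain ⟨j, -, rfl⟩ := Multiset.le_replicate_iff.1 ((Multiset.le_cons_of_notMem h).1 hle)
    have := hev 2 even_two
    rw [Multiset.count_replicate_self] at this
    obtain ⟨v, rfl⟩ := this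
    rw [Multiset.sum_replicate, smul_eq_mul] at hs
    omega

end Cfsg.Agent.QForm.UnipFix
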