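/-
Orthogonal direct sums: the block embeddings of the isometry groups of the summands.
-/
import Mathlib
import Cfsg.Prelude.Def_Classical

set_option autoImplicit false

namespace Cfsg.Agent.QForm

open scoped Matrix

variable {F : Type*} [Field F] {ι κ : Type} [Fintype ι] [DecidableEq ι] [Fintype κ] [DecidableEq κ]

/-- The orthogonal sum of two functions. -/
abbrev orthSum (Q₁ : (ι → F) → F) (Q₂ : (κ → F) → F) : (ι ⊕ κ → F) → F :=
  fun v => Q₁ (v ∘ Sum.inl) + Q₂ (v ∘ Sum.inr)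

/-- Block-diagonal invertible matrices, as a homomorphism. -/
def blockDiag : GL ι F × GL κ F →* GL (ι ⊕ κ) F where
  toFun g :=
    { val := Matrix.fromBlocks (g.1 : Matrix ι ι F) 0 0 (g.2 : Matrix κ κ F)
      inv := Matrix.fromBlocks (↑g.1⁻¹ : Matrix ι ι F) 0 0 (↑g.2⁻¹ : Matrix κ κ F)
      val_inv := by simp [Matrix.fromBlocks_multiply, Units.mul_inv]
      inv_val := by simp [Matrix.fromBlocks_multiply, Units.inv_mul] }
  map_one' := Units.ext (by simp)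
  map_mul' g h := Units.ext (by simp [Matrix.fromBlocks_multiply])

theorem blockDiag_val (g : GL ι F × GL κ F) :
    (blockDiag g : Matrix (ι ⊕ κ) (ι ⊕ κ) F) = Matrix.fromBlocks g.1 0 0 g.2 := rfl

/-- `O(Q₁) × O(Q₂) → O(Q₁ ⊕ Q₂)`. -/
def sumHom (Q₁ : (ι → F) → F) (Q₂ : (κ → F) → F) :
    ↥(isometryGroup F Q₁) × ↥(isometryGroup F Q₂) →* ↥(isometryGroup F (orthSum Q₁ Q₂)) :=
  (blockDiag.comp ((isometryGroup F Q₁).subtype.prodMap (isometryGroup F Q₂).subtype)).codRestrict _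
    fun g v _ => by
      show Q₁ ((Matrix.fromBlocks _ 0 0 _ *ᵥ v) ∘ Sum.inl) + Q₂ ((Matrix.fromBlocks _ 0 0 _ *ᵥ v) ∘ Sum.inr) = _
      rw [Matrix.fromBlocks_mulVec, Sum.elim_comp_inl, Sum.elim_comp_inr, Matrix.zero_mulVec,
        Matrix.zero_mulVec, add_zero, zero_add]
      exact congrArg₂ (· + ·) (g.1.2 (v ∘ Sum.inl) (v ∘ Sum.inl)) (g.2.2 (v ∘ Sum.inr) (v ∘ Sum.inr))

theorem sumHom_val (Q₁ : (ι → F) → F) (Q₂ : (κ → F) → F)
    (g : ↥(isometryGroup F Q₁) × ↥(isometryGroup F Q₂)) :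
    ((sumHom Q₁ Q₂ g : GL (ι ⊕ κ) F) : Matrix (ι ⊕ κ) (ι ⊕ κ) F) =
      Matrix.fromBlocks ((g.1 : GL ι F) : Matrix ι ι F) 0 0 ((g.2 : GL κ F) : Matrix κ κ F) := rfl

theorem sumHom_mem_omega (Q₁ : (ι → F) → F) (Q₂ : (κ → F) → F) {g₁ : ↥(isometryGroup F Q₁)}
    {g₂ : ↥(isometryGroup F Q₂)} (h₁ : g₁ ∈ Omega F Q₁) (h₂ : g₂ ∈ Omega F Q₂) :
    sumHom Q₁ Q₂ (g₁, g₂) ∈ Omega F (orthSum Q₁ Q₂) := by
  have h1 := commutator_map_le (sumHom Q₁ Q₂ |>.comp (MonoidHom.inl _ _))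
  have h2 := commutator_map_le (sumHom Q₁ Q₂ |>.comp (MonoidHom.inr _ _))
  have := mul_mem (h1 (Subgroup.mem_map_of_mem _ h₁)) (h2 (Subgroup.mem_map_of_mem _ h₂))
  simpa [← map_mul] using this
where
  commutator_map_le {G H : Type _} [Group G] [Group H] (f : G →* H) :
      (commutator G).map f ≤ commutator H := by
    rw [commutator_def, Subgroup.map_commutator]
    exact Subgroup.commutator_mono le_top le_top

end Cfsg.Agent.QForm
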