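/-
The orthogonal sum of two quadratic forms on `ι → F` and `κ → F`, and its reflections coming from a summand.
-/
import Mathlib
import Cfsg.Agent.Lib.QForm.OrthSum
import Cfsg.Agent.Lib.QForm.Spinor

set_option autoImplicit false

namespace Cfsg.Agent.QForm

open scoped Matrix

variable {F : Type*} [Field F] {ι κ : Type} [Fintype ι] [DecidableEq ι] [Fintype κ] [DecidableEq κ]
  (Q₁ : QuadraticForm F (ι → F)) (Q₂ : QuadraticForm F (κ → F))

/-- The orthogonal sum as a quadratic form. -/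
noncomputable def sumForm : QuadraticForm F (ι ⊕ κ → F) :=
  Q₁.comp (LinearMap.funLeft F F Sum.inl) + Q₂.comp (LinearMap.funLeft F F Sum.inr)

theorem coe_sumForm : ⇑(sumForm Q₁ Q₂) = orthSum ⇑Q₁ ⇑Q₂ := rfl

theorem polar_sumForm (x y : ι ⊕ κ → F) :
    QuadraticMap.polar ⇑(sumForm Q₁ Q₂) x y = QuadraticMap.polar ⇑Q₁ (x ∘ Sum.inl) (y ∘ Sum.inl) +
      QuadraticMap.polar ⇑Q₂ (x ∘ Sum.inr) (y ∘ Sum.inr) := by
  simp only [QuadraticMap.polar, coe_sumForm, orthSum]
  rw [show (x + y) ∘ Sum.inl = x ∘ Sum.inl + y ∘ Sum.inl from rfl,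
    show (x + y) ∘ Sum.inr = x ∘ Sum.inr + y ∘ Sum.inr from rfl]
  ring

theorem sumForm_nondegenerate (h₁ : (QuadraticMap.polarBilin Q₁).Nondegenerate)
    (h₂ : (QuadraticMap.polarBilin Q₂).Nondegenerate) :
    (QuadraticMap.polarBilin (sumForm Q₁ Q₂)).Nondegenerate := by
  have hl : ∀ x, (∀ y, QuadraticMap.polar ⇑(sumForm Q₁ Q₂) x y = 0) → x = 0 := by
    intro x hx
    have e₁ : x ∘ Sum.inl = 0 := h₁.1 _ fun y => by
      have := hx (Sum.elim y 0)
      rw [polar_sumForm, Sum.elim_comp_inl, Sum.elim_comp_inr, QuadraticMap.polar_zero_right, add_zero] at this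
      exact this
    have e₂ : x ∘ Sum.inr = 0 := h₂.1 _ fun y => by
      have := hx (Sum.elim 0 y)
      rw [polar_sumForm, Sum.elim_comp_inl, Sum.elim_comp_inr, QuadraticMap.polar_zero_right, zero_add] at this
      exact this
    funext k
    rcases k with i | j
    · exact congrFun e₁ i
    · exact congrFun e₂ j
  refine ⟨hl, fun y hy => hl y fun x => ?_⟩
  rw [QuadraticMap.polar_comm]
  exact hy x

theorem sumForm_inl (v : ι → F) : sumForm Q₁ Q₂ (Sum.elim v 0) = Q₁ v := by
  show Q₁ (Sum.elim v (0 : κ → F) ∘ Sum.inl) + Q₂ (Sum.elim v (0 : κ → F) ∘ Sum.inr) = Q₁ v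
  rw [Sum.elim_comp_inl, Sum.elim_comp_inr, QuadraticMap.map_zero, add_zero]

theorem reflectionMatrix_inl {v : ι → F} :
    reflectionMatrix ⇑(sumForm Q₁ Q₂) (Sum.elim v 0) = Matrix.fromBlocks (reflectionMatrix ⇑Q₁ v) 0 0 1 := by
  refine Matrix.ext_iff_mulVec.2 fun x => ?_
  rw [reflectionMatrix_mulVec, Matrix.fromBlocks_mulVec, reflectionMatrix_mulVec, sumForm_inl, polar_sumForm,
    Sum.elim_comp_inl, Sum.elim_comp_inr, QuadraticMap.polar_zero_left, add_zero, Matrix.zero_mulVec,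
    Matrix.zero_mulVec, Matrix.one_mulVec, add_zero, zero_add]
  funext k
  rcases k with i | j <;> simp

/-- A product of reflections of a summand, extended by the identity. -/
theorem prod_reflectionMatrix_inl (vs : List (ι → F)) :
    ((vs.map fun v => Sum.elim v (0 : κ → F)).map fun v => reflectionMatrix ⇑(sumForm Q₁ Q₂) v).prod =
      Matrix.fromBlocks ((vs.map fun v => reflectionMatrix ⇑Q₁ v).prod) 0 0 1 := by
  induction vs with
  | nil => simp
  | cons v vs ih =>
    rw [List.map_cons, List.map_cons, List.prod_cons, ih, reflectionMatrix_inl, Matrix.fromBlocks_multiply,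
      List.map_cons, List.prod_cons]
    simp

end Cfsg.Agent.QForm
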